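import Groth.Agent.EtaleBase.NormalConst
import Groth.Agent.SpectralTopology.Spectral
import Groth.Agent.PropsBasic2.StalkFlat
import Mathlib.AlgebraicGeometry.Morphisms.QuasiCompact

/-!
Constant sheaves on normal schemes and restriction to quasi-compact dense open subschemes.
-/

set_option autoImplicit false

universe u

open CategoryTheory CategoryTheory.Limits AlgebraicGeometry Opposite TopologicalSpace

namespace Groth.EtPbc.NormalOpen

open Groth.EtaleBase Groth.EtaleBase.ConnFib Groth.EtaleBase.LocConst Groth.EtaleBase.NormalConst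

/-- A normal domain has normal spectrum. -/
lemma isNormalScheme_Spec_domain (R : Type u) [CommRing R] [IsDomain R] [IsIntegrallyClosed R] :
    Pi1.IsNormalScheme (Spec (CommRingCat.of R)) := fun x => by
  let e := (IsLocalization.algEquiv x.asIdeal.primeCompl
    ((Spec.structureSheaf R).presheaf.stalk x) (Localization.AtPrime x.asIdeal)).toRingEquiv
  have h1 : IsDomain (Localization.AtPrime x.asIdeal) :=
    IsLocalization.isDomain_localization x.asIdeal.primeCompl_le_nonZeroDivisors
  have h2 : IsIntegrallyClosed (Localization.AtPrime x.asIdeal) :=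
    isIntegrallyClosed_of_isLocalization _ x.asIdeal.primeCompl x.asIdeal.primeCompl_le_nonZeroDivisors
  exact ⟨e.toMulEquiv.isDomain_iff.mpr h1, @IsIntegrallyClosed.of_equiv _ _ _ _ e.symm h2⟩

variable {X Y : Scheme.{u}}

/-- Etale schemes over normal schemes are normal. -/
theorem isNormalScheme_of_etale (hX : Pi1.IsNormalScheme X) (f : Y ⟶ X) [Etale f] :
    Pi1.IsNormalScheme Y := fun y => by
  haveI := (hX (f y)).1
  haveI := (hX (f y)).2
  haveI := Groth.PropsBasic2.flat_fromSpecStalk (X := X) (f y)
  let S := Spec (X.presheaf.stalk (f y))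
  haveI : IsIntegral S := inferInstanceAs (IsIntegral (Spec (X.presheaf.stalk (f y))))
  let p := pullback.fst f (X.fromSpecStalk (f y))
  obtain ⟨y', hy', -⟩ := Scheme.Pullback.exists_preimage_pullback (f := f) (g := X.fromSpecStalk (f y)) y
    (IsLocalRing.closedPoint (X.presheaf.stalk (f y))) Scheme.fromSpecStalk_closedPoint.symm
  haveI : Flat p := MorphismProperty.pullback_fst _ _ inferInstance
  haveI : IsPreimmersion p := MorphismProperty.pullback_fst _ _ inferInstance
  haveI : Etale (pullback.snd f (X.fromSpecStalk (f y))) := MorphismProperty.pullback_snd _ _ inferInstance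
  have hS : Pi1.IsNormalScheme S := isNormalScheme_Spec_domain (X.presheaf.stalk (f y))
  obtain ⟨h1, h2⟩ := Groth.Pi1Normal.isNormalScheme_of_etale hS (pullback.snd f (X.fromSpecStalk (f y))) y'
  have hp : Function.Bijective (p.stalkMap y').hom := by
    refine ⟨?_, p.stalkMap_surjective y'⟩
    algebraize [(p.stalkMap y').hom]
    have : Module.FaithfullyFlat (Y.presheaf.stalk (p y')) ((pullback f (X.fromSpecStalk (f y))).presheaf.stalk y') :=
      @Module.FaithfullyFlat.of_flat_of_isLocalHom _ _ _ _ _ _ _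
        (Flat.stalkMap p y') (p.toLRSHom.prop y')
    exact ‹RingHom.FaithfullyFlat _›.injective
  let e := RingEquiv.ofBijective _ hp
  have he : p y' = y := hy'
  rw [← he]
  exact ⟨e.toMulEquiv.isDomain_iff.mpr h1, @IsIntegrallyClosed.of_equiv _ _ _ _ e.symm h2⟩

/-- The generizations of a point with domain local ring have a greatest one. -/
lemma exists_generic_generization (v : Y) (hv : IsDomain (Y.presheaf.stalk v)) :
    ∃ g : Y, g ⤳ v ∧ ∀ y, y ⤳ v → g ⤳ y := by
  let f := Y.fromSpecStalk v
  let b : ↥(Spec (Y.presheaf.stalk v)) := ⟨⊥, Ideal.isPrime_bot⟩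
  refine ⟨f b, ?_, fun y hy => ?_⟩
  · have : f b ∈ {y | y ⤳ v} := by rw [← Scheme.range_fromSpecStalk]; exact ⟨b, rfl⟩
    exact this
  · obtain ⟨p, rfl⟩ : y ∈ Set.range f := by rw [Scheme.range_fromSpecStalk]; exact hy
    exact ((PrimeSpectrum.le_iff_specializes b p).1 (bot_le : (⊥ : Ideal _) ≤ p.asIdeal)).map f.continuous

/-- Points of an affine open have generizations in a dense quasi-compact open. -/
lemma exists_specializes {V' : Y.Opens} (hV : IsAffineOpen V') {E : Set Y} (hEc : IsCompact E) (hEo : IsOpen E)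
    (hE : E ⊆ V') {v : Y} (hv : v ∈ V') (h : v ∈ closure E) : ∃ e ∈ E, e ⤳ v := by
  haveI : SpectralSpace ↥(Spec Γ(Y, V')) := inferInstanceAs (SpectralSpace (PrimeSpectrum Γ(Y, V')))
  let ι := hV.fromSpec
  let E' : Set ↥(Spec Γ(Y, V')) := ι ⁻¹' E
  have hE'o : IsOpen E' := hEo.preimage ι.continuous
  have hr : Set.range ι = V' := hV.range_fromSpec
  have hE'c : IsCompact E' := ι.isOpenEmbedding.isEmbedding.isInducing.isCompact_preimage' hEc (by rw [hr]; exact hE)
  obtain ⟨v', rfl⟩ : v ∈ Set.range ι := by rw [hr]; exact hv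
  have hv' : v' ∈ closure E' := by
    have e : ι '' E' = E := by
      rw [Set.image_preimage_eq_inter_range, hr]
      exact Set.inter_eq_self_of_subset_left hE
    rw [ι.isOpenEmbedding.isEmbedding.closure_eq_preimage_closure_image]
    show ι v' ∈ closure (ι '' E')
    rw [e]
    exact h
  obtain ⟨e, he, hev⟩ := Groth.SpectralTopology.exists_specializes_of_mem_closure
    (Groth.SpectralTopology.isClosed_ct hE'o hE'c) hv'
  exact ⟨ι e, he, hev.map ι.continuous⟩

variable {T : Scheme.{u}} (j : T ⟶ X) [IsOpenImmersion j] [QuasiCompact j] (F : EtCoh.Ab X)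
  {M : Type (u + 1)} [AddCommGroup M] (s : M →+ F.obj.obj (op (EtCoh.top X)))

set_option backward.isDefEq.respectTransparency.types false in
/-- The unit is an isomorphism on sheaves with constant stalks. -/
theorem isIso_unit (hX : Pi1.IsNormalScheme X) (hj : Dense (Set.range j.base))
    (hs : StalkBij F (EtCoh.top X) s) : IsIso ((EtCoh.pullPushAdj j).unit.app F) := by
  let G := (EtCoh.pull j).obj F
  let r := (un j F (EtCoh.top X)).hom.comp s
  have hr : StalkBij G ((EtCoh.bc j).obj (EtCoh.top X)) r := stalkBij_un j F s hs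
  have hinj : ∀ V : X.Etale, Function.Injective (un j F V) := fun V => by
    have : AlgebraicGeometry.Etale V.hom := V.prop
    rw [injective_iff_map_eq_zero]
    intro a ha
    refine section_eq_zero_of_germs F V a fun v => ?_
    have hd : Dense (Set.range (pullback.fst V.hom j).base) := by
      rw [Scheme.Pullback.range_fst]
      exact hj.preimage V.hom.isOpenMap
    exact (isClosed_vanishSet F (EtCoh.top X) s hs (toTop V) a).closure_subset_iff.2
      ((unit_eq_zero_iff j F V a).1 ha) (hd v)
  have : Mono ((EtCoh.pullPushAdj j).unit.app F) :=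
    (Sheaf.Hom.mono_iff_presheaf_mono _ _ _).2 (NatTrans.mono_iff_mono_app _ |>.2 fun V =>
      (AddCommGrpCat.mono_iff_injective _).2 (hinj V.unop))
  have : Epi ((EtCoh.pullPushAdj j).unit.app F) := by
    refine (Sheaf.isLocallySurjective_iff_epi' _ _).1 ⟨fun {V} σ => ?_⟩
    rw [mem_topology_iff]
    intro v
    let σ' : G.obj.obj (op ((EtCoh.bc j).obj V)) := σ
    have : AlgebraicGeometry.Etale V.hom := V.prop
    let f : V.left ⟶ X := V.hom
    let π : ((EtCoh.bc j).obj V).left ⟶ V.left := pullback.fst V.hom j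
    haveI : IsOpenImmersion π := MorphismProperty.pullback_fst _ _ ‹_›
    haveI : QuasiCompact π := MorphismProperty.pullback_fst _ _ ‹_›
    have hd : Dense (Set.range π.base) := by
      rw [show Set.range π.base = V.hom.base ⁻¹' Set.range j.base from Scheme.Pullback.range_fst V.hom j]
      exact hj.preimage V.hom.isOpenMap
    obtain ⟨g, hgv, hgmin⟩ := exists_generic_generization v ((isNormalScheme_of_etale hX f) v).1
    obtain ⟨_, ⟨V', hV', rfl⟩, hvV', -⟩ :=
      V.left.isBasis_affineOpens.exists_subset_of_mem_open (Set.mem_univ v) isOpen_univ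
    have hR : IsCompact (π.base '' (π.base ⁻¹' (V' : Set V.left))) :=
      (π.isCompact_preimage hV'.isCompact).image π.continuous
    obtain ⟨e₀, ⟨z₀, hz₀V, rfl⟩, he₀⟩ := exists_specializes hV' hR
      (π.isOpenEmbedding.isOpenMap _ (V'.isOpen.preimage π.continuous)) (Set.image_preimage_subset _ _) hvV' (by
        rw [Set.image_preimage_eq_inter_range]
        exact hd.open_subset_closure_inter V'.isOpen hvV')
    have hgR : g ∈ Set.range π.base := ((hgmin _ he₀).mem_open π.isOpenEmbedding.isOpen_range ⟨z₀, rfl⟩)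
    obtain ⟨zg, rfl⟩ := hgR
    let k₀ : (EtCoh.bc j).obj V ⟶ (EtCoh.bc j).obj (EtCoh.top X) := (EtCoh.bc j).map (toTop V)
    obtain ⟨W, k, m, ⟨w, hw⟩, he⟩ := hr.exists_nhd k₀ σ' zg
    let a₀ : F.obj.obj (op V) := ConnFib.res F (toTop V) (s m)
    let D : Set ((EtCoh.bc j).obj V).left := vanishSet G _ (un j F V a₀ - σ')
    have hDo : IsOpen D := isOpen_vanishSet G _ _
    have hDc : IsClosed D := isClosed_vanishSet G _ r hr k₀ _
    have hzg : zg ∈ D := by
      refine ⟨W, k, ⟨w, hw⟩, ?_⟩
      rw [map_sub, sub_eq_zero]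
      refine Eq.trans ?_ he.symm
      show ConnFib.res G k (un j F V (ConnFib.res F (toTop V) (s m))) = _
      rw [un_res, ← ConnFib.res_comp]
      rfl
    let E : Set V.left := π.base '' (Dᶜ ∩ π.base ⁻¹' (V' : Set V.left))
    have hEo : IsOpen E := π.isOpenEmbedding.isOpenMap _ (hDc.isOpen_compl.inter (V'.isOpen.preimage π.continuous))
    have hEc : IsCompact E := ((π.isCompact_preimage hV'.isCompact).inter_left hDo.isClosed_compl).image π.continuous
    have hEV : E ⊆ V' := by
      rintro _ ⟨z, hz, rfl⟩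
      exact hz.2
    have hvE : v ∉ closure E := fun hv => by
      obtain ⟨_, ⟨z, ⟨hzD, -⟩, rfl⟩, hzv⟩ := exists_specializes hV' hEc hEo hEV hvV' hv
      exact hzD ((π.isOpenEmbedding.isEmbedding.isInducing.specializes_iff.1 (hgmin _ hzv)).mem_closed hDc hzg)
    let O : V.left.Opens := ⟨(V' : Set V.left) ∩ (closure E)ᶜ, V'.isOpen.inter isClosed_closure.isOpen_compl⟩
    refine ⟨openObj V O, openHom V O, (⟨v, hvV', hvE⟩ : O.toScheme), ⟨ConnFib.res F (openHom V O) a₀, ?_⟩, rfl⟩
    show un j F (openObj V O) (ConnFib.res F (openHom V O) a₀) = ConnFib.res G ((EtCoh.bc j).map (openHom V O)) σ'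
    rw [un_res, ← sub_eq_zero]
    change G.obj.map ((EtCoh.bc j).map (openHom V O)).op (un j F V a₀) -
      G.obj.map ((EtCoh.bc j).map (openHom V O)).op σ' = 0
    rw [← map_sub]
    refine section_eq_zero_of_germs G _ _ fun z => ?_
    change z ∈ vanishSet G _ (ConnFib.res G ((EtCoh.bc j).map (openHom V O)) (un j F V a₀ - σ'))
    rw [preimage_vanishSet]
    have hzO : π.base (((EtCoh.bc j).map (openHom V O)).left.base z) ∈ (O : Set V.left) := by
      have : ((EtCoh.bc j).map (openHom V O)).left.base z ∈ π.base ⁻¹' Set.range (openHom V O).left.base := by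
        rw [← range_base_of_isPullback (EtCoh.isPullback_bc_map j (openHom V O))]
        exact ⟨z, rfl⟩
      exact (Scheme.Opens.range_ι O).subset this
    by_contra hn
    exact hzO.2 (subset_closure ⟨_, ⟨hn, hzO.1⟩, rfl⟩)
  exact isIso_of_mono_of_epi _

end Groth.EtPbc.NormalOpen
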