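import Groth.Agent.EtPbc.PointSupp
import Groth.Agent.SpectralTopology.Spectral
import Mathlib.CategoryTheory.Filtered.Final
import Mathlib.Topology.Constructible

/-!
# Torsion sheaves as colimits of constructible sheaves with small supports
-/

set_option autoImplicit false
set_option linter.style.haveILetI false
set_option backward.isDefEq.respectTransparency.types false

universe u

open CategoryTheory CategoryTheory.Limits AlgebraicGeometry Opposite TopologicalSpace

namespace Groth.EtPbc.SuppColim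

open Groth.EtaleBase Groth.EtaleBase.LocConst Groth.EtaleBase.SitePt Groth.EtaleDeep.Cons
open Groth.EtPbc.PointSupp

variable {X : Scheme.{u}}

/-- A vanishing unit means that the sheaf is supported in the closed set. -/
theorem supp_subset_of_unitCompl {T : Closeds X} {F : EtCoh.Ab X} (h : unitCompl T F = 0) :
    EtPBC.supp F ⊆ (T : Set X) := by
  haveI : IsIso (kernel.ι (unitCompl T F)) :=
    ⟨kernel.lift _ (𝟙 F) (by rw [h, comp_zero]),
      by rw [← cancel_mono (kernel.ι (unitCompl T F)), Category.assoc, kernel.lift_ι, Category.comp_id,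
        Category.id_comp],
      kernel.lift_ι _ _ _⟩
  rw [supp_subset_iff]
  intro Ω _ _ η hη
  exact IsZero.of_iso ((supp_subset_iff _ _).1 (supp_suppPart T F) Ω inferInstance inferInstance η hη)
    ((EtCoh.stalk η).mapIso (asIso (kernel.ι (unitCompl T F)))).symm

/-- The structure map of an etale scheme, as a map to `X`. -/
abbrev etHom (U : X.Etale) : U.left ⟶ X := U.hom

variable [CompactSpace X] [QuasiSeparatedSpace X]

/-- A map from a constructible sheaf vanishing off `Z` factors through a constructible sheaf supported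
in `Z`. -/
theorem exists_factor_supp {C F : EtCoh.Ab X} (hC : EtPBC.IsConstructible C) (g : C ⟶ F) (Z : Closeds X)
    (hZ : IsCompact ((Z : Set X)ᶜ))
    (h : ∀ x : X, x ∉ (Z : Set X) → (EtCoh.stalk (geomPoint x)).map g = 0) :
    ∃ (C' : EtCoh.Ab X) (p : C ⟶ C') (g' : C' ⟶ F), EtPBC.IsConstructible C' ∧
      EtPBC.supp C' ⊆ (Z : Set X) ∧ p ≫ g' = g := by
  classical
  obtain ⟨a, U, σ, m, hm, hgen⟩ := exists_generating_sections hC
  have hO : ∀ i, ∃ s : Set (U i).left.affineOpens, s.Finite ∧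
      (U i).hom.base ⁻¹' ((Z : Set X)ᶜ) = ⋃ W ∈ s, (W.1 : Set (U i).left) := fun i => by
    let f : (U i).left ⟶ X := (U i).hom
    haveI := (hm i).1
    haveI : QuasiCompact f := quasiCompact_of_compactSpace f
    exact isCompact_and_isOpen_iff_finite_and_eq_biUnion_affineOpens.1
      ⟨f.isCompact_preimage (U := compl Z) hZ, Z.2.isOpen_compl.preimage f.continuous⟩
  choose s hsf hs using hO
  haveI : ∀ i, Finite ↥(s i) := fun i => (hsf i).to_subtype
  let J := Σ i, ↥(s i)
  obtain ⟨b, ⟨e⟩⟩ := Finite.exists_equiv_fin J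
  let W : Fin b → X.Etale := fun j => openObj (U (e.symm j).1) (e.symm j).2.1.1
  let τ : ∀ j, C.obj.obj (op (W j)) := fun j =>
    C.obj.map (openHom (U (e.symm j).1) (e.symm j).2.1.1).op (σ (e.symm j).1)
  have hτ : ∀ j, m (e.symm j).1 • τ j = 0 := fun j => by
    rw [← map_nsmul, (hm _).2.2, map_zero]
  have hgτ : ∀ j, g.hom.app (op (W j)) (τ j) = 0 := fun j => by
    refine (NatTrans.naturality_apply g.hom (openHom _ _).op _).trans
      ((map_eq_zero_iff_range_subset F (openHom _ _) _).2 ?_)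
    rintro _ ⟨w, rfl⟩
    obtain ⟨t, ht⟩ := exists_geomPoint_lift (U (e.symm j).1) ((openHom (U (e.symm j).1) (e.symm j).2.1.1).left.base w)
    have hw : (U (e.symm j).1).hom.base ((openHom (U (e.symm j).1) (e.symm j).2.1.1).left.base w) ∈
        ((Z : Set X)ᶜ) :=
      (hs _).symm.subset (Set.mem_iUnion₂.2 ⟨(e.symm j).2.1, (e.symm j).2.2, w.2⟩)
    have h0 := (germ_eq_zero_iff_mem _ F (U (e.symm j).1) (g.hom.app _ (σ (e.symm j).1)) t).1
      ((germ_map _ g _ t _).symm.trans (by rw [h _ hw]; rfl))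
    exact (show fiberPoint _ t = _ from ht) ▸ h0
  let r : (⨁ fun j => EtPBC.extZeroConst (W j) (ZMod (m (e.symm j).1))) ⟶ C :=
    biproduct.desc fun j => constDesc (W j) (ZMod (m (e.symm j).1)) (zmodSect (τ j) (hτ j))
  have hr : r ≫ g = 0 := by
    refine biproduct.hom_ext' _ _ fun j => ?_
    rw [comp_zero, biproduct.ι_desc_assoc]
    refine extZeroConst_hom_ext ?_
    show g.hom.app _ ((constDesc (W j) _ _).hom.app _ (constSect _ _ ⟨1⟩)) = 0
    rw [constDesc_sect, zmodSect_one]
    exact hgτ j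
  refine ⟨cokernel r, cokernel.π r, cokernel.desc r g hr, isConstructible_cokernel r
    (isConstructible_sum_extZeroConst W _ fun j => ⟨(hm _).2.1, (e.symm j).2.1.2⟩) hC,
    supp_subset_of_unitCompl ?_, cokernel.π_desc _ _ _⟩
  haveI := epi_desc_of_generating U m σ (fun i => (hm i).2.2) hgen
  rw [← cancel_epi (cokernel.π r), comp_zero,
    ← cancel_epi (biproduct.desc fun i => constDesc (U i) (ZMod (m i)) (zmodSect (σ i) (hm i).2.2)), comp_zero]
  refine biproduct.hom_ext' _ _ fun i => ?_
  rw [comp_zero, biproduct.ι_desc_assoc]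
  refine extZeroConst_hom_ext ?_
  show (unitCompl Z (cokernel r)).hom.app _ ((cokernel.π r).hom.app _
    ((constDesc (U i) _ _).hom.app _ (constSect _ _ ⟨1⟩))) = 0
  rw [constDesc_sect, zmodSect_one]
  refine (unit_eq_zero_iff (compl Z).ι (cokernel r) (U i) _).2 ?_
  rintro _ ⟨p, rfl⟩
  have hp : (U i).hom.base ((pullback.fst (U i).hom (compl Z).ι).base p) ∈ ((Z : Set X)ᶜ) := by
    rw [← Scheme.Hom.comp_apply, pullback.condition, Scheme.Hom.comp_apply]
    exact ((pullback.snd (U i).hom (compl Z).ι).base p).2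
  obtain ⟨V, hV, hpV⟩ := Set.mem_iUnion₂.1 ((hs i).subset hp)
  refine ⟨openObj (U i) V.1, openHom (U i) V.1, ⟨⟨_, hpV⟩, rfl⟩, ?_⟩
  have key : ∀ j : Fin b, (cokernel.π r).hom.app (op (W j)) (τ j) = 0 := fun j => by
    have h1 : biproduct.ι _ j ≫ r ≫ cokernel.π r = 0 := by rw [cokernel.condition, comp_zero]
    rw [← zmodSect_one (τ j) (hτ j), ← constDesc_sect (W j) (ZMod (m (e.symm j).1)) (zmodSect (τ j) (hτ j))]
    rw [biproduct.ι_desc_assoc] at h1
    exact congrArg (fun q : EtPBC.extZeroConst (W j) (ZMod (m (e.symm j).1)) ⟶ cokernel r =>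
      q.hom.app (op (W j)) (constSect (W j) (ZMod (m (e.symm j).1)) ⟨1⟩)) h1
  have key' : ∀ q : J, (cokernel.π r).hom.app (op (openObj (U q.1) q.2.1.1))
      (C.obj.map (openHom (U q.1) q.2.1.1).op (σ q.1)) = 0 := fun q => by
    obtain ⟨j, rfl⟩ := e.symm.surjective q
    exact key j
  exact (NatTrans.naturality_apply (cokernel.π r).hom (openHom (U i) V.1).op (σ i)).symm.trans
    (key' ⟨i, ⟨V, hV⟩⟩)

/-- The constructible locus of nonvanishing of a map out of a constructible sheaf. -/
theorem exists_bound {C F : EtCoh.Ab X} (hC : EtPBC.IsConstructible C) (g : C ⟶ F) :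
    ∃ (a : ℕ) (U : Fin a → X.Etale) (V : ∀ i, (U i).left.Opens), (∀ i, IsAffine (U i).left) ∧
      (∀ i, ∀ v ∉ V i, (U i).hom.base v ∈ EtPBC.supp F) ∧
      ∀ x : X, (∀ i, (U i).hom.base ⁻¹' {x} ⊆ (V i : Set (U i).left)) →
        (EtCoh.stalk (geomPoint x)).map g = 0 := by
  obtain ⟨a, U, σ, m, hm, hgen⟩ := exists_generating_sections hC
  refine ⟨a, U, fun i => ⟨vanishSet F (U i) (g.hom.app _ (σ i)), isOpen_vanishSet _ _ _⟩,
    fun i => (hm i).1, fun i v hv => ?_, fun x hx => ?_⟩
  · let f : (U i).left ⟶ X := (U i).hom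
    obtain ⟨s, hs⟩ := exists_geomPoint_lift (U i) v
    refine ⟨_, _, inferInstanceAs (IsSepClosed (SeparableClosure (X.residueField (f.base v)))),
      geomPoint (f.base v), ?_,
      fun (hz : IsZero ((EtCoh.stalk (geomPoint (f.base v))).obj F)) => hv ?_⟩
    · exact Set.eq_singleton_iff_unique_mem.2
        ⟨⟨default, geomPoint_apply _ _⟩, fun y ⟨z, hz⟩ => hz ▸ geomPoint_apply _ z⟩
    · have h0 := (germ_eq_zero_iff_mem _ F (U i) (g.hom.app _ (σ i)) s).1
        ((AddCommGrpCat.subsingleton_of_isZero hz).elim _ _)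
      exact (show fiberPoint _ s = v from hs) ▸ h0
  · refine ConcreteCategory.hom_ext _ _ fun y => ?_
    have hker := hgen _ (geomPoint x) ((EtCoh.stalk (geomPoint x)).map g).hom.ker fun i t => by
      refine AddMonoidHom.mem_ker.2 ((germ_map _ g _ t _).trans ?_)
      refine (germ_eq_zero_iff_mem _ F (U i) _ t).2 (hx i ?_)
      exact (hom_fiberPoint _ t).trans (geomPoint_apply _ _)
    exact AddMonoidHom.mem_ker.1 (hker.symm ▸ AddSubgroup.mem_top y :)

/-- Images of complements of quasi-compact opens of affine etale schemes are constructible. -/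
theorem isConstructible_image_compl {a : ℕ} (U : Fin a → X.Etale) (hU : ∀ i, IsAffine (U i).left)
    (W : ∀ i, (U i).left.Opens) (hW : ∀ i, IsCompact (W i : Set (U i).left)) :
    Topology.IsConstructible (⋃ i, (etHom (U i)).base '' (W i : Set (U i).left)ᶜ) := by
  refine Topology.IsConstructible.iUnion fun i => ?_
  let f : (U i).left ⟶ X := (U i).hom
  haveI := hU i
  haveI : AlgebraicGeometry.Etale f := (U i).prop
  haveI : QuasiCompact f := quasiCompact_of_compactSpace f
  exact (f.isLocallyConstructible_image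
    ((hW i).isConstructible (W i).2).compl.isLocallyConstructible).isConstructible

/-- A criterion for torsion sheaves to be filtered colimits of constructible sheaves with good supports. -/
theorem exists_colimit (F : EtCoh.Ab X) (hF : EtCoh.IsTorsion F) (Good : Set X → Prop)
    (hgood : ∀ (C : EtCoh.Ab X), EtPBC.IsConstructible C → ∀ g : C ⟶ F,
      ∃ Z : Closeds X, Good Z ∧ IsCompact ((Z : Set X)ᶜ) ∧
        ∀ x : X, x ∉ (Z : Set X) → (EtCoh.stalk (geomPoint x)).map g = 0) :
    ∃ (J : Type (u + 1)) (_ : SmallCategory J) (_ : IsFiltered J) (D : J ⥤ EtCoh.Ab X)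
      (c : Cocone D) (_ : IsColimit c), Nonempty (c.pt ≅ F) ∧
      ∀ j, EtPBC.IsConstructible (D.obj j) ∧
        ∃ Z : Set X, IsClosed Z ∧ Good Z ∧ EtPBC.supp (D.obj j) ⊆ Z := by
  let P : ObjectProperty (PresCat F) := fun Q =>
    ∃ Z : Set X, IsClosed Z ∧ Good Z ∧ EtPBC.supp ((presDiag F).obj Q) ⊆ Z
  have h : ∀ Q : PresCat F, ∃ R : P.FullSubcategory, Nonempty (Q ⟶ P.ι.obj R) := fun Q => by
    obtain ⟨Z, hZ, hZc, hZ0⟩ := hgood _ (isConstructible_presDiag Q) ((presCocone F).ι.app Q)
    obtain ⟨C', p, g', hC', hsupp, hpg⟩ :=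
      exists_factor_supp (isConstructible_presDiag Q) ((presCocone F).ι.app Q) Z hZc hZ0
    obtain ⟨R, e, he⟩ := exists_presObj hC' g'
    refine ⟨⟨R, Z, Z.2, hZ, ?_⟩, ⟨presHom (p ≫ e.hom) ((Category.assoc _ _ _).trans ((congrArg _ he).trans hpg))⟩⟩
    rw [supp_subset_iff]
    intro Ω _ _ η hη
    exact IsZero.of_iso ((supp_subset_iff _ _).1 hsupp Ω inferInstance inferInstance η hη)
      ((EtCoh.stalk η).mapIso e).symm
  haveI : IsFiltered P.FullSubcategory := IsFiltered.of_exists_of_isFiltered_of_fullyFaithful P.ι h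
  haveI : P.ι.Final := Functor.final_of_exists_of_isFiltered_of_fullyFaithful P.ι h
  obtain ⟨hc⟩ := nonempty_isColimit_presCocone hF
  exact ⟨P.FullSubcategory, inferInstance, inferInstance, P.ι ⋙ presDiag F, (presCocone F).whisker P.ι,
    (Functor.Final.isColimitWhiskerEquiv _ _).symm hc, ⟨Iso.refl _⟩,
    fun Q => ⟨isConstructible_presDiag Q.1, Q.2⟩⟩

/-- Torsion sheaves supported in a specialization stable set of a Noetherian scheme. -/
theorem exists_colimit_of_stableUnderSpecialization [AlgebraicGeometry.IsNoetherian X] {E : Set X}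
    (hE : StableUnderSpecialization E) (F : EtCoh.Ab X) (hF : EtCoh.IsTorsion F)
    (hsupp : EtPBC.supp F ⊆ E) :
    ∃ (J : Type (u + 1)) (_ : SmallCategory J) (_ : IsFiltered J) (D : J ⥤ EtCoh.Ab X)
      (c : Cocone D) (_ : IsColimit c), Nonempty (c.pt ≅ F) ∧
      ∀ j, EtPBC.IsConstructible (D.obj j) ∧
        ∃ Z : Set X, IsClosed Z ∧ Z ⊆ E ∧ EtPBC.supp (D.obj j) ⊆ Z := by
  refine exists_colimit F hF (· ⊆ E) fun C hC g => ?_
  obtain ⟨a, U, V, hU, hVs, hV0⟩ := exists_bound hC g
  have hK : ∀ i, IsCompact (V i : Set (U i).left) := fun i => by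
    let f : (U i).left ⟶ X := (U i).hom
    haveI := hU i
    haveI : AlgebraicGeometry.Etale f := (U i).prop
    haveI : IsLocallyNoetherian (U i).left := LocallyOfFiniteType.isLocallyNoetherian f
    haveI : AlgebraicGeometry.IsNoetherian (U i).left := {}
    exact NoetherianSpace.isCompact _
  let E' : Set X := ⋃ i, (etHom (U i)).base '' (V i : Set (U i).left)ᶜ
  haveI : SpectralSpace X := @SpectralSpace.mk X _ inferInstance inferInstance inferInstance inferInstance inferInstance
  refine ⟨⟨closure E', isClosed_closure⟩, ?_, NoetherianSpace.isCompact _, fun x hx => hV0 x fun i v hv => ?_⟩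
  · intro x hx
    obtain ⟨e, he, hex⟩ := Groth.SpectralTopology.exists_specializes_of_mem_closure
      (Groth.SpectralTopology.isClopen_ct_of_isConstructible (isConstructible_image_compl U hU V hK)).1 hx
    obtain ⟨i, v, hv, rfl⟩ := Set.mem_iUnion.1 he
    exact hE hex (hsupp (hVs i v hv))
  · by_contra hvV
    exact hx (subset_closure (Set.mem_iUnion.2 ⟨i, v, hvV, hv⟩))

/-- Torsion sheaves with vanishing stalk at the generic point. -/
theorem exists_colimit_of_generic [IrreducibleSpace X] (F : EtCoh.Ab X) (hF : EtCoh.IsTorsion F)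
    (hη : genericPoint X ∉ EtPBC.supp F) :
    ∃ (J : Type (u + 1)) (_ : SmallCategory J) (_ : IsFiltered J) (D : J ⥤ EtCoh.Ab X)
      (c : Cocone D) (_ : IsColimit c), Nonempty (c.pt ≅ F) ∧
      ∀ j, EtPBC.IsConstructible (D.obj j) ∧
        ∃ Z : Set X, IsClosed Z ∧ genericPoint X ∉ Z ∧ EtPBC.supp (D.obj j) ⊆ Z := by
  refine exists_colimit F hF (genericPoint X ∉ ·) fun C hC g => ?_
  obtain ⟨a, U, V, hU, hVs, -⟩ := exists_bound hC g
  obtain ⟨a, U, V, hU, hVs, hV0⟩ := exists_bound hC g
  haveI : SpectralSpace X := @SpectralSpace.mk X _ inferInstance inferInstance inferInstance inferInstance inferInstance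
  have hW : ∀ i, ∃ W : (U i).left.Opens, IsCompact (W : Set (U i).left) ∧ (W : Set (U i).left) ⊆ V i ∧
      (U i).hom.base ⁻¹' {genericPoint X} ⊆ (W : Set (U i).left) := fun i => by
    let f : (U i).left ⟶ X := (U i).hom
    haveI := hU i
    haveI : AlgebraicGeometry.Etale f := (U i).prop
    haveI : QuasiCompact f := quasiCompact_of_compactSpace f
    have hfib : IsCompact (f.base ⁻¹' {genericPoint X}) := f.isCompact_preimage_singleton _
    have hsub : f.base ⁻¹' {genericPoint X} ⊆ (V i : Set (U i).left) := fun v hv => by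
      by_contra hvV
      exact hη ((show f.base v = genericPoint X from hv) ▸ hVs i v hvV)
    obtain ⟨K, hKc, hKo, h1, h2⟩ :=
      PrespectralSpace.exists_isCompact_and_isOpen_between hfib (V i).2 hsub
    exact ⟨⟨K, hKo⟩, hKc, h2, h1⟩
  choose W hWc hWV hWη using hW
  let E' : Set X := ⋃ i, (etHom (U i)).base '' (W i : Set (U i).left)ᶜ
  have hnE : genericPoint X ∉ closure E' := fun hx => by
    obtain ⟨e, he, hex⟩ := Groth.SpectralTopology.exists_specializes_of_mem_closure
      (Groth.SpectralTopology.isClopen_ct_of_isConstructible (isConstructible_image_compl U hU W hWc)).1 hx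
    obtain ⟨i, v, hv, rfl⟩ := Set.mem_iUnion.1 he
    refine hv (hWη i (hex.antisymm ?_).eq)
    exact genericPoint_specializes _
  obtain ⟨O, ⟨hOo, hOc⟩, hηO, hOE⟩ :=
    PrespectralSpace.isTopologicalBasis.exists_subset_of_mem_open hnE isClosed_closure.isOpen_compl
  refine ⟨⟨Oᶜ, hOo.isClosed_compl⟩, fun h => h hηO, ?_, fun x hx => hV0 x fun i v hv => ?_⟩
  · show IsCompact ((Oᶜ)ᶜ)
    rw [compl_compl]
    exact hOc
  · refine hWV i ?_
    by_contra hvW
    exact hOE (not_not.1 hx) (subset_closure (Set.mem_iUnion.2 ⟨i, v, hvW, hv⟩))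

end Groth.EtPbc.SuppColim
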