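import Groth.Agent.EtPbc.Torsion
import Groth.Agent.EtPbc.SuppColim
import Mathlib.CategoryTheory.Sites.Point.Skyscraper
import Mathlib.Algebra.Category.Grp.EnoughInjectives
import Mathlib.Algebra.Homology.DerivedCategory.Ext.ExactSequences
import Mathlib.Algebra.Homology.DerivedCategory.Ext.EnoughInjectives

/-!
# Effacing cohomology classes: Godement sheaves killed by an integer
-/

set_option autoImplicit false
set_option backward.isDefEq.respectTransparency.types false
set_option linter.style.haveILetI false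

universe u v w

open CategoryTheory CategoryTheory.Limits CategoryTheory.Abelian AlgebraicGeometry Opposite

namespace Groth.EtPbc.Godement

open Groth.EtaleBase Groth.EtaleBase.LocConst Groth.EtaleBase.SitePt Groth.EtaleDeep.Cons

/-- An injective abelian group is divisible. -/
theorem surjective_nsmul_of_injective {I : AddCommGrpCat.{w}} [Injective I] {n : ℕ} (hn : 0 < n)
    (a : I) : ∃ b : I, n • b = a := by
  let Z : AddCommGrpCat.{w} := AddCommGrpCat.of (ULift.{w} ℤ)
  let m : Z ⟶ Z := AddCommGrpCat.ofHom (nsmulAddMonoidHom n)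
  haveI : Mono m := (AddCommGrpCat.mono_iff_injective _).2 fun x y h => by
    have h' : n • x.down = n • y.down := congrArg ULift.down h
    exact ULift.ext _ _ (nsmul_right_injective hn.ne' h')
  let φ : Z ⟶ I := AddCommGrpCat.ofHom ((zmultiplesHom I a).comp AddEquiv.ulift.toAddMonoidHom)
  refine ⟨Injective.factorThru φ m ⟨1⟩, ?_⟩
  rw [← map_nsmul]
  refine (ConcreteCategory.congr_hom (Injective.comp_factorThru φ m) (⟨1⟩ : Z)).trans ?_
  show (1 : ℤ) • a = a
  exact one_zsmul a

/-- Limits of discrete diagrams of divisible groups are divisible. -/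
theorem surjective_nsmul_of_discrete {α : Type v} (D : Discrete α ⥤ AddCommGrpCat.{max v w})
    (c : Cone D) (hc : IsLimit c) (n : ℕ) (h : ∀ a, ∀ x : D.obj a, ∃ y : D.obj a, n • y = x)
    (x : c.pt) : ∃ y : c.pt, n • y = x := by
  choose g hg using fun a => h a (c.π.app a x)
  let hF := isLimitOfPreserves (CategoryTheory.forget AddCommGrpCat.{max v w}) hc
  let y : c.pt := (Types.isLimitEquivSections hF).symm ⟨g, fun {a b} k => by
    obtain rfl : a = b := Discrete.ext (Discrete.eq_of_hom k)
    rw [Subsingleton.elim k (𝟙 a)]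
    simp⟩
  refine ⟨y, (Types.isLimitEquivSections hF).injective (Subtype.ext (funext fun a => ?_))⟩
  show c.π.app a (n • y) = c.π.app a x
  rw [map_nsmul, show c.π.app a y = g a from Types.isLimitEquivSections_symm_apply hF _ a, hg]

variable {X : Scheme.{u}}

/-- The skyscraper sheaves at the chosen geometric points. -/
noncomputable abbrev sky (x : X) : AddCommGrpCat.{u + 1} ⥤ EtCoh.Ab X :=
  (Scheme.pointSmallEtale (geomPoint x)).skyscraperSheafFunctor

/-- Sections of skyscrapers with divisible values are divisible. -/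
theorem surjective_nsmul_sky {x : X} {M : AddCommGrpCat.{u + 1}} (n : ℕ) (h : ∀ a : M, ∃ b : M, n • b = a)
    (U : X.Etale) (s : ((sky x).obj M).obj.obj (op U)) : ∃ t, n • t = s :=
  surjective_nsmul_of_discrete.{u, u + 1} _ _ (limit.isLimit _) n (fun _ => h) s

/-- Products of skyscrapers. -/
noncomputable abbrev prodSky (M : X → AddCommGrpCat.{u + 1}) : EtCoh.Ab X := ∏ᶜ fun x => (sky x).obj (M x)

theorem surjective_nsmul_prodSky (M : X → AddCommGrpCat.{u + 1}) (n : ℕ)
    (h : ∀ x, ∀ a : M x, ∃ b : M x, n • b = a) (U : X.Etale) (s : (prodSky M).obj.obj (op U)) :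
    ∃ t, n • t = s :=
  surjective_nsmul_of_discrete.{u, u + 1} _ _
    (isLimitOfPreserves (sheafToPresheaf X.smallEtaleTopology AddCommGrpCat.{u + 1} ⋙ (evaluation _ _).obj (op U))
      (limit.isLimit (Discrete.functor fun x => (sky x).obj (M x)))) n
    (fun x => surjective_nsmul_sky n (h x.as) U) s

theorem injective_sky (x : X) (I : AddCommGrpCat.{u + 1}) [Injective I] : Injective ((sky x).obj I) := by
  let a := (Scheme.pointSmallEtale (geomPoint x)).skyscraperSheafAdjunction (A := AddCommGrpCat.{u + 1})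
  haveI : (EtCoh.stalk (geomPoint x)).PreservesMonomorphisms := inferInstance
  exact a.map_injective I inferInstance

/-- Sheaves killed by `n` embed into acyclic sheaves killed by `n`. -/
theorem exists_acyclic_mono (F : EtCoh.Ab X) (n : ℕ) (hn : 0 < n) (hF : n • 𝟙 F = 0) :
    ∃ (K : EtCoh.Ab X) (u : F ⟶ K), Mono u ∧ EtCoh.KilledBy n K ∧
      ∀ q, 0 < q → Subsingleton (EtCoh.H X K q) := by
  let M : X → AddCommGrpCat.{u + 1} := fun x => Injective.under ((EtCoh.stalk (geomPoint x)).obj F)
  let P := prodSky M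
  haveI : ∀ x, Injective ((sky x).obj (M x)) := fun x => injective_sky x _
  haveI : Injective P := inferInstanceAs (Injective (∏ᶜ fun x => (sky x).obj (M x)))
  let adj : ∀ x : X, EtCoh.stalk (geomPoint x) ⊣ sky x := fun x =>
    (Scheme.pointSmallEtale (geomPoint x)).skyscraperSheafAdjunction
  let j : F ⟶ P := Pi.lift fun x => (adj x).homEquiv _ _ (Injective.ι _)
  haveI : Mono j := mono_of_stalk_injective _ fun x => by
    have e : Injective.ι ((EtCoh.stalk (geomPoint x)).obj F) =
        (EtCoh.stalk (geomPoint x)).map j ≫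
          (EtCoh.stalk (geomPoint x)).map (Pi.π (fun x => (sky x).obj (M x)) x) ≫ (adj x).counit.app _ := by
      rw [← Category.assoc, ← Functor.map_comp, Pi.lift_π]
      exact (((adj x).homEquiv _ _).symm_apply_apply _).symm.trans ((adj x).homEquiv_counit _ _ _)
    haveI : Mono ((EtCoh.stalk (geomPoint x)).map j ≫
          (EtCoh.stalk (geomPoint x)).map (Pi.π (fun x => (sky x).obj (M x)) x) ≫ (adj x).counit.app _) := by
      rw [← e]; infer_instance
    exact (AddCommGrpCat.mono_iff_injective _).1 (mono_of_mono _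
      ((EtCoh.stalk (geomPoint x)).map (Pi.π (fun x => (sky x).obj (M x)) x) ≫ (adj x).counit.app _))
  let m : P ⟶ P := n • 𝟙 P
  have happ : ∀ {G : EtCoh.Ab X} (U : X.Etale) (s : G.obj.obj (op U)),
      (n • 𝟙 G : G ⟶ G).hom.app (op U) s = n • s := fun {G} U s => by
    let ev : (G ⟶ G) →+ G.obj.obj (op U) :=
      AddMonoidHom.mk' (fun f => f.hom.app (op U) s) fun f g => rfl
    exact (map_nsmul ev n (𝟙 G)).trans rfl
  have hsurj : ∀ U : X.Etale, Function.Surjective (m.hom.app (op U)) := fun U s => by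
    obtain ⟨t, ht⟩ := surjective_nsmul_prodSky M n (fun x => surjective_nsmul_of_injective hn) U s
    exact ⟨t, (happ U t).trans ht⟩
  haveI : Sheaf.IsLocallySurjective m := ⟨fun {U} s =>
    X.smallEtaleTopology.superset_covering (fun W g _ => hsurj W _) (X.smallEtaleTopology.top_mem U)⟩
  haveI : Epi m := inferInstance
  have hjm : j ≫ m = 0 := by
    rw [Preadditive.comp_nsmul, Category.comp_id, ← Category.id_comp j, ← Preadditive.nsmul_comp, hF, zero_comp]
  let S := ShortComplex.mk (kernel.ι m) m (kernel.condition m)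
  have hS : S.ShortExact :=
    { exact := ShortComplex.exact_of_f_is_kernel S (kernelIsKernel m)
      mono_f := inferInstanceAs (Mono (kernel.ι m))
      epi_g := inferInstanceAs (Epi m) }
  refine ⟨kernel m, kernel.lift m j hjm, mono_of_mono_fac (kernel.lift_ι m j hjm), fun U s => ?_, fun q hq => ?_⟩
  · have h0 : n • 𝟙 (kernel m) = 0 := by
      rw [← cancel_mono (kernel.ι m), Preadditive.nsmul_comp, Category.id_comp, zero_comp]
      calc n • kernel.ι m = kernel.ι m ≫ m := by rw [Preadditive.comp_nsmul, Category.comp_id]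
        _ = 0 := kernel.condition m
    exact (happ U s).symm.trans (congrArg (fun f : kernel m ⟶ kernel m => f.hom.app (op U) s) h0)
  · obtain ⟨q, rfl⟩ : ∃ r, q = r + 1 := ⟨q - 1, by omega⟩
    refine subsingleton_of_forall_eq 0 fun (x : Ext _ S.X₁ (q + 1)) => ?_
    obtain ⟨y, rfl⟩ := Ext.covariant_sequence_exact₁ _ hS x (Ext.eq_zero_of_injective (I := P) _) rfl
    cases q with
    | succ r => rw [Ext.eq_zero_of_injective (I := P) y, Ext.zero_comp]
    | zero =>
      obtain ⟨σ, hσ⟩ := hsurj (EtCoh.top X) (Sheaf.H.equiv₀ P (EtCore.topIsTerminal X) y)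
      obtain ⟨z, rfl⟩ := (Sheaf.H.equiv₀ P (EtCore.topIsTerminal X)).surjective σ
      have hz : y = Ext.comp z (Ext.mk₀ S.g) (add_zero 0) :=
        (Sheaf.H.equiv₀ P (EtCore.topIsTerminal X)).injective
          (hσ.symm.trans (Sheaf.H.equiv₀_naturality (hT := EtCore.topIsTerminal X) m z))
      rw [hz, Ext.comp_assoc_of_second_deg_zero, ShortComplex.ShortExact.comp_extClass, Ext.comp_zero]

/-- Cohomology classes of constructible sheaves are effaced by constructible sheaves. -/
theorem exists_effacement [CompactSpace X] [QuasiSeparatedSpace X] {F : EtCoh.Ab X}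
    (hF : EtPBC.IsConstructible F) (q : ℕ) (hq : 0 < q) (α : EtCoh.H X F q) :
    ∃ (G : EtCoh.Ab X) (u : F ⟶ G), EtPBC.IsConstructible G ∧ Mono u ∧ (EtCoh.HF X q).map u α = 0 := by
  obtain ⟨P₀, e₀, -⟩ := exists_presObj hF (𝟙 F)
  obtain ⟨n, hn, hn0⟩ := Torsion.exists_nsmul_id_presDiag P₀
  have hnF : n • 𝟙 F = 0 := by
    rw [← e₀.hom_inv_id, ← Category.id_comp e₀.inv, ← Preadditive.comp_nsmul, ← Preadditive.nsmul_comp,
      hn0, zero_comp, comp_zero]
  obtain ⟨K, j, hj, hK, hH⟩ := exists_acyclic_mono F n hn hnF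
  have hKt : EtCoh.IsTorsion K := fun U s x => ⟨U, 𝟙 U, ⟨x, rfl⟩,
    isOfFinAddOrder_iff_nsmul_eq_zero.2 ⟨n, hn, hK _ _⟩⟩
  obtain ⟨hc⟩ := nonempty_isColimit_presCocone hKt
  haveI := preservesColimitsOfShape_coyoneda (I := PresCat K) hF
  obtain ⟨P, g, hg⟩ := Types.jointly_surjective _ (isColimitOfPreserves (coyoneda.obj (op F)) hc) j
  change F ⟶ (presDiag K).obj P at g
  change g ≫ (presCocone K).ι.app P = j at hg
  haveI := Groth.FlatMor2.ColimCoh.Etale.preservesColimitsOfShape_HF X (PresCat K) q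
  have hc' := isColimitOfPreserves (EtCoh.HF X q ⋙ CategoryTheory.forget AddCommGrpCat.{u + 1}) hc
  let β : (EtCoh.HF X q).obj ((presDiag K).obj P) := (EtCoh.HF X q).map g α
  have hsub : Subsingleton ((EtCoh.HF X q).obj (presCocone K).pt) := hH q hq
  let z₀ : (presDiag K ⋙ EtCoh.HF X q ⋙ CategoryTheory.forget AddCommGrpCat.{u + 1}).obj P :=
    (0 : (EtCoh.HF X q).obj ((presDiag K).obj P))
  obtain ⟨Q, f, f', e⟩ := (Types.FilteredColimit.isColimit_eq_iff _ hc' (xi := β)
    (xj := z₀)).1 (hsub.elim _ _)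
  refine ⟨(presDiag K).obj Q, g ≫ (presDiag K).map f, isConstructible_presDiag Q, ?_, ?_⟩
  · haveI : Mono (g ≫ (presCocone K).ι.app P) := by rw [hg]; exact hj
    refine mono_of_mono_fac (show (g ≫ (presDiag K).map f) ≫ (presCocone K).ι.app Q =
      g ≫ (presCocone K).ι.app P from ?_)
    rw [Category.assoc, (presCocone K).w]
  · rw [Functor.map_comp, ConcreteCategory.comp_apply]
    exact e.trans (map_zero ((EtCoh.HF X q).map ((presDiag K).map f')).hom)

end Groth.EtPbc.Godement
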