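import Groth.Agent.EtPbc.ConstRestr
import Groth.Agent.EtaleBase.RpushExact
import Groth.Agent.EtaleBase.PushEssImage

/-!
# Mayer–Vietoris for two closed subschemes, constant coefficients
-/

set_option autoImplicit false

universe u

open CategoryTheory CategoryTheory.Limits CategoryTheory.Abelian AlgebraicGeometry Opposite

namespace Groth.EtPbc.ClosedMV

open Groth.EtaleBase Groth.EtPbc.ConstRestr

attribute [local instance] pull_preservesFiniteLimits

variable {X Z₁ Z₂ W : Scheme.{u}} (M : Type) [AddCommGroup M]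

lemma hofPush_bijective {Z : Scheme.{u}} (i : Z ⟶ X) [IsClosedImmersion i] (F : EtCoh.Ab Z) (q : ℕ) :
    Function.Bijective (EtLim.HofPush i F q) := by
  exact InjCoh.HofPush_bijective i F (fun k hk => isZero_Rpush i F k hk) q

/-- The chosen geometric point lifts along a closed immersion. -/
lemma exists_lift_geomPoint {Z : Scheme.{u}} (k : Z ⟶ X) [IsClosedImmersion k] (z : Z) :
    ∃ l : Spec (CommRingCat.of (SeparableClosure (X.residueField (k.base z)))) ⟶ Z,
      l ≫ k = geomPoint (k.base z) := by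
  haveI : IsIso (k.residueFieldMap z) := (ConcreteCategory.isIso_iff_bijective _).2
    ⟨(k.residueFieldMap z).hom.injective, fun a => by
      obtain ⟨b, rfl⟩ := Z.residue_surjective z a
      obtain ⟨c, rfl⟩ := k.stalkMap_surjective z b
      exact ⟨X.residue _ c, ConcreteCategory.congr_hom (Scheme.residue_residueFieldMap k z) c⟩⟩
  let a : X.residueField (k.base z) ⟶ CommRingCat.of (SeparableClosure (X.residueField (k.base z))) :=
    CommRingCat.ofHom (algebraMap (X.residueField (k.base z)) _)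
  refine ⟨Spec.map (inv (k.residueFieldMap z) ≫ a) ≫ Z.fromSpecResidueField z, ?_⟩
  rw [Category.assoc, ← Scheme.Hom.SpecMap_residueFieldMap_fromSpecResidueField k z, ← Category.assoc,
    ← Spec.map_comp, IsIso.hom_inv_id_assoc]
  rfl

lemma isIso_stalk_rpush {Z : Scheme.{u}} (i : Z ⟶ X) [IsClosedImmersion i] (y : X)
    (hy : y ∈ Set.range i.base) :
    ∃ (Ω : Type u) (_ : Field Ω) (_ : IsSepClosed Ω) (ξ : Spec (CommRingCat.of Ω) ⟶ X),
      ξ.base default = y ∧ IsIso ((EtCoh.stalk ξ).map (rpush M i)) := by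
  obtain ⟨z, rfl⟩ := hy
  refine ⟨_, _, inferInstance, geomPoint z ≫ i, ?_, ?_⟩
  · rw [Scheme.Hom.comp_apply, geomPoint_apply]
  · haveI := isIso_counit i (EtCoh.const Z M)
    have h1 : IsIso ((EtCoh.pull i).map (rpush M i)) := by
      have := pull_rpush_counit M i
      exact IsIso.of_isIso_fac_right this
    exact (NatIso.isIso_map_iff (stalkPullIso i (geomPoint z)) (rpush M i)).2
      (inferInstanceAs (IsIso ((EtCoh.stalk (geomPoint z)).map ((EtCoh.pull i).map (rpush M i)))))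

variable {i₁ : Z₁ ⟶ X} {i₂ : Z₂ ⟶ X} {j₁ : W ⟶ Z₁} {j₂ : W ⟶ Z₂} {i : W ⟶ X}
  (w₁ : j₁ ≫ i₁ = i) (w₂ : j₂ ≫ i₂ = i)

/-- Transport of a direct image along an equality. -/
noncomputable def castPush {f f' : W ⟶ X} (h : f = f') (G : EtCoh.Ab W) :
    (EtCoh.push f).obj G ⟶ (EtCoh.push f').obj G :=
  eqToHom (by subst h; rfl)

/-- Transition to the intersection. -/
noncomputable def tr : (EtCoh.push i₁).obj (EtCoh.const Z₁ M) ⟶ (EtCoh.push i).obj (EtCoh.const W M) :=
  trans M j₁ i₁ ≫ castPush w₁ (EtCoh.const W M)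

lemma rpush_tr : rpush M i₁ ≫ tr M w₁ = rpush M i := by
  subst w₁
  rw [tr, ← Category.assoc, rpush_trans]
  exact Category.comp_id _

lemma hofPush_tr (q : ℕ) (x : EtCoh.H X ((EtCoh.push i₁).obj (EtCoh.const Z₁ M)) q) :
    EtLim.HofPush i (EtCoh.const W M) q (x.comp (Ext.mk₀ (tr M w₁)) (add_zero q)) =
      restr M j₁ q (EtLim.HofPush i₁ (EtCoh.const Z₁ M) q x) := by
  subst w₁
  have e : tr M (rfl : j₁ ≫ i₁ = j₁ ≫ i₁) = trans M j₁ i₁ :=
    Category.comp_id _
  rw [e, hofPush_trans]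

lemma biprod_hom_ext' {C : Type*} [Category C] [Abelian C] [HasExt.{u + 1} C] {P A B : C} {n : ℕ}
    (x : Ext P (A ⊞ B) n) (h₁ : x.comp (Ext.mk₀ biprod.fst) (add_zero n) = 0)
    (h₂ : x.comp (Ext.mk₀ biprod.snd) (add_zero n) = 0) : x = 0 := by
  rw [← Ext.comp_mk₀_id x, ← biprod.total, Ext.mk₀_add, Ext.comp_add, ← Ext.mk₀_comp_mk₀,
    ← Ext.mk₀_comp_mk₀, ← Ext.comp_assoc_of_third_deg_zero, ← Ext.comp_assoc_of_third_deg_zero,
    h₁, h₂, Ext.zero_comp, Ext.zero_comp, add_zero]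

/-- The short complex `M → i₁₊M ⊕ i₂₊M → i₊M`. -/
noncomputable def sc : ShortComplex (EtCoh.Ab X) :=
  ShortComplex.mk (biprod.lift (rpush M i₁) (rpush M i₂)) (biprod.desc (tr M w₁) (-tr M w₂))
    (by rw [biprod.lift_desc, rpush_tr, Preadditive.comp_neg, rpush_tr, add_neg_cancel])

section stalk

variable {C : Type*} [Category C] [Abelian C] (S : C ⥤ AddCommGrpCat.{u + 1}) [S.Additive]
  {A B B' D : C} (r₁ : A ⟶ B) (r₂ : A ⟶ B') (t₁ : B ⟶ D) (t₂ : B' ⟶ D)

/-- Exactness on a fibre where one map of each pair is bijective. -/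
lemma fibre_exact (h : r₁ ≫ t₁ = r₂ ≫ t₂)
    (hc : (Function.Bijective (S.map r₁) ∧ Function.Bijective (S.map t₂)) ∨
      (Function.Bijective (S.map r₂) ∧ Function.Bijective (S.map t₁))) :
    Function.Injective (S.map (biprod.lift r₁ r₂)) ∧
      Function.Surjective (S.map (biprod.desc t₁ (-t₂))) ∧
      ∀ z, S.map (biprod.desc t₁ (-t₂)) z = 0 → ∃ a, S.map (biprod.lift r₁ r₂) a = z := by
  have cap : ∀ {P Q R : C} (p : P ⟶ Q) (q : Q ⟶ R) (a : S.obj P),
      S.map q (S.map p a) = S.map (p ≫ q) a := fun p q a => by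
    rw [Functor.map_comp, ConcreteCategory.comp_apply]
  have e1 : ∀ a, S.map biprod.fst (S.map (biprod.lift r₁ r₂) a) = S.map r₁ a := fun a => by
    rw [cap, biprod.lift_fst]
  have e2 : ∀ a, S.map biprod.snd (S.map (biprod.lift r₁ r₂) a) = S.map r₂ a := fun a => by
    rw [cap, biprod.lift_snd]
  have i1 : ∀ a, S.map (biprod.desc t₁ (-t₂)) (S.map biprod.inl a) = S.map t₁ a := fun a => by
    rw [cap, biprod.inl_desc]
  have i2 : ∀ a, S.map (biprod.desc t₁ (-t₂)) (S.map biprod.inr a) = -S.map t₂ a := fun a => by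
    rw [cap, biprod.inr_desc, Functor.map_neg]; rfl
  have key : ∀ q, q = S.map biprod.inl (S.map biprod.fst q) + S.map biprod.inr (S.map (biprod.snd : B ⊞ B' ⟶ _) q) :=
    fun q => by
      rw [cap, cap]
      refine Eq.trans ?_ (show S.map (biprod.fst ≫ biprod.inl + biprod.snd ≫ biprod.inr) q = _ by
        rw [Functor.map_add]; rfl)
      rw [biprod.total, CategoryTheory.Functor.map_id]
      rfl
  have hz : ∀ z, S.map (biprod.desc t₁ (-t₂)) z = S.map t₁ (S.map biprod.fst z) - S.map t₂ (S.map biprod.snd z) :=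
    fun z => by
      conv_lhs => rw [key z]
      rw [map_add, i1, i2, sub_eq_add_neg]
  have hcomm : ∀ a, S.map t₁ (S.map r₁ a) = S.map t₂ (S.map r₂ a) := fun a => by rw [cap, cap, h]
  refine ⟨fun a b hab => ?_, fun y => ?_, fun z hz0 => ?_⟩
  · rcases hc with ⟨hr, -⟩ | ⟨hr, -⟩
    · exact hr.1 ((e1 a).symm.trans ((congrArg (S.map biprod.fst) hab).trans (e1 b)))
    · exact hr.1 ((e2 a).symm.trans ((congrArg (S.map biprod.snd) hab).trans (e2 b)))
  · rcases hc with ⟨-, ht⟩ | ⟨-, ht⟩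
    · obtain ⟨b, hb⟩ := ht.2 (-y)
      exact ⟨S.map biprod.inr b, (i2 b).trans (by rw [hb, neg_neg])⟩
    · obtain ⟨b, hb⟩ := ht.2 y
      exact ⟨S.map biprod.inl b, (i1 b).trans hb⟩
  · rw [hz, sub_eq_zero] at hz0
    rcases hc with ⟨hr, ht⟩ | ⟨hr, ht⟩
    · obtain ⟨a, ha⟩ := hr.2 (S.map biprod.fst z)
      refine ⟨a, ?_⟩
      have hb : S.map r₂ a = S.map biprod.snd z := ht.1 (by rw [← hcomm, ha, hz0])
      rw [key z, key (S.map (biprod.lift r₁ r₂) a), e1, e2, ha, hb]
    · obtain ⟨a, ha⟩ := hr.2 (S.map biprod.snd z)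
      refine ⟨a, ?_⟩
      have hb : S.map r₁ a = S.map biprod.fst z := ht.1 (by rw [hcomm, ha, hz0])
      rw [key z, key (S.map (biprod.lift r₁ r₂) a), e1, e2, ha, hb]

end stalk

variable [IsClosedImmersion i₁] [IsClosedImmersion i₂] [IsClosedImmersion i]

lemma shortExact_sc (hcov : ∀ x : X, x ∈ Set.range i₁.base ∨ x ∈ Set.range i₂.base)
    (hint : Set.range i.base = Set.range i₁.base ∩ Set.range i₂.base) :
    (sc M w₁ w₂).ShortExact := by
  have hfib : ∀ x : X, (Function.Bijective ((stalkAt x).map (rpush M i₁)) ∧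
      Function.Bijective ((stalkAt x).map (tr M w₂))) ∨
      (Function.Bijective ((stalkAt x).map (rpush M i₂)) ∧
      Function.Bijective ((stalkAt x).map (tr M w₁))) := by
    have hiso : ∀ {Z : Scheme.{u}} (k : Z ⟶ X) [IsClosedImmersion k] (x : X), x ∈ Set.range k.base →
        Function.Bijective ((stalkAt x).map (rpush M k)) := by
      intro Z k _ x hx
      obtain ⟨z, rfl⟩ := hx
      haveI := isIso_counit k (EtCoh.const Z M)
      have h1 : IsIso ((EtCoh.pull k).map (rpush M k)) := IsIso.of_isIso_fac_right (pull_rpush_counit M k)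
      obtain ⟨l, hl⟩ := exists_lift_geomPoint k z
      refine (ConcreteCategory.isIso_iff_bijective _).1 ?_
      have h2 : IsIso ((EtCoh.stalk (l ≫ k)).map (rpush M k)) :=
        (NatIso.isIso_map_iff (stalkPullIso k l) (rpush M k)).2
          (inferInstanceAs (IsIso ((EtCoh.stalk l).map ((EtCoh.pull k).map (rpush M k)))))
      rw [hl] at h2
      exact h2
    have hzero : ∀ {Z : Scheme.{u}} (k : Z ⟶ X) [IsClosedImmersion k] (x : X), x ∉ Set.range k.base →
        ∀ a b : (stalkAt x).obj ((EtCoh.push k).obj (EtCoh.const Z M)), a = b := fun k _ x hx a b =>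
      @Subsingleton.elim _ (AddCommGrpCat.subsingleton_of_isZero (isZero_stalk_push k
        k.isClosedEmbedding.isClosed_range (geomPoint x) (by rwa [geomPoint_apply]) _)) a b
    intro x
    by_cases h : x ∈ Set.range i.base
    · have h' : x ∈ Set.range i₁.base ∧ x ∈ Set.range i₂.base := by rw [hint] at h; exact h
      refine Or.inl ⟨hiso i₁ x h'.1, ?_⟩
      have hb := hiso i x h
      rw [← rpush_tr M w₂, Functor.map_comp] at hb
      exact (Function.Bijective.of_comp_iff _ (hiso i₂ x h'.2)).1 hb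
    · rw [hint] at h
      have htriv : ∀ {P : EtCoh.Ab X} (t : P ⟶ (EtCoh.push i).obj (EtCoh.const W M)),
          (∀ a b : (stalkAt x).obj P, a = b) → Function.Bijective ((stalkAt x).map t) := fun t hP =>
        ⟨fun a b _ => hP a b, fun y => ⟨0, hzero i x (by rwa [hint]) _ _⟩⟩
      rcases hcov x with h₁ | h₂
      · exact Or.inl ⟨hiso i₁ x h₁, htriv _ (hzero i₂ x fun h₂ => h ⟨h₁, h₂⟩)⟩
      · exact Or.inr ⟨hiso i₂ x h₂, htriv _ (hzero i₁ x fun h₁ => h ⟨h₁, h₂⟩)⟩
  have key := fun x => fibre_exact (stalkAt x) (rpush M i₁) (rpush M i₂) (tr M w₁) (tr M w₂)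
    ((rpush_tr M w₁).trans (rpush_tr M w₂).symm) (hfib x)
  exact { exact := (stalkAt_jointlyReflectIsomorphisms.exact_iff (sc M w₁ w₂)).2 fun x => by
            rw [ShortComplex.ab_exact_iff]
            exact (key x).2.2
          mono_f := mono_of_stalk_injective _ fun x => (key x).1
          epi_g := epi_of_stalk_surjective _ fun x => (key x).2.1 }

include w₁ w₂ in
/-- A class vanishing on both pieces is zero when differences from the pieces exhaust the intersection. -/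
theorem eq_zero_of_restr (hcov : ∀ x : X, x ∈ Set.range i₁.base ∨ x ∈ Set.range i₂.base)
    (hint : Set.range i.base = Set.range i₁.base ∩ Set.range i₂.base) (n : ℕ)
    (hsurj : ∀ y : EtCoh.H W (EtCoh.const W M) n, ∃ a b, y = restr M j₁ n a - restr M j₂ n b)
    (ξ : EtCoh.H X (EtCoh.const X M) (n + 1)) (h₁ : restr M i₁ (n + 1) ξ = 0)
    (h₂ : restr M i₂ (n + 1) ξ = 0) : ξ = 0 := by
  have hS := shortExact_sc M w₁ w₂ hcov hint
  have hf : ξ.comp (Ext.mk₀ (biprod.lift (rpush M i₁) (rpush M i₂))) (add_zero (n + 1)) = 0 := by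
    refine biprod_hom_ext' _ ?_ ?_ <;>
      rw [Ext.comp_assoc_of_third_deg_zero, Ext.mk₀_comp_mk₀]
    · rw [biprod.lift_fst]
      exact (hofPush_bijective i₁ _ _).1
        ((hofPush_rpush M i₁ _ ξ).trans (h₁.trans (map_zero _).symm))
    · rw [biprod.lift_snd]
      exact (hofPush_bijective i₂ _ _).1
        ((hofPush_rpush M i₂ _ ξ).trans (h₂.trans (map_zero _).symm))
  obtain ⟨y, rfl⟩ := Ext.covariant_sequence_exact₁ _ hS ξ hf rfl
  obtain ⟨a, b, hy⟩ := hsurj (EtLim.HofPush i _ n y)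
  obtain ⟨A, rfl⟩ := (hofPush_bijective i₁ _ n).2 a
  obtain ⟨B, rfl⟩ := (hofPush_bijective i₂ _ n).2 b
  let z : EtCoh.H X (sc M w₁ w₂).X₂ n :=
    A.comp (Ext.mk₀ biprod.inl) (add_zero n) + B.comp (Ext.mk₀ biprod.inr) (add_zero n)
  have hz : z.comp (Ext.mk₀ (sc M w₁ w₂).g) (add_zero n) = y := by
    refine (hofPush_bijective i _ n).1 ?_
    rw [hy, ← hofPush_tr M w₁, ← hofPush_tr M w₂, ← map_sub]
    refine congrArg _ ?_
    simp only [z, sc, Ext.add_comp, Ext.comp_assoc_of_third_deg_zero, Ext.mk₀_comp_mk₀, biprod.inl_desc,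
      biprod.inr_desc, Ext.mk₀_neg, Ext.comp_neg, sub_eq_add_neg]
  rw [← hz]
  refine (Ext.comp_assoc_of_second_deg_zero _ _ _ rfl).trans ?_
  rw [hS.comp_extClass, Ext.comp_zero]
  rfl

end Groth.EtPbc.ClosedMV
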