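import Groth.Prelude.Def_Curves
import Mathlib.RingTheory.RootsOfUnity.PrimitiveRoots
import Mathlib.RingTheory.Polynomial.Cyclotomic.Roots
import Mathlib.RingTheory.AdjoinRoot
import Mathlib.RingTheory.Spectrum.Prime.Topology
import Mathlib.FieldTheory.KummerExtension
import Mathlib.Topology.LocallyConstant.Basic
import Mathlib.RingTheory.Nilpotent.Basic
import Mathlib.RingTheory.Spectrum.Prime.RingHom

/-!
# Functions on the intersection of two closed subsets of the spectrum of an absolutely integrally closed ring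

A locally constant function with values in `ℤ/p` on `V(I) ∩ V(J)` is a difference of locally constant
functions on `V(J)` and `V(I)`. The proof uses one monic equation `Φ(T) = P`, where `Φ` is the polynomial
`∏ (T - (1 + ζ + ⋯ + ζ^(k-1)))`, a common deformation of the Kummer and Artin-Schreier equations.
-/

set_option autoImplicit false

universe u

open Polynomial

namespace Groth.EtPbc.CycloSplit

variable {A : Type*} [CommRing A]

/-- `1 + ζ + ⋯ + ζ^(n-1)`. -/
def geom (ζ : A) (n : ℕ) : A := ∑ i ∈ Finset.range n, ζ ^ i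

/-- The polynomial function with roots `geom ζ k`, `k < p`. -/
def Phi (p : ℕ) (ζ t : A) : A := ∏ k : Fin p, (t - geom ζ k)

lemma geom_mul (ζ : A) (n : ℕ) : (ζ - 1) * geom ζ n = ζ ^ n - 1 := by
  rw [mul_comm]; exact geom_sum_mul ζ n

lemma geom_add (ζ : A) (m n : ℕ) : geom ζ (m + n) = geom ζ m + ζ ^ m * geom ζ n := by
  rw [geom, Finset.sum_range_add, geom, geom, Finset.mul_sum]
  simp [pow_add]

variable {p : ℕ} {ζ : A}

lemma pow_eq_one (h : geom ζ p = 0) : ζ ^ p = 1 := by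
  have := geom_mul ζ p
  rw [h, mul_zero] at this
  exact (sub_eq_zero.1 this.symm)

lemma geom_add_mul (h : geom ζ p = 0) (n k : ℕ) : geom ζ (n + p * k) = geom ζ n := by
  induction k with
  | zero => simp
  | succ k ih => rw [Nat.mul_succ, ← Nat.add_assoc, geom_add, h, mul_zero, add_zero, ih]

lemma geom_mod (h : geom ζ p = 0) (n : ℕ) : geom ζ (n % p) = geom ζ n := by
  conv_rhs => rw [← Nat.mod_add_div n p]
  rw [geom_add_mul h]

lemma isUnit_geom [Fact p.Prime] (h : geom ζ p = 0) (m : ℕ) (hm : (m : ZMod p) ≠ 0) : IsUnit (geom ζ m) := by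
  have hk : ∀ k, geom ζ (m * k) = geom ζ m * geom (ζ ^ m) k := fun k => by
    induction k with
    | zero => simp [geom]
    | succ k ih =>
      rw [Nat.mul_succ, geom_add, ih]
      simp only [geom, Finset.sum_range_succ]
      ring
  let k := ((m : ZMod p)⁻¹).val
  have e : (m * k) % p = 1 := by
    have : ((m * k : ℕ) : ZMod p) = 1 := by
      rw [Nat.cast_mul, ZMod.natCast_zmod_val, mul_inv_cancel₀ hm]
    rw [← ZMod.val_natCast, this, ZMod.val_one]
  refine IsUnit.of_mul_eq_one (geom (ζ ^ m) k) ?_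
  rw [← hk, ← geom_mod h, e]
  simp [geom]

section Zmod

variable [Fact p.Prime]

lemma geom_val_add (h : geom ζ p = 0) (x y : ZMod p) :
    ζ ^ x.val * geom ζ y.val + geom ζ x.val = geom ζ (x + y).val := by
  rw [ZMod.val_add, geom_mod h, geom_add, add_comm]

lemma isUnit_geom_sub (h : geom ζ p = 0) {x y : ZMod p} (hxy : x ≠ y) :
    IsUnit (geom ζ x.val - geom ζ y.val) := by
  have e := geom_val_add h y (x - y)
  rw [add_sub_cancel] at e
  rw [← e, add_sub_cancel_right]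
  refine IsUnit.mul ?_ (isUnit_geom h _ ?_)
  · exact (IsUnit.of_mul_eq_one (ζ ^ (p - 1)) (by
      rw [← pow_succ', Nat.sub_add_cancel (Fact.out : p.Prime).one_le, pow_eq_one h])).pow _
  · rw [ZMod.natCast_zmod_val]; exact sub_ne_zero.2 hxy

lemma prod_zmod (f : ℕ → A) : ∏ k : Fin p, f k = ∏ k : ZMod p, f k.val := by
  obtain ⟨n, rfl⟩ : ∃ n, p = n + 1 := ⟨p - 1, (Nat.sub_add_cancel (Fact.out : p.Prime).one_le).symm⟩
  exact Finset.prod_congr rfl fun _ _ => rfl

end Zmod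

/-- The universal identities hold in a domain. -/
lemma prod_identities_domain {D : Type*} [CommRing D] [IsDomain D] {p : ℕ} [Fact p.Prime] {ζ : D}
    (h : geom ζ p = 0) (h1 : ζ ≠ 1) (t v : D) :
    (ζ - 1) ^ p * Phi p ζ t + 1 = (1 + (ζ - 1) * t) ^ p ∧
      Phi p ζ t - Phi p ζ v = ∏ k : Fin p, (t - (ζ ^ (k : ℕ) * v + geom ζ k)) := by
  have hprim : IsPrimitiveRoot ζ p := by
    rw [← orderOf_eq_prime (pow_eq_one h) h1]
    exact IsPrimitiveRoot.orderOf ζ
  have key : ∀ x y : D, x ^ p - y ^ p = ∏ k : Fin p, (x - ζ ^ (k : ℕ) * y) := fun x y => by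
    have := congrArg (Polynomial.eval x) (X_pow_sub_C_eq_prod hprim (Fact.out : p.Prime).pos (rfl : y ^ p = _))
    simp only [eval_sub, eval_pow, eval_X, eval_C, eval_prod] at this
    rw [this, Finset.prod_range (fun i => x - ζ ^ i * y)]
  have ha : ∀ t, (ζ - 1) ^ p * Phi p ζ t + 1 = (1 + (ζ - 1) * t) ^ p := fun t => by
    have := key (1 + (ζ - 1) * t) 1
    rw [one_pow] at this
    rw [eq_sub_iff_add_eq.1 this.symm |>.symm] at *
    congr 1
    rw [Phi, ← Fin.prod_const, ← Finset.prod_mul_distrib]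
    refine Finset.prod_congr rfl fun k _ => ?_
    linear_combination -(geom_mul ζ k)
  refine ⟨ha t, mul_left_cancel₀ (pow_ne_zero p (sub_ne_zero.2 h1)) ?_⟩
  rw [mul_sub, eq_sub_iff_add_eq.2 (ha t), eq_sub_iff_add_eq.2 (ha v), sub_sub_sub_cancel_right, key,
    ← Fin.prod_const, ← Finset.prod_mul_distrib]
  refine Finset.prod_congr rfl fun k _ => ?_
  linear_combination geom_mul ζ k

/-- The universal identities. -/
lemma prod_identities [Fact p.Prime] (h : geom ζ p = 0) (t v : A) :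
    (ζ - 1) ^ p * Phi p ζ t + 1 = (1 + (ζ - 1) * t) ^ p ∧
      Phi p ζ t - Phi p ζ v = ∏ k : Fin p, (t - (ζ ^ (k : ℕ) * v + geom ζ k)) := by
  let g : ℤ[X] := ∑ i ∈ Finset.range p, X ^ i
  have hg : g = cyclotomic p ℤ := (cyclotomic_prime ℤ p).symm
  haveI : Fact (Irreducible g) := ⟨hg ▸ cyclotomic.irreducible (Fact.out : p.Prime).pos⟩
  haveI : IsDomain (AdjoinRoot g) :=
    AdjoinRoot.isDomain_of_prime (Irreducible.prime Fact.out)
  let ζ₀ : AdjoinRoot g := AdjoinRoot.root g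
  have hζ₀ : geom ζ₀ p = 0 := by
    refine Eq.trans ?_ (AdjoinRoot.eval₂_root g)
    simp [g, geom, ζ₀, eval₂_finsetSum]
  have hne : ζ₀ ≠ 1 := fun h1 => by
    have hp : ((p : ℤ) : AdjoinRoot g) = 0 := by
      rw [← hζ₀, h1]; simp [geom]
    have hinj : Function.Injective (AdjoinRoot.of g) := AdjoinRoot.of.injective_of_degree_ne_zero (by
      rw [hg, degree_cyclotomic]
      exact_mod_cast (Nat.totient_pos.2 (Fact.out : p.Prime).pos).ne')
    have : (p : ℤ) = 0 := hinj (by simpa using hp)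
    exact (Fact.out : p.Prime).ne_zero (by exact_mod_cast this)
  let D := MvPolynomial (Fin 2) (AdjoinRoot g)
  let ev : AdjoinRoot g →+* A := AdjoinRoot.lift (Int.castRingHom A) ζ (by
    refine Eq.trans ?_ h
    simp [g, geom, eval₂_finsetSum])
  let φ : D →+* A := MvPolynomial.eval₂Hom ev ![t, v]
  have hz : φ (MvPolynomial.C ζ₀) = ζ := (MvPolynomial.eval₂Hom_C ev ![t, v] ζ₀).trans (AdjoinRoot.lift_root _)
  obtain ⟨e1, e2⟩ := prod_identities_domain (D := D) (p := p) (ζ := MvPolynomial.C ζ₀)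
    (by simpa [geom, map_sum, map_pow] using congrArg MvPolynomial.C hζ₀)
    (fun h1 => hne (MvPolynomial.C_injective _ _ (h1.trans MvPolynomial.C_1.symm)))
    (MvPolynomial.X 0) (MvPolynomial.X 1)
  have h0 : φ (MvPolynomial.X 0) = t := MvPolynomial.eval₂Hom_X' ev ![t, v] 0
  have hv : φ (MvPolynomial.X 1) = v := MvPolynomial.eval₂Hom_X' ev ![t, v] 1
  exact ⟨by simpa [Phi, geom, map_prod, map_sum, map_sub, map_add, map_mul, map_pow, hz, h0, hv] using congrArg φ e1,
    by simpa [Phi, geom, map_prod, map_sum, map_sub, map_add, map_mul, map_pow, hz, h0, hv] using congrArg φ e2⟩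

/-- Roots with unit differences modulo an ideal give locally constant labels. -/
lemma exists_label [Fact p.Prime] (I : Ideal A) (z : A) (r : ZMod p → A)
    (hd : ∀ P ∈ PrimeSpectrum.zeroLocus (I : Set A), ∀ k l, k ≠ l → r k - r l ∉ P.asIdeal)
    (hz : ∏ k : ZMod p, (z - r k) ∈ I) :
    ∃ f : LocallyConstant (PrimeSpectrum.zeroLocus (I : Set A)) (ZMod p),
      ∀ P k, z - r k ∈ P.1.asIdeal ↔ f P = k := by
  have hex : ∀ P : PrimeSpectrum.zeroLocus (I : Set A), ∃ k, z - r k ∈ P.1.asIdeal := fun P => by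
    obtain ⟨k, -, hk⟩ := (Ideal.IsPrime.prod_mem_iff (p := P.1.asIdeal)).1 (P.2 hz)
    exact ⟨k, hk⟩
  choose f hf using hex
  have key : ∀ P k, z - r k ∈ P.1.asIdeal ↔ f P = k := fun P k => by
    refine ⟨fun hk => by_contra fun hne => hd P.1 P.2 _ _ hne ?_, fun e => e ▸ hf P⟩
    have := sub_mem hk (hf P)
    rwa [sub_sub_sub_cancel_left] at this
  refine ⟨⟨f, IsLocallyConstant.iff_isOpen_fiber.2 fun k => ?_⟩, key⟩
  have hc : ∀ l, IsClosed (f ⁻¹' {l}) := fun l => by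
    rw [show f ⁻¹' {l} = Subtype.val ⁻¹' PrimeSpectrum.zeroLocus ({z - r l} : Set A) by
      ext P; simp [← key P l]]
    exact (PrimeSpectrum.isClosed_zeroLocus _).preimage continuous_subtype_val
  rw [show f ⁻¹' {k} = (⋃ l ∈ ({l | l ≠ k} : Set (ZMod p)), f ⁻¹' {l})ᶜ by
    ext P; simpa using ⟨fun h l hl h' => hl (h'.symm.trans h), fun h => by_contra fun hne => h _ hne rfl⟩]
  exact (Set.Finite.isClosed_biUnion (Set.toFinite _) fun l _ => hc l).isOpen_compl

/-- Splitting of locally constant functions on `V(I) ∩ V(J)`. -/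
theorem exists_split (hA : Curves.IsAIC A) (p : ℕ) [Fact p.Prime] (I J : Ideal A)
    (d : LocallyConstant (PrimeSpectrum.zeroLocus ((I ⊔ J : Ideal A) : Set A)) (ZMod p)) :
    ∃ (f₁ : LocallyConstant (PrimeSpectrum.zeroLocus (I : Set A)) (ZMod p))
      (f₂ : LocallyConstant (PrimeSpectrum.zeroLocus (J : Set A)) (ZMod p)),
      ∀ (P : PrimeSpectrum A) (h : P ∈ PrimeSpectrum.zeroLocus ((I ⊔ J : Ideal A) : Set A))
        (h₁ : P ∈ PrimeSpectrum.zeroLocus (I : Set A)) (h₂ : P ∈ PrimeSpectrum.zeroLocus (J : Set A)),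
        d ⟨P, h⟩ = f₂ ⟨P, h₂⟩ - f₁ ⟨P, h₁⟩ := by
  classical
  rcases subsingleton_or_nontrivial A with hA1 | hA1
  · exact ⟨LocallyConstant.const _ 0, LocallyConstant.const _ 0, fun P => absurd (Subsingleton.elim _ _) (Ideal.IsPrime.one_notMem P.2 |> fun h (e : (1 : A) = 0) => h (e ▸ P.asIdeal.zero_mem))⟩
  obtain ⟨ζ, hζ⟩ : ∃ ζ : A, geom ζ p = 0 := by
    obtain ⟨ζ, hζ⟩ := hA (cyclotomic p A) (cyclotomic.monic p A)
      (by rw [natDegree_cyclotomic]; exact Nat.totient_pos.2 (Fact.out : p.Prime).pos)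
    rw [cyclotomic_prime] at hζ
    exact ⟨ζ, by simpa [geom, eval_finsetSum] using hζ⟩
  -- an element representing `d`
  let B := A ⧸ (I ⊔ J)
  let q : A →+* B := Ideal.Quotient.mk _
  let π : PrimeSpectrum B → PrimeSpectrum.zeroLocus ((I ⊔ J : Ideal A) : Set A) := fun Q =>
    ⟨PrimeSpectrum.comap q Q, fun x hx => by
      show q x ∈ Q.asIdeal
      rw [Ideal.Quotient.eq_zero_iff_mem.2 hx]; exact Q.asIdeal.zero_mem⟩
  have hπ : Continuous π := Continuous.subtype_mk (PrimeSpectrum.continuous_comap q) _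
  have hk : ∀ k : ZMod p, ∃ e : B, IsIdempotentElem e ∧
      ∀ Q : PrimeSpectrum B, e ∉ Q.asIdeal ↔ d (π Q) = k := fun k => by
    obtain ⟨e, he, hs⟩ := PrimeSpectrum.isClopen_iff.1 ((d.isLocallyConstant.isClopen_fiber k).preimage hπ)
    exact ⟨e, he, fun Q => (Set.ext_iff.1 hs Q).symm.trans Iff.rfl⟩
  choose e he hek using hk
  choose e' he' using fun k => Ideal.Quotient.mk_surjective (e k)
  let a : A := ∑ k, e' k * geom ζ k.val
  have horth : ∀ k l, k ≠ l → e k * e l = 0 := fun k l hkl => by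
    refine ((he k).mul (he l)).eq_zero_of_isNilpotent ?_
    rw [← mem_nilradical, nilradical_eq_sInf, Ideal.mem_sInf]
    intro Q hQ
    haveI : Q.IsPrime := hQ
    by_contra h
    exact hkl (((hek k ⟨Q, hQ⟩).1 fun hk' => h (Q.mul_mem_right _ hk')).symm.trans
      ((hek l ⟨Q, hQ⟩).1 fun hl' => h (Q.mul_mem_left _ hl')))
  have hqa : ∀ k, (q a - q (geom ζ k.val)) * e k = 0 := fun k => by
    rw [sub_mul, map_sum, Finset.sum_mul, Finset.sum_eq_single k, map_mul, he', mul_comm (e k), mul_assoc,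
      (he k).eq, sub_self]
    · intro l _ hl
      rw [map_mul, he', mul_right_comm, horth l k hl, zero_mul]
    · simp
  have hcover : ∀ Q : PrimeSpectrum B, e (d (π Q)) ∉ Q.asIdeal := fun Q => (hek _ Q).2 rfl
  have hone : ∑ k, e k = 1 := by
    have hidem : IsIdempotentElem (1 - ∑ k, e k) := by
      refine IsIdempotentElem.one_sub ?_
      show (∑ k, e k) * ∑ l, e l = _
      rw [Finset.sum_mul]
      refine Finset.sum_congr rfl fun k _ => ?_
      rw [Finset.mul_sum, Finset.sum_eq_single k (fun l _ hl => horth k l hl.symm) (by simp), (he k).eq]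
    refine (sub_eq_zero.1 (hidem.eq_zero_of_isNilpotent ?_)).symm
    rw [← mem_nilradical, nilradical_eq_sInf, Ideal.mem_sInf]
    intro Q hQ
    haveI : Q.IsPrime := hQ
    refine ((Ideal.IsPrime.mem_or_mem (I := Q) inferInstance
      (show e (d (π ⟨Q, hQ⟩)) * (1 - ∑ k, e k) ∈ Q from ?_)).resolve_left (hcover ⟨Q, hQ⟩))
    rw [mul_sub, mul_one, Finset.mul_sum,
      Finset.sum_eq_single (d (π ⟨Q, hQ⟩)) (fun l _ hl => horth _ l hl.symm) (by simp), (he _).eq, sub_self]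
    exact Q.zero_mem
  have ha : ∀ (P : PrimeSpectrum A) (h : P ∈ PrimeSpectrum.zeroLocus ((I ⊔ J : Ideal A) : Set A)),
      a - geom ζ (d ⟨P, h⟩).val ∈ P.asIdeal := by
    intro P h
    obtain ⟨Q, rfl⟩ : P ∈ Set.range (PrimeSpectrum.comap q) := by
      rw [range_comap_of_surjective _ q Ideal.Quotient.mk_surjective, Ideal.mk_ker]
      exact h
    show q (a - geom ζ _) ∈ Q.asIdeal
    refine ((Ideal.IsPrime.mem_or_mem (I := Q.asIdeal) inferInstance ?_).resolve_right (hcover Q))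
    rw [map_sub]
    exact (hqa (d (π Q))) ▸ Q.asIdeal.zero_mem
  have hΦ : Phi p ζ a ∈ I ⊔ J := by
    rw [← Ideal.Quotient.eq_zero_iff_mem]
    show q (Phi p ζ a) = 0
    rw [← mul_one (q (Phi p ζ a)), ← hone, Finset.mul_sum]
    refine Finset.sum_eq_zero fun k _ => ?_
    rw [Phi, prod_zmod (fun k => a - geom ζ k), map_prod, ← Finset.mul_prod_erase _ _ (Finset.mem_univ k),
      map_sub, mul_right_comm, hqa, zero_mul]
  obtain ⟨i, hi, j, hj, hij⟩ := Submodule.mem_sup.1 hΦ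
  obtain ⟨s, hs⟩ := hA (X ^ p - C j) (monic_X_pow_sub_C j (Fact.out : p.Prime).ne_zero)
    (by rw [natDegree_X_pow_sub_C]; exact (Fact.out : p.Prime).pos)
  rw [eval_sub, eval_pow, eval_X, eval_C, sub_eq_zero] at hs
  let v := a - s
  have hlam : ∀ P ∈ PrimeSpectrum.zeroLocus (I : Set A), 1 + (ζ - 1) * v ∉ P.asIdeal := by
    intro P hP hmem
    have h1 : (1 + (ζ - 1) * a) ^ p - ((ζ - 1) * s) ^ p ∈ P.asIdeal := by
      obtain ⟨w, hw⟩ := sub_dvd_pow_sub_pow (1 + (ζ - 1) * a) ((ζ - 1) * s) p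
      rw [hw]
      refine P.asIdeal.mul_mem_right _ ?_
      have e1 : 1 + (ζ - 1) * a - (ζ - 1) * s = 1 + (ζ - 1) * v := by simp only [v]; ring
      exact e1 ▸ hmem
    rw [← (prod_identities hζ a a).1, mul_pow, hs, ← hij] at h1
    have e2 : (ζ - 1) ^ p * (i + j) + 1 - (ζ - 1) ^ p * j = (ζ - 1) ^ p * i + 1 := by ring
    rw [e2] at h1
    exact P.2.ne_top ((Ideal.eq_top_iff_one _).2
      ((P.asIdeal.add_mem_iff_right (P.asIdeal.mul_mem_left _ (hP hi))).1 h1))
  have hsJ : ∀ P ∈ PrimeSpectrum.zeroLocus (J : Set A), s ∈ P.asIdeal := fun P hP =>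
    P.2.mem_of_pow_mem p (hs ▸ hP hj)
  let P₀ := Phi p ζ v - i
  obtain ⟨z, hz⟩ : ∃ z, Phi p ζ z = P₀ := by
    let F : A[X] := ∏ k : Fin p, (X - C (geom ζ k))
    have hF : F.Monic := monic_prod_of_monic _ _ fun k _ => monic_X_sub_C _
    have hd : F.natDegree = p := by
      rw [natDegree_prod_of_monic _ _ fun k _ => monic_X_sub_C _]; simp
    have hdC : (C P₀).natDegree < F.natDegree := by
      rw [natDegree_C, hd]; exact (Fact.out : p.Prime).pos
    obtain ⟨z, hz⟩ := hA (F - C P₀) (hF.sub_of_left (degree_lt_degree hdC))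
      (by rw [natDegree_sub_C, hd]; exact (Fact.out : p.Prime).pos)
    exact ⟨z, by simpa [F, Phi, eval_prod, sub_eq_zero] using hz⟩
  have hP₀J : ∀ P ∈ PrimeSpectrum.zeroLocus (J : Set A), P₀ ∈ P.asIdeal := by
    intro P hP
    have hva : v - a ∈ P.asIdeal := by simpa [v] using hsJ P hP
    have : Phi p ζ v - Phi p ζ a ∈ P.asIdeal := by
      rw [← Ideal.Quotient.eq] at hva ⊢
      simp only [Phi, map_prod, map_sub, hva]
    have e : P₀ = (Phi p ζ v - Phi p ζ a) + j := by simp only [P₀]; rw [← hij]; ring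
    rw [e]
    exact add_mem this (hP hj)
  obtain ⟨f₁, hf₁⟩ := exists_label I z (fun k : ZMod p => ζ ^ k.val * v + geom ζ k.val)
    (fun P hP k l hkl => by
      intro h
      have e : ζ ^ k.val * v + geom ζ k.val - (ζ ^ l.val * v + geom ζ l.val) =
          (geom ζ k.val - geom ζ l.val) * (1 + (ζ - 1) * v) := by
        linear_combination (-v) * (geom_mul ζ k.val) + v * (geom_mul ζ l.val)
      rw [e] at h
      rcases P.2.mem_or_mem h with h | h
      · exact P.2.ne_top (Ideal.eq_top_of_isUnit_mem _ h (isUnit_geom_sub hζ hkl))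
      · exact hlam P hP h)
    (by
      rw [← prod_zmod (fun k => z - (ζ ^ k * v + geom ζ k)), ← (prod_identities hζ z v).2, hz]
      simpa [P₀] using hi)
  obtain ⟨f₂, hf₂⟩ := exists_label J.radical z (fun k : ZMod p => geom ζ k.val)
    (fun P _ k l hkl h => P.2.ne_top (Ideal.eq_top_of_isUnit_mem _ h (isUnit_geom_sub hζ hkl)))
    (by
      rw [← prod_zmod (fun k => z - geom ζ k), ← PrimeSpectrum.vanishingIdeal_zeroLocus_eq_radical,
        PrimeSpectrum.mem_vanishingIdeal]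
      intro P hP
      show Phi p ζ z ∈ P.asIdeal
      rw [hz]; exact hP₀J P hP)
  have hrad : ∀ P, P ∈ PrimeSpectrum.zeroLocus (J : Set A) →
      P ∈ PrimeSpectrum.zeroLocus (J.radical : Set A) := fun P hP => by
    rwa [PrimeSpectrum.zeroLocus_radical]
  let g₂ : LocallyConstant (PrimeSpectrum.zeroLocus (J : Set A)) (ZMod p) :=
    f₂.comap ⟨fun P => ⟨P.1, hrad P.1 P.2⟩, Continuous.subtype_mk continuous_subtype_val _⟩
  refine ⟨f₁, g₂, fun P h h₁ h₂ => ?_⟩
  have e1 : z - (ζ ^ (f₁ ⟨P, h₁⟩).val * v + geom ζ (f₁ ⟨P, h₁⟩).val) ∈ P.asIdeal :=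
    (hf₁ ⟨P, h₁⟩ _).2 rfl
  have hva : v - geom ζ (d ⟨P, h⟩).val ∈ P.asIdeal := by
    have e : v - geom ζ (d ⟨P, h⟩).val = (a - geom ζ (d ⟨P, h⟩).val) - s := by simp only [v]; ring
    rw [e]
    exact sub_mem (ha P h) (hsJ P h₂)
  have e2 : z - geom ζ (f₁ ⟨P, h₁⟩ + d ⟨P, h⟩).val ∈ P.asIdeal := by
    have e : z - geom ζ (f₁ ⟨P, h₁⟩ + d ⟨P, h⟩).val =
        (z - (ζ ^ (f₁ ⟨P, h₁⟩).val * v + geom ζ (f₁ ⟨P, h₁⟩).val)) +
          ζ ^ (f₁ ⟨P, h₁⟩).val * (v - geom ζ (d ⟨P, h⟩).val) := by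
      rw [← geom_val_add hζ]; ring
    rw [e]
    exact add_mem e1 (P.asIdeal.mul_mem_left _ hva)
  have e3 := (hf₂ ⟨P, hrad P h₂⟩ _).1 e2
  show d ⟨P, h⟩ = f₂ ⟨P, _⟩ - f₁ ⟨P, h₁⟩
  rw [e3, add_sub_cancel_left]

end Groth.EtPbc.CycloSplit
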