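import Groth.Agent.EtPbc.LocalCriterion
import Groth.Agent.EtPbc.ClosedMV
import Groth.Agent.EtPbc.CycloSplit
import Groth.Agent.S1992
import Mathlib.Order.Zorn

/-!
# Constant sheaves on spectra of absolutely integrally closed rings have no higher cohomology
-/

set_option autoImplicit false

universe u

open CategoryTheory CategoryTheory.Limits CategoryTheory.Abelian AlgebraicGeometry Opposite

namespace Groth.EtPbc.AICVanish

open Groth.EtaleBase Groth.EtaleBase.EtLimit Groth.EtPbc.ConstRestr Groth.EtPbc.LocalCriterion Groth.Limits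

attribute [local instance] pull_preservesFiniteLimits

/-- Quotients inherit absolute integral closedness. -/
lemma isAIC_of_surjective {A B : Type*} [CommRing A] [CommRing B] (hA : Curves.IsAIC A) (f : A →+* B)
    (hf : Function.Surjective f) : Curves.IsAIC B := by
  intro P hP hd
  rcases subsingleton_or_nontrivial B with hB | hB
  · exact ⟨0, Subsingleton.elim _ _⟩
  obtain ⟨Q, hQ, hQd, hQm⟩ := Polynomial.lifts_and_natDegree_eq_and_monic
    (show P ∈ Polynomial.lifts f from (Polynomial.lifts_iff_coeff_lifts _).2 fun i => hf _) hP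
  obtain ⟨r, hr⟩ := hA Q hQm (hQd ▸ hd)
  exact ⟨f r, by rw [← hQ, Polynomial.eval_map, Polynomial.eval₂_at_apply, hr, map_zero]⟩

open Polynomial in
/-- Monic polynomials over an absolutely integrally closed ring split. -/
lemma splits {A : Type u} [CommRing A] (hA : Curves.IsAIC A) :
    ∀ (n : ℕ) (f : A[X]), f.Monic → f.natDegree = n →
      ∃ s : Multiset A, f = (s.map fun a => X - C a).prod := by
  intro n
  induction n with
  | zero => exact fun f hf hd => ⟨0, by simp [hf.natDegree_eq_zero.1 hd]⟩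
  | succ n ih =>
    intro f hf hd
    obtain ⟨c, hc⟩ := hA f hf (by omega)
    have hdiv : (X - C c) * (f /ₘ (X - C c)) = f := mul_divByMonic_eq_iff_isRoot.2 hc
    have hm : (f /ₘ (X - C c)).Monic := (monic_X_sub_C c).of_mul_monic_left (hdiv.symm ▸ hf)
    rcases subsingleton_or_nontrivial A with hA1 | hA1
    · exact ⟨0, Subsingleton.elim _ _⟩
    obtain ⟨s, hs⟩ := ih _ hm (by rw [natDegree_divByMonic _ (monic_X_sub_C c), natDegree_X_sub_C, hd]; rfl)
    exact ⟨c ::ₘ s, by rw [Multiset.map_cons, Multiset.prod_cons, ← hs, hdiv]⟩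

lemma localTrivial {A : Type u} [CommRing A] (hA : Curves.IsAIC A) :
    LocalTrivial (Spec (CommRingCat.of A)) := fun x G n hn =>
  subsingleton_H_of_iso (Localization.AtPrime x.asIdeal)
    (Groth.Agent.S1992.result A (fun f hf => splits hA _ f hf rfl) x.asIdeal)
    (Scheme.Spec.mapIso (IsLocalization.algEquiv x.asIdeal.primeCompl
      ((Spec.structureSheaf A).presheaf.stalk x)
      (Localization.AtPrime x.asIdeal)).symm.toRingEquiv.toCommRingCatIso.op) G n hn

section irreducible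

variable {X : Scheme.{u}} [IrreducibleSpace X] (M : Type) [AddCommGroup M]

lemma preconnectedSpace_opens (V : X.Opens) : PreconnectedSpace ↥(V : Scheme.{u}) := by
  have : _root_.IsPreconnected (V : Set X) :=
    ((PreirreducibleSpace.isPreirreducible_univ (X := X)).open_subset V.2 (Set.subset_univ _)).isPreconnected
  exact Subtype.preconnectedSpace this

/-- The kernel condition for constant sheaves on irreducible schemes. -/
theorem h1Kernel : H1Kernel (EtCoh.const X M) := by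
  intro f g ξ h₁ h₂
  let W := X.basicOpen (f + g)
  let U := X.basicOpen (f * (f + g))
  let V := X.basicOpen (g * (f + g))
  have hU : U ≤ W := (X.basicOpen_mul f (f + g)).trans_le inf_le_right
  have hV : V ≤ W := (X.basicOpen_mul g (f + g)).trans_le inf_le_right
  let j := X.homOfLE hU
  let l := X.homOfLE hV
  let k := X.homOfLE ((inf_le_left : U ⊓ V ≤ U).trans hU)
  let i := X.homOfLE (inf_le_left : U ⊓ V ≤ U)
  let F := EtCoh.const (W : Scheme.{u}) M
  have hcov : ∀ p : ↥(W : Scheme.{u}), p ∈ Set.range j.base ∨ p ∈ Set.range l.base := fun p => by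
    rw [range_homOfLE, range_homOfLE]
    rcases X.basicOpen_add_le f g p.2 with hf | hg
    · left
      show W.ι.base p ∈ X.basicOpen (f * (f + g))
      rw [X.basicOpen_mul]; exact ⟨hf, p.2⟩
    · right
      show W.ι.base p ∈ X.basicOpen (g * (f + g))
      rw [X.basicOpen_mul]; exact ⟨hg, p.2⟩
  obtain ⟨δ, -, hker, -, hδ⟩ := MV.exists_seq j F i k (X.homOfLE_homOfLE _ _) l
    (X.homOfLE (inf_le_right : U ⊓ V ≤ V)) (X.homOfLE_homOfLE _ _) hcov
    (by rw [range_homOfLE, range_homOfLE, range_homOfLE]; rfl)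
  let pc := (EtCore.pullConst W.ι M)
  let ξ' : EtCoh.H ↑W F 1 := Ext.comp ξ (Ext.mk₀ pc.hom) (add_zero 1)
  have hz : ∀ {S : X.Opens} (hS : S ≤ W), res (EtCoh.const X M) hS 1 ξ = 0 →
      EtCore.Hpull (X.homOfLE hS) F 1 ξ' = 0 := fun hS h => by
    rw [show EtCore.Hpull (X.homOfLE hS) F 1 ξ' = _ from Hpull_map _ _ _ _,
      (HpullVia_eq_zero_iff _ _ _ _ (EtCoh.const X M) 1 ξ).1 h, Ext.zero_comp]
  have hξ' : ξ' = 0 := by
    have hmem : ξ' ∈ (MV.P j F 1 l).ker := AddMonoidHom.mem_ker.2 (Prod.ext (hz hU h₁) (hz hV h₂))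
    rw [hker 0] at hmem
    obtain ⟨y, hy⟩ := hmem
    rw [← hy]
    haveI := preconnectedSpace_opens (U ⊓ V)
    obtain ⟨x, hx⟩ := restr_zero_surjective M k (Ext.comp y (Ext.mk₀ (EtCore.pullConst k M).hom) (add_zero 0))
    have hyx : y = EtCore.Hpull k F 0 x := by
      have h1 := congrArg (fun z => Ext.comp z (Ext.mk₀ (EtCore.pullConst k M).inv) (add_zero 0)) hx
      rw [restr_apply, ext_cancel _ _ _ (EtCore.pullConst k M).hom_inv_id,
        ext_cancel _ _ _ (EtCore.pullConst k M).hom_inv_id] at h1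
      exact h1.symm
    suffices y ∈ (δ 0).ker from this
    rw [hδ 0]
    refine ⟨(EtCore.Hpull j F 0 x, 0), ?_⟩
    show EtCore.HpullVia i j k _ F 0 (EtCore.Hpull j F 0 x) - EtCore.HpullVia _ l k _ F 0 0 = y
    rw [map_zero, sub_zero, hyx]
    have key : ∀ (k' : ↑(U ⊓ V) ⟶ ↑W) (hk' : i ≫ j = k'),
        EtCore.HpullVia i j k' hk' F 0 (EtCore.Hpull j F 0 x) = EtCore.Hpull k' F 0 x := by
      intro k' hk'
      cases hk'
      show (EtCore.Hpull i _ 0 (EtCore.Hpull j F 0 x)).comp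
        (Ext.mk₀ ((EtCore.pullComp i j).inv.app F ≫ 𝟙 _)) (add_zero 0) = _
      rw [Category.comp_id]
      exact Hpull_comp_inv i j F 0 x
    exact key k _
  have := congrArg (fun z => Ext.comp z (Ext.mk₀ pc.inv) (add_zero 1)) hξ'
  rw [ext_cancel _ _ _ pc.hom_inv_id, Ext.zero_comp] at this
  exact this

theorem subsingleton_H_irreducible {A : Type u} [CommRing A] (hA : Curves.IsAIC A)
    [IrreducibleSpace (Spec (CommRingCat.of A))] (q : ℕ) (hq : 1 ≤ q) :
    Subsingleton (EtCoh.H (Spec (CommRingCat.of A)) (EtCoh.const (Spec (CommRingCat.of A)) M) q) :=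
  subsingleton_H _ (localTrivial hA) (h1Kernel M) q hq

end irreducible

section chain

variable {A : Type u} [CommRing A]

/-- The closed subscheme of an ideal. -/
noncomputable abbrev cl (I : Ideal A) : Spec (CommRingCat.of (A ⧸ I)) ⟶ Spec (CommRingCat.of A) :=
  Spec.map (CommRingCat.ofHom (Ideal.Quotient.mk I))

instance isClosedImmersion_cl (I : Ideal A) : IsClosedImmersion (cl I) :=
  IsClosedImmersion.spec_of_quotient_mk (R := CommRingCat.of A) I

/-- Transition between closed subschemes. -/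
noncomputable abbrev clLE {I J : Ideal A} (h : I ≤ J) :
    Spec (CommRingCat.of (A ⧸ J)) ⟶ Spec (CommRingCat.of (A ⧸ I)) :=
  Spec.map (CommRingCat.ofHom (Ideal.Quotient.factor h))

lemma clLE_cl {I J : Ideal A} (h : I ≤ J) : clLE h ≫ cl I = cl J := by
  rw [← Spec.map_comp, ← CommRingCat.ofHom_comp, Ideal.Quotient.factor_comp_mk]

lemma range_cl (I : Ideal A) : Set.range (cl I).base = PrimeSpectrum.zeroLocus (I : Set A) := by
  show Set.range (PrimeSpectrum.comap (Ideal.Quotient.mk I)) = _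
  rw [range_comap_of_surjective _ _ Ideal.Quotient.mk_surjective, Ideal.mk_ker]

variable (c : Set (Ideal A))

/-- The system of closed subschemes of a chain of ideals. -/
noncomputable def sys : (↥c)ᵒᵖ ⥤ Scheme.{u} where
  obj J := Spec (CommRingCat.of (A ⧸ J.unop.1))
  map {_ _} h := clLE (leOfHom h.unop)
  map_id J := by
    rw [← Spec.map_id]
    refine congrArg Spec.map ?_
    apply CommRingCat.hom_ext
    apply Ideal.Quotient.ringHom_ext
    rfl
  map_comp {_ _ _} g h := by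
    rw [← Spec.map_comp]
    refine congrArg Spec.map ?_
    apply CommRingCat.hom_ext
    apply Ideal.Quotient.ringHom_ext
    rfl

/-- The intersection as a cone. -/
noncomputable def sysCone : Cone (sys c) where
  pt := Spec (CommRingCat.of (A ⧸ sSup c))
  π :=
    { app := fun J => clLE (le_sSup J.unop.2)
      naturality := fun J J' h => by
        show 𝟙 _ ≫ clLE _ = clLE _ ≫ clLE (leOfHom h.unop)
        rw [Category.id_comp, ← Spec.map_comp]
        refine congrArg Spec.map ?_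
        apply CommRingCat.hom_ext
        apply Ideal.Quotient.ringHom_ext
        rfl }

/-- The intersection is the limit. -/
lemma nonempty_isLimit_sysCone (hc : IsChain (· ≤ ·) c) (hne : c.Nonempty) :
    Nonempty (IsLimit (sysCone c)) := by
  obtain ⟨J₀, hJ₀⟩ := hne
  let base : ∀ s : Cone (sys c), CommRingCat.of A ⟶ Γ(s.pt, ⊤) := fun s =>
    (Scheme.ΓSpecIso (CommRingCat.of A)).inv ≫ (s.π.app (op ⟨J₀, hJ₀⟩) ≫ cl J₀).appTop
  have hbase : ∀ (s : Cone (sys c)) (J : ↥c), s.pt.toSpecΓ ≫ Spec.map (base s) = s.π.app (op J) ≫ cl J.1 := by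
    intro s J
    rw [show s.pt.toSpecΓ ≫ Spec.map (base s) = s.π.app (op ⟨J₀, hJ₀⟩) ≫ cl J₀ from toSpecΓ_SpecMap_appTop _]
    rcases hc.total hJ₀ J.2 with h | h
    · have := s.w (j := op J) (j' := op ⟨J₀, hJ₀⟩) (homOfLE (show (⟨J₀, hJ₀⟩ : ↥c) ≤ J from h)).op
      rw [← this, Category.assoc]
      exact congrArg (s.π.app (op J) ≫ ·) (clLE_cl h)
    · have := s.w (j := op ⟨J₀, hJ₀⟩) (j' := op J) (homOfLE (show J ≤ (⟨J₀, hJ₀⟩ : ↥c) from h)).op
      rw [← this, Category.assoc]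
      exact (congrArg (s.π.app (op ⟨J₀, hJ₀⟩) ≫ ·) (clLE_cl h)).symm
  have hker : ∀ (s : Cone (sys c)), ∀ a ∈ sSup c, (base s).hom a = 0 := by
    intro s a ha
    obtain ⟨J, hJ, haJ⟩ := (Submodule.mem_sSup_of_directed ⟨J₀, hJ₀⟩ hc.directedOn).1 ha
    let g : s.pt ⟶ Spec (CommRingCat.of (A ⧸ J)) := s.π.app (op ⟨J, hJ⟩)
    let φ : CommRingCat.of (A ⧸ J) ⟶ Γ(s.pt, ⊤) := (Scheme.ΓSpecIso _).inv ≫ g.appTop
    have e : base s = CommRingCat.ofHom (Ideal.Quotient.mk J) ≫ φ := by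
      have h1 : g ≫ cl J = s.π.app (op ⟨J₀, hJ₀⟩) ≫ cl J₀ := by
        rw [← toSpecΓ_SpecMap_appTop (s.π.app (op ⟨J₀, hJ₀⟩) ≫ cl J₀)]
        exact (hbase s ⟨J, hJ⟩).symm
      show (Scheme.ΓSpecIso (CommRingCat.of A)).inv ≫ (s.π.app (op ⟨J₀, hJ₀⟩) ≫ cl J₀).appTop =
        CommRingCat.ofHom (Ideal.Quotient.mk J) ≫ (Scheme.ΓSpecIso _).inv ≫ g.appTop
      rw [← h1, Scheme.Hom.comp_appTop, ← Category.assoc, ← Category.assoc]
      congr 1
      exact (Scheme.ΓSpecIso_inv_naturality _).symm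
    rw [e]
    show φ.hom (Ideal.Quotient.mk J a) = 0
    rw [Ideal.Quotient.eq_zero_iff_mem.2 haJ, map_zero]
  let ψ : ∀ s : Cone (sys c), CommRingCat.of (A ⧸ sSup c) ⟶ Γ(s.pt, ⊤) := fun s =>
    CommRingCat.ofHom (Ideal.Quotient.lift (sSup c) (base s).hom (hker s))
  have hψ : ∀ s, (s.pt.toSpecΓ ≫ Spec.map (ψ s)) ≫ cl (sSup c) = s.pt.toSpecΓ ≫ Spec.map (base s) := fun s => by
    rw [Category.assoc, ← Spec.map_comp]
    rfl
  refine ⟨{ lift := fun s => s.pt.toSpecΓ ≫ Spec.map (ψ s), fac := fun s J => ?_, uniq := fun s m hm => ?_ }⟩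
  · refine (cancel_mono (cl J.unop.1)).1 ?_
    show ((s.pt.toSpecΓ ≫ Spec.map (ψ s)) ≫ clLE _) ≫ cl J.unop.1 = _
    rw [Category.assoc, clLE_cl, hψ]
    exact hbase s J.unop
  · refine (cancel_mono (cl (sSup c))).1 ?_
    refine Eq.trans ?_ ((hψ s).trans (hbase s ⟨J₀, hJ₀⟩)).symm
    rw [← hm (op ⟨J₀, hJ₀⟩), Category.assoc]
    exact congrArg (m ≫ ·) (clLE_cl (le_sSup hJ₀)).symm

/-- A class dying on the intersection of a chain of closed subschemes dies on one of them. -/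
lemma exists_restr_zero (M : Type) [AddCommGroup M] (hc : IsChain (· ≤ ·) c) (hne : c.Nonempty) (q : ℕ)
    (ξ : EtCoh.H (Spec (CommRingCat.of A)) (EtCoh.const _ M) q) (h : restr M (cl (sSup c)) q ξ = 0) :
    ∃ J ∈ c, restr M (cl J) q ξ = 0 := by
  obtain ⟨J₀, hJ₀⟩ := hne
  haveI : IsDirectedOrder ↥c := ⟨fun a b => (hc.total a.2 b.2).elim
    (fun h => ⟨b, h, le_rfl⟩) (fun h => ⟨a, le_rfl, h⟩)⟩
  haveI : Nonempty ↥c := ⟨⟨J₀, hJ₀⟩⟩
  haveI : ∀ a, IsAffine ((sys c).obj a) := fun a => inferInstanceAs (IsAffine (Spec _))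
  obtain ⟨lim⟩ := nonempty_isLimit_sysCone c hc ⟨J₀, hJ₀⟩
  let i₀ : ↥c := ⟨J₀, hJ₀⟩
  let ξ₀ := restr M (cl J₀) q ξ
  let t := (sys c).map (homOfLE (le_refl i₀)).op
  obtain ⟨-, hinj⟩ := Groth.Agent.S0646.result (sys c) (fun a b f => inferInstance)
    (fun a => inferInstance) (fun a => inferInstance) (sysCone c) lim i₀
    (EtCoh.const (Spec (CommRingCat.of (A ⧸ J₀))) M) q
  have hz : EtCore.HpullVia ((sysCone c).π.app (op i₀)) t ((sysCone c).π.app (op i₀))
      ((sysCone c).w (homOfLE (le_refl i₀)).op) (EtCoh.const _ M) q (EtCore.Hpull t _ q ξ₀) = 0 := by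
    rw [HpullVia_eq_zero_iff, Hpull_comp]
    have e : (sysCone c).π.app (op i₀) ≫ t = clLE (le_sSup hJ₀) := (sysCone c).w (homOfLE (le_refl i₀)).op
    have h0 : EtCore.Hpull ((sysCone c).π.app (op i₀) ≫ t) (EtCoh.const _ M) q ξ₀ = 0 := by
      rw [e]
      have h1 : restr M (clLE (le_sSup hJ₀)) q ξ₀ = 0 :=
        (restr_comp M _ _ q ξ).trans ((restr_congr M (clLE_cl _) q ξ).trans h)
      have h2 := congrArg (fun z => Ext.comp z (Ext.mk₀ (EtCore.pullConst (clLE (le_sSup hJ₀)) M).inv)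
        (add_zero q)) h1
      rw [restr_apply, ext_cancel _ _ _ (Iso.hom_inv_id _), Ext.zero_comp] at h2
      exact h2
    rw [h0, Ext.zero_comp]
  obtain ⟨k, hk, hk0⟩ := hinj i₀ le_rfl _ hz
  refine ⟨k.1, k.2, ?_⟩
  have h1 := Hpull_zero_of_comp _ _ _ q ξ₀ hk0
  let m : Spec (CommRingCat.of (A ⧸ k.1)) ⟶ Spec (CommRingCat.of (A ⧸ J₀)) := (sys c).map (homOfLE hk).op ≫ t
  have h2 : restr M m q ξ₀ = 0 := by
    exact (congrArg (fun z => Ext.comp z (Ext.mk₀ (EtCore.pullConst m M).hom) (add_zero q)) h1).trans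
      (Ext.zero_comp _ _ _ _ _)
  refine (restr_congr M ?_ q ξ).symm.trans ((restr_comp M m (cl J₀) q ξ).symm.trans h2)
  show (clLE hk ≫ clLE (le_refl J₀)) ≫ cl J₀ = cl k.1
  rw [Category.assoc, clLE_cl, clLE_cl]

end chain

/-- Cohomology with coefficients in `ℤ/p`. -/
theorem subsingleton_H_zmod (p : ℕ) [Fact p.Prime] : ∀ (n : ℕ) (A : Type u) [CommRing A], Curves.IsAIC A →
    Subsingleton (EtCoh.H (Spec (CommRingCat.of A)) (EtCoh.const (Spec (CommRingCat.of A)) (ZMod p)) (n + 1)) := by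
  intro n
  induction n using Nat.strong_induction_on with
  | _ n ih => ?_
  intro A _ hA
  suffices ∀ ξ : EtCoh.H (Spec (CommRingCat.of A)) (EtCoh.const _ (ZMod p)) (n + 1), ξ = 0 from
    ⟨fun a b => (this a).trans (this b).symm⟩
  intro ξ
  by_contra hξ
  let S : Set (Ideal A) := {I | restr (ZMod p) (cl I) (n + 1) ξ ≠ 0}
  have hbot : (⊥ : Ideal A) ∈ S := fun h => hξ (by
    let e : CommRingCat.of A ⟶ CommRingCat.of (A ⧸ (⊥ : Ideal A)) := CommRingCat.ofHom (Ideal.Quotient.mk ⊥)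
    let e' : CommRingCat.of (A ⧸ (⊥ : Ideal A)) ⟶ CommRingCat.of A :=
      CommRingCat.ofHom (Ideal.Quotient.lift ⊥ (RingHom.id A) (fun a ha => ha))
    have he : Spec.map e' ≫ cl ⊥ = 𝟙 _ := by
      rw [← Spec.map_comp, ← Spec.map_id]; rfl
    have h1 := congrArg (restr (ZMod p) (Spec.map e') (n + 1)) h
    rw [restr_comp, map_zero, restr_congr (ZMod p) he, restr_apply] at h1
    have h2 := congrArg (fun z => Ext.comp z (Ext.mk₀ (EtCore.pullConst (𝟙 _) (ZMod p)).inv) (add_zero _)) h1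
    rw [ext_cancel _ _ _ (Iso.hom_inv_id _), Ext.zero_comp] at h2
    exact (InjCoh.Hpull_bijective_univHomeo (𝟙 (Spec (CommRingCat.of A))) _ (n + 1)).1 (h2.trans (map_zero _).symm))
  obtain ⟨I, -, hI⟩ := zorn_le_nonempty₀ S (fun c hcS hc J hJ => ⟨sSup c, fun h => by
    obtain ⟨J', hJ', h'⟩ := exists_restr_zero c (ZMod p) hc ⟨J, hJ⟩ (n + 1) ξ h
    exact hcS hJ' h', fun z hz => le_sSup hz⟩) ⊥ hbot
  let B := A ⧸ I
  have hB : Curves.IsAIC B := isAIC_of_surjective hA _ Ideal.Quotient.mk_surjective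
  let η := restr (ZMod p) (cl I) (n + 1) ξ
  have hη : η ≠ 0 := hI.1
  have hmin : ∀ J : Ideal B, J ≠ ⊥ → restr (ZMod p) (cl J) (n + 1) η = 0 := by
    intro J hJ
    let J' : Ideal A := J.comap (Ideal.Quotient.mk I)
    have hle : I ≤ J' := fun a ha => by
      show Ideal.Quotient.mk I a ∈ J
      rw [Ideal.Quotient.eq_zero_iff_mem.2 ha]; exact J.zero_mem
    have hJ' : restr (ZMod p) (cl J') (n + 1) ξ = 0 := by
      by_contra h
      refine hJ (eq_bot_iff.2 fun b hb => ?_)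
      obtain ⟨a, rfl⟩ := Ideal.Quotient.mk_surjective b
      exact Ideal.Quotient.eq_zero_iff_mem.2 (hI.2 h hle hb)
    let g : Spec (CommRingCat.of (B ⧸ J)) ⟶ Spec (CommRingCat.of (A ⧸ J')) :=
      Spec.map (CommRingCat.ofHom (Ideal.quotientMap J (Ideal.Quotient.mk I) le_rfl))
    rw [show η = restr (ZMod p) (cl I) (n + 1) ξ from rfl, restr_comp]
    refine (restr_congr (ZMod p) (show cl J ≫ cl I = g ≫ cl J' from ?_) _ ξ).trans
      ((restr_comp (ZMod p) g (cl J') _ ξ).symm.trans (by rw [hJ', map_zero]))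
    rw [← Spec.map_comp, ← Spec.map_comp]
    rfl
  rcases subsingleton_or_nontrivial B with hB1 | hB1
  · haveI : IsEmpty (Spec (CommRingCat.of B)) := inferInstanceAs (IsEmpty (PrimeSpectrum B))
    exact hη (@Subsingleton.elim _ (subsingleton_H_of_isEmpty _ _) _ _)
  by_cases hirr : (nilradical B).IsPrime
  · haveI : IrreducibleSpace (Spec (CommRingCat.of B)) :=
      PrimeSpectrum.irreducibleSpace_iff_isPrime_nilradical.2 hirr
    exact hη (@Subsingleton.elim _ (subsingleton_H_irreducible (ZMod p) hB (n + 1) (Nat.le_add_left 1 n)) _ _)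
  obtain ⟨a, b, ha, hb, hab⟩ : ∃ a b : B, ¬IsNilpotent a ∧ ¬IsNilpotent b ∧ IsNilpotent (a * b) := by
    by_contra h
    push_neg at h
    refine hirr (Ideal.isPrime_iff.2 ⟨fun ht => ?_, fun {a b} hab => ?_⟩)
    · exact one_ne_zero (α := B) (by
        obtain ⟨k, hk⟩ := mem_nilradical.1 ((Ideal.eq_top_iff_one _).1 ht)
        rwa [one_pow] at hk)
    · by_contra hn
      push_neg at hn
      exact h a b (fun q => hn.1 (mem_nilradical.2 q)) (fun q => hn.2 (mem_nilradical.2 q)) (mem_nilradical.1 hab)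
  let I₁ : Ideal B := Ideal.span {a}
  let I₂ : Ideal B := Ideal.span {b}
  have h₁ : restr (ZMod p) (cl I₁) (n + 1) η = 0 := hmin I₁ fun h =>
    ha ((Ideal.span_singleton_eq_bot.1 h).symm ▸ IsNilpotent.zero)
  have h₂ : restr (ZMod p) (cl I₂) (n + 1) η = 0 := hmin I₂ fun h =>
    hb ((Ideal.span_singleton_eq_bot.1 h).symm ▸ IsNilpotent.zero)
  refine hη (ClosedMV.eq_zero_of_restr (ZMod p) (clLE_cl (le_sup_left : I₁ ≤ I₁ ⊔ I₂))
    (clLE_cl (le_sup_right : I₂ ≤ I₁ ⊔ I₂)) (fun x => ?_) ?_ n (fun y => ?_) η h₁ h₂)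
  · rw [range_cl, range_cl, PrimeSpectrum.zeroLocus_span, PrimeSpectrum.zeroLocus_span]
    have := nilpotent_iff_mem_prime.1 hab x.asIdeal x.2
    rcases x.2.mem_or_mem this with h | h
    · exact Or.inl (Set.singleton_subset_iff.2 h)
    · exact Or.inr (Set.singleton_subset_iff.2 h)
  · rw [range_cl, range_cl, range_cl, PrimeSpectrum.zeroLocus_sup]
    rfl
  rcases n with _ | m
  · obtain ⟨φ, rfl⟩ := (Ext.mk₀_bijective _ _).2 y
    have hemb : ∀ J : Ideal B, Topology.IsEmbedding (cl J).base := fun J =>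
      (cl J).isClosedEmbedding.isEmbedding
    let e := fun J : Ideal B => (hemb J).toHomeomorph.trans (Homeomorph.setCongr (range_cl J))
    let d : LocallyConstant (PrimeSpectrum.zeroLocus ((I₁ ⊔ I₂ : Ideal B) : Set B)) (ZMod p) :=
      ⟨fun P => ConstH0.val φ ((e _).symm P),
        (ConstH0.isLocallyConstant_val φ).comp_continuous (e _).symm.continuous⟩
    obtain ⟨f₁, f₂, hf⟩ := CycloSplit.exists_split hB p I₁ I₂ d
    obtain ⟨φ₁, hφ₁⟩ := ConstH0.exists_val (fun z => -f₁ (e I₁ z))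
      ((f₁.isLocallyConstant.comp_continuous (e I₁).continuous).comp Neg.neg)
    obtain ⟨φ₂, hφ₂⟩ := ConstH0.exists_val (fun z => -f₂ (e I₂ z))
      ((f₂.isLocallyConstant.comp_continuous (e I₂).continuous).comp Neg.neg)
    refine ⟨Ext.mk₀ φ₁, Ext.mk₀ φ₂, ?_⟩
    rw [restr_mk₀, restr_mk₀, sub_eq_add_neg, ← Ext.mk₀_neg, ← Ext.mk₀_add, ← sub_eq_add_neg]
    refine congrArg Ext.mk₀ (ConstH0.ext_val fun w => ?_)
    rw [ConstH0.val_sub, ConstH0.val_rMap, ConstH0.val_rMap, hφ₁, hφ₂]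
    let P := (cl (I₁ ⊔ I₂)).base w
    have hP : P ∈ PrimeSpectrum.zeroLocus ((I₁ ⊔ I₂ : Ideal B) : Set B) := (range_cl _).le ⟨w, rfl⟩
    have hP' : ∀ {J : Ideal B} (hJ : J ≤ I₁ ⊔ I₂), P ∈ PrimeSpectrum.zeroLocus (J : Set B) :=
      fun hJ => PrimeSpectrum.zeroLocus_anti_mono hJ hP
    have e₀ : d ⟨P, hP⟩ = ConstH0.val φ w := by
      show ConstH0.val φ ((e _).symm ⟨P, hP⟩) = _
      congr 1
      exact (e _).symm_apply_eq.2 (Subtype.ext rfl)
    have key : ∀ {J : Ideal B} (hJ : J ≤ I₁ ⊔ I₂), e J ((clLE hJ).base w) = ⟨P, hP' hJ⟩ := fun {J} hJ => by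
      apply Subtype.ext
      show (cl J).base ((clLE hJ).base w) = (cl (I₁ ⊔ I₂)).base w
      rw [← Scheme.Hom.comp_apply, clLE_cl]
    rw [key le_sup_left, key le_sup_right, ← e₀, hf P hP (hP' le_sup_left) (hP' le_sup_right)]
    exact (sub_eq_add_neg _ _).trans ((add_comm _ _).trans (sub_neg_eq_add _ _).symm)
  · have := ih m (Nat.lt_succ_self m) (B ⧸ (I₁ ⊔ I₂)) (isAIC_of_surjective hB _ Ideal.Quotient.mk_surjective)
    exact ⟨0, 0, @Subsingleton.elim _ this _ _⟩

/-- Finite coefficients. -/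
theorem subsingleton_H_finite {A : Type u} [CommRing A] (hA : Curves.IsAIC A) (n : ℕ) :
    ∀ (k : ℕ) (M : Type) [AddCommGroup M] [Finite M], Nat.card M ≤ k →
      Subsingleton (EtCoh.H (Spec (CommRingCat.of A)) (EtCoh.const (Spec (CommRingCat.of A)) M) (n + 1)) := by
  let X := Spec (CommRingCat.of A)
  haveI : PreservesFiniteLimits (constantSheaf X.smallEtaleTopology AddCommGrpCat.{u + 1}) :=
    inferInstanceAs (PreservesFiniteLimits (Functor.const X.Etaleᵒᵖ ⋙
      presheafToSheaf X.smallEtaleTopology AddCommGrpCat.{u + 1}))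
  haveI : PreservesFiniteColimits (constantSheaf X.smallEtaleTopology AddCommGrpCat.{u + 1}) :=
    inferInstanceAs (PreservesFiniteColimits (Functor.const X.Etaleᵒᵖ ⋙
      presheafToSheaf X.smallEtaleTopology AddCommGrpCat.{u + 1}))
  haveI : (constantSheaf X.smallEtaleTopology AddCommGrpCat.{u + 1}).Additive :=
    Functor.additive_of_preserves_binary_products _
  let C := constantSheaf X.smallEtaleTopology AddCommGrpCat.{u + 1}
  have htrans : ∀ {G G' : AddCommGrpCat.{u + 1}}, (G ≅ G') →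
      Subsingleton (EtCoh.H X (C.obj G) (n + 1)) → Subsingleton (EtCoh.H X (C.obj G') (n + 1)) :=
    fun e h => by
      haveI : Subsingleton ((EtCoh.HF X (n + 1)).obj (C.obj _)) := h
      exact ((EtCoh.HF X (n + 1)).mapIso (C.mapIso e)).addCommGroupIsoToAddEquiv.symm.toEquiv.subsingleton
  intro k
  induction k with
  | zero => exact fun M _ _ h => absurd h (Nat.not_le.2 Nat.card_pos)
  | succ k ih =>
    intro M _ _ hM
    rcases subsingleton_or_nontrivial M with hM1 | hM1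
    · have hz : IsZero (C.obj (AddCommGrpCat.of (ULift.{u + 1} M))) :=
        C.map_isZero (AddCommGrpCat.isZero_of_subsingleton _)
      refine ⟨fun a b => ?_⟩
      rw [← Ext.comp_mk₀_id a, ← Ext.comp_mk₀_id b, (IsZero.iff_id_eq_zero _).1 hz, Ext.mk₀_zero,
        Ext.comp_zero, Ext.comp_zero]
    obtain ⟨p, hp, hpd⟩ := Nat.exists_prime_and_dvd (Finite.one_lt_card (α := M)).ne'
    haveI : Fact p.Prime := ⟨hp⟩
    obtain ⟨x, hx⟩ := exists_prime_addOrderOf_dvd_card' p hpd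
    let K := AddSubgroup.zmultiples x
    have hK : Nat.card K = p := by rw [Nat.card_zmultiples, hx]
    haveI : IsAddCyclic K := inferInstance
    let eK : ZMod p ≃+ K := (ZMod.ringEquivCongr hK.symm).toAddEquiv.trans (zmodAddCyclicAddEquiv inferInstance)
    let S₀ : ShortComplex AddCommGrpCat.{u + 1} := ShortComplex.mk
      (AddCommGrpCat.ofHom ((AddEquiv.ulift.symm.toAddMonoidHom.comp K.subtype).comp
        (AddEquiv.ulift : ULift.{u + 1} K ≃+ K).toAddMonoidHom))
      (AddCommGrpCat.ofHom (((AddEquiv.ulift : ULift.{u + 1} (M ⧸ K) ≃+ M ⧸ K).symm.toAddMonoidHom.comp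
        (QuotientAddGroup.mk' K)).comp (AddEquiv.ulift : ULift.{u + 1} M ≃+ M).toAddMonoidHom))
      (by ext a; exact (QuotientAddGroup.eq_zero_iff _).2 (a.down).2)
    have hS₀ : S₀.ShortExact := by
      refine { exact := (ShortComplex.ab_exact_iff _).2 fun a ha => ?_,
               mono_f := (AddCommGrpCat.mono_iff_injective _).2 fun a b h => ?_,
               epi_g := (AddCommGrpCat.epi_iff_surjective _).2 fun b => ?_ }
      · refine ⟨⟨⟨a.down, (QuotientAddGroup.eq_zero_iff _).1 ?_⟩⟩, rfl⟩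
        exact congrArg ULift.down ha
      · exact ULift.ext _ _ (Subtype.ext (congrArg ULift.down h))
      · obtain ⟨c, hc⟩ := QuotientAddGroup.mk_surjective b.down
        exact ⟨⟨c⟩, ULift.ext _ _ hc⟩
    have hS := hS₀.map_of_exact C
    have h₁ : Subsingleton (EtCoh.H X (C.obj S₀.X₁) (n + 1)) :=
      htrans (G := AddCommGrpCat.of (ULift.{u + 1} (ZMod p)))
        (((AddEquiv.ulift.trans eK).trans AddEquiv.ulift.symm).toAddCommGrpIso)
        (subsingleton_H_zmod p n A hA)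
    have h₃ : Subsingleton (EtCoh.H X (C.obj S₀.X₃) (n + 1)) := by
      refine ih (M ⧸ K) ?_
      have h := AddSubgroup.card_eq_card_quotient_mul_card_addSubgroup K
      rw [hK] at h
      have := hp.two_le
      nlinarith [Nat.card_pos (α := M ⧸ K)]
    refine ⟨fun a b => sub_eq_zero.1 ?_⟩
    obtain ⟨c, hc⟩ := Ext.covariant_sequence_exact₂ _ hS (a - b) (@Subsingleton.elim _ h₃ _ _)
    rw [← hc, @Subsingleton.elim _ h₁ c 0]
    exact Ext.zero_comp _ _ _ _ _

end Groth.EtPbc.AICVanish
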