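import Groth.Agent.EtPbc.StalkPointFields
import Groth.Agent.S0539
import Groth.Agent.S0541

/-!
# Cohomological dimension from a dimension function
-/

set_option autoImplicit false
set_option linter.style.haveILetI false
set_option backward.isDefEq.respectTransparency.types false
set_option maxHeartbeats 1000000
set_option maxRecDepth 4000

universe u

open CategoryTheory CategoryTheory.Limits CategoryTheory.Abelian AlgebraicGeometry Opposite TopologicalSpace

namespace Groth.FieldPush

open Groth.EtaleBase Groth.EtaleBase.SitePt Groth.EtaleDeep.Cons Groth.EtPbc.PointSupp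

variable {X : Scheme.{u}}

/-- A specialized prime generates a proper ideal in every strict henselization. -/
theorem exists_minimalPrime {x y : X} (hxy : x ⤳ y) {R : Type u} [CommRing R] [IsLocalRing R]
    [Algebra (X.presheaf.stalk y) R] [IsLocalHom (algebraMap (X.presheaf.stalk y) R)] :
    ∃ P, P ∈ ((RingHom.ker (Cyc.specMap y x hxy)).map (algebraMap (X.presheaf.stalk y) R)).minimalPrimes := by
  have hle : (RingHom.ker (Cyc.specMap y x hxy)).map (algebraMap (X.presheaf.stalk y) R) ≤ IsLocalRing.maximalIdeal R := by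
    refine Ideal.map_le_iff_le_comap.2 ?_
    rw [IsLocalRing.maximalIdeal_comap]
    exact IsLocalRing.le_maximalIdeal (RingHom.ker_ne_top (Cyc.specMap y x hxy))
  obtain ⟨P, hP, -⟩ := Ideal.exists_minimalPrimes_le hle
  exact ⟨P, hP⟩

/-- Cohomological dimension from a dimension function. -/
theorem subsingleton_H_of_dimFun [AlgebraicGeometry.IsNoetherian X] (ℓ : ℕ) (φ : X → ℕ)
    (h1 : ∀ x : X, Dix.CohDimLEAt (Spec (X.residueField x)) ℓ (φ x))
    (h2 : ∀ (x y : X) (hxy : x ⤳ y), x ≠ y →
      ∀ (R : Type u) [CommRing R] [IsLocalRing R] [Algebra (X.presheaf.stalk y) R]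
      [IsLocalHom (algebraMap (X.presheaf.stalk y) R)] [Hensel.IsStrictHenselization (X.presheaf.stalk y) R],
      ∀ P ∈ ((RingHom.ker (Cyc.specMap y x hxy)).map (algebraMap (X.presheaf.stalk y) R)).minimalPrimes,
        ∃ d : ℕ, d + 1 + φ y ≤ φ x ∧ Dix.CohDimLEAt (Spec (CommRingCat.of (FractionRing (R ⧸ P)))) ℓ d)
    (F : EtCoh.Ab X) (hF : Dix.IsPrimaryTorsion ℓ F) (q : ℕ) (hq : ∀ x ∈ EtPBC.supp F, φ x < q) :
    Subsingleton (EtCoh.H X F q) := by
  refine Primary.subsingleton_H_of_powParts ℓ hF q fun a => ?_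
  refine subsingleton_H_dimFun φ ?_ (fun x G hG r hr => h1 x G (isPrimaryTorsion_of_pow hG) r hr) ?_ q
    (Primary.powPart ℓ F a) (Primary.nsmul_id_powPart ℓ F a)
    (fun y hy => hq y (Primary.supp_powPart ℓ a hy)) q le_rfl
  · intro x y hxy hne
    let ξ := geomPoint y
    have hy : ξ default = y := geomPoint_apply y default
    obtain ⟨hloc, hsh⟩ := Groth.AlgSpEt.StrictHens.isStrictHenselization ξ
    letI : Algebra (X.presheaf.stalk (ξ default)) (EtBase.etaleLocalRing ξ) :=
      (Groth.AlgSpEt.StrictLocal.toEtale ξ).hom.toAlgebra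
    haveI := hloc
    haveI := hsh
    have hξ : x ⤳ ξ default := hy.symm ▸ hxy
    obtain ⟨P, hP⟩ := exists_minimalPrime hξ (R := EtBase.etaleLocalRing ξ)
    obtain ⟨d, hd, -⟩ := h2 x (ξ default) hξ (hy.symm ▸ hne) (EtBase.etaleLocalRing ξ) P hP
    rw [hy] at hd
    omega
  · intro x G hG p hp
    rw [supp_subset_iff]
    intro Ω _ _ ξ hξ
    by_cases hxy : x ⤳ ξ default
    · by_cases hne : x = ξ default
      · exact isZero_stalk_Rpush x G ξ hne.symm p hp
      · obtain ⟨hloc, hsh⟩ := Groth.AlgSpEt.StrictHens.isStrictHenselization ξ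
        letI : Algebra (X.presheaf.stalk (ξ default)) (EtBase.etaleLocalRing ξ) :=
          (Groth.AlgSpEt.StrictLocal.toEtale ξ).hom.toAlgebra
        haveI := hloc
        haveI := hsh
        refine isZero_stalk_Rpush_fields x G hG ξ hxy p fun P hP G' hG' => ?_
        obtain ⟨d, hd, hcd⟩ := h2 x (ξ default) hxy hne (EtBase.etaleLocalRing ξ) P hP
        refine hcd G' (isPrimaryTorsion_of_pow hG') p ?_
        have : ¬ φ (ξ default) + p < φ x := hξ
        omega
    · exact isZero_stalk_Rpush_not_specializes x G ξ hxy p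

/-- Dimensions of the local rings along a specialization. -/
theorem exists_series {x y : X} (hxy : x ⤳ y) {c : ℕ} (hc : ringKrullDim (X.presheaf.stalk x) = c) :
    ∃ l : LTSeries (PrimeSpectrum (X.presheaf.stalk y)), l.length = c ∧
      l.last.asIdeal = RingHom.ker (Cyc.specMap y x hxy) := by
  haveI : FiniteRingKrullDim (X.presheaf.stalk x) :=
    finiteRingKrullDim_iff_ne_bot_and_top.2 ⟨by rw [hc]; simp, by rw [hc]; exact ne_of_lt (WithBot.coe_lt_coe.2 (ENat.coe_lt_top c))⟩
  obtain ⟨l, hl, hlen⟩ := (IsLocalRing.maximalIdeal (X.presheaf.stalk x)).exists_ltSeries_length_eq_height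
  have hh : ((IsLocalRing.maximalIdeal (X.presheaf.stalk x)).height : WithBot ℕ∞) = c := by
    rw [IsLocalRing.maximalIdeal_height_eq_ringKrullDim, hc]
  let ψ := Spec.map (X.presheaf.stalkSpecializes hxy)
  have hinj : Function.Injective (PrimeSpectrum.comap (X.presheaf.stalkSpecializes hxy).hom) := by
    intro a b h
    haveI : IsPreimmersion (ψ ≫ X.fromSpecStalk y) := by
      rw [Scheme.SpecMap_stalkSpecializes_fromSpecStalk]; infer_instance
    haveI : IsPreimmersion ψ := IsPreimmersion.of_comp ψ (X.fromSpecStalk y)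
    exact ψ.isEmbedding.injective h
  have hmono : StrictMono (PrimeSpectrum.comap (X.presheaf.stalkSpecializes hxy).hom) :=
    Monotone.strictMono_of_injective (fun a b h => Ideal.comap_mono h) hinj
  refine ⟨l.map _ hmono, ?_, ?_⟩
  · rw [← hlen] at hh
    exact_mod_cast hh
  · rw [LTSeries.last_map, hl]
    show (IsLocalRing.maximalIdeal (X.presheaf.stalk x)).comap _ = RingHom.ker _
    rw [← IsLocalRing.ker_residue, RingHom.comap_ker]
    rfl

/-- Dimensions grow along proper specializations. -/
theorem add_one_le_dim {x y : X} (hxy : x ⤳ y) (hne : x ≠ y) {c c' : ℕ}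
    (hc : ringKrullDim (X.presheaf.stalk x) = c) (hc' : ringKrullDim (X.presheaf.stalk y) = c') : c + 1 ≤ c' := by
  obtain ⟨l, hlen, hlast⟩ := exists_series hxy hc
  have hlt : l.last < IsLocalRing.closedPoint (X.presheaf.stalk y) := by
    refine lt_of_le_of_ne ?_ fun h => hne ?_
    · rw [← PrimeSpectrum.asIdeal_le_asIdeal]
      exact IsLocalRing.le_maximalIdeal l.last.2.ne_top
    · have h1 := congrArg (X.fromSpecStalk y).base h
      rw [Scheme.fromSpecStalk_closedPoint] at h1
      let a : Spec (X.residueField x) ⟶ Spec (X.presheaf.stalk y) :=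
        Spec.map (X.presheaf.stalkSpecializes hxy ≫ X.residue x)
      have ha : a ≫ X.fromSpecStalk y = X.fromSpecResidueField x := by
        show Spec.map (X.presheaf.stalkSpecializes hxy ≫ X.residue x) ≫ _ = _
        rw [Spec.map_comp, Category.assoc, Scheme.SpecMap_stalkSpecializes_fromSpecStalk]
        rfl
      have hpt : a.base (IsLocalRing.closedPoint (X.residueField x)) = l.last := by
        refine PrimeSpectrum.ext ?_
        rw [hlast]
        show (IsLocalRing.maximalIdeal (X.residueField x)).comap _ = _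
        rw [IsLocalRing.maximalIdeal_eq_bot]
        rfl
      rw [← hpt] at h1
      refine Eq.trans ?_ h1
      rw [← Scheme.Hom.comp_apply, ha, Scheme.fromSpecResidueField_apply]
  have h := Order.LTSeries.length_le_krullDim (l.snoc _ hlt)
  rw [RelSeries.snoc_length, hlen] at h
  rw [← Nat.cast_le (α := WithBot ℕ∞)]
  exact h.trans hc'.le

/-- Dimensions add along a specialization, in the strict henselization. -/
theorem dim_add_le [AlgebraicGeometry.IsNoetherian X] {x y : X} (hxy : x ⤳ y) {R : Type u} [CommRing R]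
    [IsLocalRing R] [Algebra (X.presheaf.stalk y) R] [IsLocalHom (algebraMap (X.presheaf.stalk y) R)]
    [Hensel.IsStrictHenselization (X.presheaf.stalk y) R] {c c' e : ℕ}
    (hc : ringKrullDim (X.presheaf.stalk x) = c) (hc' : ringKrullDim (X.presheaf.stalk y) = c')
    (he : ringKrullDim (R ⧸ (RingHom.ker (Cyc.specMap y x hxy)).map (algebraMap (X.presheaf.stalk y) R)) = e) :
    e + c ≤ c' := by
  haveI := Groth.Agent.S0539.result (X.presheaf.stalk y) R
  haveI : Algebra.HasGoingDown (X.presheaf.stalk y) R := inferInstance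
  obtain ⟨l, hlen, hlast⟩ := exists_series hxy hc
  let 𝔭 := RingHom.ker (Cyc.specMap y x hxy)
  let I := 𝔭.map (algebraMap (X.presheaf.stalk y) R)
  obtain ⟨lq, hlq⟩ := Order.le_krullDim_iff.1 (le_of_eq he.symm)
  let l' : LTSeries (PrimeSpectrum R) := lq.map (PrimeSpectrum.comap (Ideal.Quotient.mk I))
    (RingHom.strictMono_comap_of_surjective Ideal.Quotient.mk_surjective)
  have hI : I ≤ l'.head.asIdeal := by
    intro r hr
    show Ideal.Quotient.mk I r ∈ lq.head.asIdeal
    rw [Ideal.Quotient.eq_zero_iff_mem.2 hr]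
    exact zero_mem _
  obtain ⟨P, hP, hPle⟩ := Ideal.exists_minimalPrimes_le hI
  haveI := hP.1.1
  have hcon : P.comap (algebraMap (X.presheaf.stalk y) R) = 𝔭 := by
    refine le_antisymm ?_ (Ideal.map_le_iff_le_comap.1 hP.1.2)
    by_contra hne
    haveI : 𝔭.IsPrime := RingHom.ker_isPrime _
    obtain ⟨Q, hQle, hQp, hQo⟩ := Ideal.exists_ideal_le_liesOver_of_le (p := 𝔭)
      (q := P.under (X.presheaf.stalk y)) P (Ideal.map_le_iff_le_comap.1 hP.1.2)
    have h1 : I ≤ Q := Ideal.map_le_iff_le_comap.2 (le_of_eq hQo.over)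
    have h2 : P ≤ Q := hP.2 ⟨hQp, h1⟩ hQle
    exact hne ((Ideal.comap_mono h2).trans (ge_of_eq hQo.over))
  haveI : P.LiesOver l.last.asIdeal := ⟨by rw [hlast]; exact hcon.symm⟩
  obtain ⟨lp, hlplen, hlplast, -⟩ := Ideal.exists_ltSeries_of_hasGoingDown l P
  have hR : ringKrullDim R = c' := (Groth.Agent.S0541.result (X.presheaf.stalk y) R).trans hc'
  rw [← Nat.cast_le (α := WithBot ℕ∞), ← hR]
  rcases eq_or_lt_of_le (show (⟨P, hP.1.1⟩ : PrimeSpectrum R) ≤ l'.head from hPle) with h | h
  · have h' := Order.LTSeries.length_le_krullDim (lp.smash l' (hlplast.trans h))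
    rw [RelSeries.smash_length, hlplen, hlen] at h'
    refine le_trans ?_ h'
    rw [show l'.length = e from hlq, add_comm]
  · have h' := Order.LTSeries.length_le_krullDim (lp.append l' (show lp.last < l'.head from hlplast ▸ h))
    rw [RelSeries.append_length, hlplen, hlen] at h'
    refine le_trans (Nat.cast_le.2 ?_) h'
    rw [show l'.length = e from hlq]
    omega

end Groth.FieldPush
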