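import Mathlib.Algebra.Homology.DerivedCategory.Ext.Basic
import Mathlib.CategoryTheory.Preadditive.Biproducts
import Mathlib.GroupTheory.Torsion

/-!
# Ext classes with values in finite sums
-/

set_option autoImplicit false
set_option linter.style.haveILetI false

universe w v u w'

open CategoryTheory Limits CategoryTheory.Abelian

namespace Groth.FieldPush

variable {C : Type u} [Category.{v} C] [Abelian C] [HasExt.{w} C]

/-- A class with values in a finite sum is the sum of its components. -/
theorem ext_eq_sum_components {ι : Type w'} [Fintype ι] {A : C} (Φ : ι → C) [HasBiproduct Φ] {n : ℕ}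
    (x : Abelian.Ext A (⨁ Φ) n) :
    x = ∑ i, (x.comp (Ext.mk₀ (biproduct.π Φ i)) (add_zero n)).comp (Ext.mk₀ (biproduct.ι Φ i)) (add_zero n) := by
  conv_lhs => rw [← Ext.comp_mk₀_id x]
  rw [← IsBilimit.total (biproduct.isBilimit Φ), Ext.mk₀_sum, Ext.comp_sum]
  refine Finset.sum_congr rfl fun i _ => ?_
  rw [← Ext.mk₀_comp_mk₀]
  exact (Ext.comp_assoc_of_second_deg_zero _ _ _ _).symm

/-- A class with values in a finite sum has finite order if its components do. -/
theorem isOfFinAddOrder_ext_biproduct {ι : Type w'} [Finite ι] {A : C} (Φ : ι → C) [HasBiproduct Φ] {n : ℕ}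
    (x : Abelian.Ext A (⨁ Φ) n)
    (h : ∀ i, IsOfFinAddOrder (x.comp (Ext.mk₀ (biproduct.π Φ i)) (add_zero n))) : IsOfFinAddOrder x := by
  classical
  letI := Fintype.ofFinite ι
  rw [ext_eq_sum_components Φ x]
  have hs : ∀ (T : Finset ι) (f : ι → Abelian.Ext A (⨁ Φ) n), (∀ i ∈ T, IsOfFinAddOrder (f i)) →
      IsOfFinAddOrder (∑ i ∈ T, f i) := by
    intro T f hf
    induction T using Finset.induction with
    | empty => simp
    | insert i T hi ih =>
      rw [Finset.sum_insert hi]
      exact (hf i (Finset.mem_insert_self i T)).add (ih fun j hj => hf j (Finset.mem_insert_of_mem hj))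
  refine hs _ _ fun i _ => ?_
  obtain ⟨m, hm, hmx⟩ := isOfFinAddOrder_iff_nsmul_eq_zero.1 (h i)
  refine isOfFinAddOrder_iff_nsmul_eq_zero.2 ⟨m, hm, ?_⟩
  have key := map_nsmul ((Ext.bilinearComp A (Φ i) (⨁ Φ) n 0 n (add_zero n)).flip (Ext.mk₀ (biproduct.ι Φ i)))
    m (x.comp (Ext.mk₀ (biproduct.π Φ i)) (add_zero n))
  rw [hmx, map_zero] at key
  simp only [AddMonoidHom.flip_apply, Ext.bilinearComp_apply_apply] at key
  exact key.symm

end Groth.FieldPush
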