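import Groth.Agent.EtPbc.FiniteTorsion
import Groth.Agent.EtPbc.ExtBiproduct
import Groth.Agent.AlgSp2.FppfProps
import Groth.Agent.EtaleBase.GmPic.Local
import Mathlib.AlgebraicGeometry.Morphisms.Preimmersion

/-!
# `𝔾ₘ` and the direct images of `𝔾ₘ` from the generic points
-/

set_option autoImplicit false
set_option backward.isDefEq.respectTransparency.types false
set_option linter.style.haveILetI false
set_option maxHeartbeats 1000000

universe u

open CategoryTheory CategoryTheory.Limits CategoryTheory.Abelian AlgebraicGeometry Opposite TopologicalSpace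

namespace Groth.FieldPush

open Groth.EtaleBase Groth.EtaleBase.LocConst Groth.EtaleBase.GmPic Groth.EtaleBase.SitePt Groth.EtaleDeep.Cons

variable {X : Scheme.{u}}

/-- The germ of a pulled back section. -/
theorem germ_appLE {A B : Scheme.{u}} (q : A ⟶ B) (O : B.Opens) (h : ⊤ ≤ q ⁻¹ᵁ O) (w : A) (s : Γ(B, O)) :
    A.presheaf.germ ⊤ w trivial (q.appLE O ⊤ h s) =
      q.stalkMap w (B.presheaf.germ O (q.base w) (h trivial) s) := by
  rw [Scheme.Hom.germ_stalkMap_apply]
  exact TopCat.Presheaf.germ_res_apply _ _ _ _ _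

/-- Two sections over a one-point scheme with the same germ are equal. -/
theorem eq_of_germ_eq {A : Scheme.{u}} [Subsingleton A] (s t : Γ(A, ⊤))
    (h : ∀ w : A, A.presheaf.germ ⊤ w trivial s = A.presheaf.germ ⊤ w trivial t) : s = t :=
  TopCat.Presheaf.section_ext A.sheaf ⊤ s t fun w _ => h w

/-- A nonempty open subset of a scheme contains a generic point. -/
theorem exists_genericPoint_mem (O : X.Opens) {x : X} (hx : x ∈ O) : ∃ η ∈ genericPoints X, η ∈ O := by
  let C : Set X := irreducibleComponent x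
  obtain ⟨η, hη⟩ := QuasiSober.sober (isIrreducible_irreducibleComponent (x := x))
    isClosed_irreducibleComponent
  refine ⟨η, ?_, ?_⟩
  · show closure {η} ∈ irreducibleComponents X
    rw [hη.def]
    exact irreducibleComponent_mem_irreducibleComponents x
  · exact (hη.specializes mem_irreducibleComponent).mem_open O.2 hx

/-- Specializations between generic points are trivial. -/
theorem eq_of_specializes_genericPoints {η y : X} (hη : η ∈ genericPoints X) (h : y ⤳ η) : y = η := by
  have h1 : closure {η} ⊆ closure {y} := closure_minimal (Set.singleton_subset_iff.2 h.mem_closure) isClosed_closure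
  have h2 : closure ({y} : Set X) ⊆ closure {η} :=
    hη.2 isIrreducible_singleton.closure h1
  exact (h.antisymm (specializes_iff_mem_closure.2 (h2 (subset_closure rfl)))).eq

/-- The spectrum of the local ring at a generic point is a point. -/
theorem subsingleton_spec_stalk {η : X} (hη : η ∈ genericPoints X) :
    Subsingleton ↥(Spec (X.presheaf.stalk η)) := by
  refine ⟨fun a b => (X.fromSpecStalk η).isEmbedding.injective ?_⟩
  have h : ∀ c, (X.fromSpecStalk η).base c = η := fun c => by
    refine eq_of_specializes_genericPoints hη ?_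
    exact (X.range_fromSpecStalk (x := η)).subset ⟨c, rfl⟩
  rw [h a, h b]

section Reduced

variable [IsReduced X]

theorem isReduced_left (V : X.Etale) : IsReduced V.left := by
  haveI : Etale V.hom := V.prop
  let g : V.left ⟶ X := V.hom
  haveI : Etale g := V.prop
  exact Groth.AlgSp2.isReduced_of_smooth_morphism g

/-- A unit which pulls back to one on all generic fibres is one. -/
theorem eq_zero_of_GmPush (V : X.Etale) (s : (EtCoh.Gm X).obj.obj (op V))
    (h : ∀ η ∈ genericPoints X, (EtLim.GmPush (X.fromSpecStalk η)).hom.app (op V) s = 0) : s = 0 := by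
  obtain ⟨a, rfl⟩ := gm_surjective V s
  haveI := isReduced_left V
  suffices h0 : (a : Γ(V.left, ⊤)) - 1 = 0 by
    rw [show a = 1 from Units.ext (sub_eq_zero.1 h0)]
    rfl
  refine eq_zero_of_basicOpen_eq_bot _ ?_
  by_contra hne
  obtain ⟨v, hv⟩ : ∃ v, v ∈ V.left.basicOpen ((a : Γ(V.left, ⊤)) - 1) := by
    by_contra hemp
    exact hne (Opens.ext (Set.eq_empty_of_forall_notMem fun v hv => hemp ⟨v, hv⟩))
  haveI : Etale V.hom := V.prop
  let O : X.Opens := ⟨V.hom.base '' (V.left.basicOpen ((a : Γ(V.left, ⊤)) - 1) : Set V.left),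
    V.hom.isOpenMap _ (V.left.basicOpen _).2⟩
  obtain ⟨η, hη, v', hv', hvη⟩ := exists_genericPoint_mem O (show V.hom.base v ∈ O from ⟨v, hv, rfl⟩)
  let p : pullback V.hom (X.fromSpecStalk η) ⟶ V.left := pullback.fst _ _
  obtain ⟨w, hw, -⟩ := Scheme.Pullback.exists_preimage_pullback (f := V.hom) (g := X.fromSpecStalk η) v'
    (show ↥(Spec (X.presheaf.stalk η)) from IsLocalRing.closedPoint (X.presheaf.stalk η)) (hvη.trans (Scheme.fromSpecStalk_closedPoint).symm)
  have h1 : Units.map p.appTop.hom.toMonoidHom a = 1 := Additive.ofMul.injective (congrArg ULift.down (h η hη) :)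
  have h2 : p.appTop ((a : Γ(V.left, ⊤)) - 1) = 0 := by
    rw [map_sub, map_one, show p.appTop (a : Γ(V.left, ⊤)) = 1 from congrArg Units.val h1, sub_self]
  have h3 : w ∈ p ⁻¹ᵁ V.left.basicOpen ((a : Γ(V.left, ⊤)) - 1) := by
    show p.base w ∈ V.left.basicOpen ((a : Γ(V.left, ⊤)) - 1)
    exact Eq.mpr (congrArg (· ∈ V.left.basicOpen ((a : Γ(V.left, ⊤)) - 1)) (show p.base w = v' from hw)) hv'
  rw [Scheme.preimage_basicOpen_top, h2, Scheme.basicOpen_zero] at h3
  exact h3

end Reduced

variable [IsNoetherian X]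

/-- The direct image of `𝔾ₘ` from the stalk at a point. -/
noncomputable abbrev gmAt (η : X) : EtCoh.Ab X :=
  (EtCoh.push (X.fromSpecStalk η)).obj (EtCoh.Gm (Spec (X.presheaf.stalk η)))

set_option maxHeartbeats 2000000 in
/-- Near a point over a generic point, sections of the direct image of `𝔾ₘ` come from `𝔾ₘ`. -/
theorem exists_lift_generic (η : X) (hη : η ∈ genericPoints X) (V : X.Etale) (v : V.left)
    (hv : V.hom.base v = η) (e : (gmAt η).obj.obj (op V)) :
    ∃ (W : V.left.Opens), v ∈ W ∧ ∃ c : (EtCoh.Gm X).obj.obj (op (openObj V W)),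
      (EtLim.GmPush (X.fromSpecStalk η)).hom.app _ c = (gmAt η).obj.map (openHom V W).op e ∧
      ∀ η' ∈ genericPoints X, η' ≠ η → ∀ z : W, ¬ η' ⤳ V.hom.base z.1 := by
  haveI : Etale V.hom := V.prop
  let i := X.fromSpecStalk η
  haveI := subsingleton_spec_stalk hη
  let P := pullback V.hom i
  let p : P ⟶ V.left := pullback.fst _ _
  haveI : IsPreimmersion i := inferInstanceAs (IsPreimmersion (X.fromSpecStalk η))
  haveI : IsPreimmersion p := MorphismProperty.pullback_fst _ _ inferInstance
  obtain ⟨f, rfl⟩ : ∃ f : (Γ(P, ⊤) : Type u)ˣ,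
      (gm ((EtCoh.bc i).obj V) f : (gmAt η).obj.obj (op V)) = e :=
    gm_surjective ((EtCoh.bc i).obj V) e
  obtain ⟨w, hw, -⟩ := Scheme.Pullback.exists_preimage_pullback (f := V.hom) (g := i) v
    (show ↥(Spec (X.presheaf.stalk η)) from IsLocalRing.closedPoint (X.presheaf.stalk η)) (hv.trans Scheme.fromSpecStalk_closedPoint.symm)
  have hw' : p.base w = v := hw
  subst hw'
  obtain ⟨g, hg⟩ := p.stalkMap_surjective w (P.presheaf.germ ⊤ w trivial (f : Γ(P, ⊤)))
  have hgu : IsUnit g := isUnit_of_map_unit (p.stalkMap w).hom g (by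
    rw [show (p.stalkMap w).hom g = _ from hg]
    exact f.isUnit.map (P.presheaf.germ ⊤ w trivial).hom)
  obtain ⟨O₀, hO₀, c₀, rfl⟩ := TopCat.Presheaf.exists_germ_eq V.left.presheaf g
  let O := V.left.basicOpen c₀
  have hwO : p.base w ∈ O := (Scheme.mem_basicOpen V.left c₀ _ hO₀).2 hgu
  let cO : Γ(V.left, O) := V.left.presheaf.map (homOfLE (V.left.basicOpen_le c₀)).op c₀
  have hcO : IsUnit cO := V.left.toRingedSpace.isUnit_res_basicOpen c₀
  have hgerm : p.stalkMap w (V.left.presheaf.germ O _ hwO cO) = P.presheaf.germ ⊤ w trivial (f : Γ(P, ⊤)) := by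
    rw [← hg]
    exact congrArg (p.stalkMap w) (TopCat.Presheaf.germ_res_apply _ _ _ _ _)
  rw [Scheme.Hom.germ_stalkMap_apply] at hgerm
  obtain ⟨N, hwN, iN, jN, hN⟩ := TopCat.Presheaf.germ_eq P.presheaf w _ _ _ _ hgerm
  obtain ⟨N', hN'o, hN'⟩ := p.isEmbedding.isInducing.isOpen_iff.1 N.2
  -- a neighbourhood meeting the fibre only in the point
  have hd := V.hom.isDiscrete_preimage_singleton η
  obtain ⟨D, hD⟩ : ∃ D : V.left.Opens, (D : Set V.left) ∩ V.hom.base ⁻¹' {η} = {p.base w} := by
    haveI := hd.to_subtype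
    obtain ⟨D, hD, hD'⟩ := (isOpen_discrete ({⟨p.base w, hv⟩} : Set ↥(V.hom.base ⁻¹' {η})))
    exact ⟨⟨D, hD⟩, Set.ext fun z => ⟨fun ⟨h1, h2⟩ => congrArg Subtype.val
      (hD'.subset (show (⟨z, h2⟩ : ↥(V.hom.base ⁻¹' {η})) ∈ Subtype.val ⁻¹' D from h1)),
      fun h => ⟨(show z = p.base w from h) ▸ (hD'.symm.subset rfl : _), (show z = p.base w from h) ▸ hv⟩⟩⟩
  -- a neighbourhood avoiding the other components
  have hfin : (genericPoints X \ {η}).Finite :=
    (genericPoints.finite NoetherianSpace.finite_irreducibleComponents).subset Set.sdiff_subset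
  let Z : Set X := ⋃ η' ∈ genericPoints X \ {η}, closure {η'}
  have hZ : IsClosed Z := hfin.isClosed_biUnion fun _ _ => isClosed_closure
  have hηZ : η ∉ Z := fun h => by
    obtain ⟨η', hη', h'⟩ := Set.mem_iUnion₂.1 h
    exact hη'.2 (eq_of_specializes_genericPoints hη (specializes_iff_mem_closure.2 h'))
  let W : V.left.Opens := O ⊓ ⟨N', hN'o⟩ ⊓ D ⊓ V.hom ⁻¹ᵁ ⟨Zᶜ, hZ.isOpen_compl⟩
  have hwW : p.base w ∈ W := ⟨⟨⟨hwO, show w ∈ p.base ⁻¹' N' from hN'.symm.subset hwN⟩,
    (hD.symm.subset rfl).1⟩, show V.hom.base (p.base w) ∉ Z by rw [hv]; exact hηZ⟩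
  have hWO : ⊤ ≤ W.ι ⁻¹ᵁ O := fun z _ => (show ↥W from z).2.1.1.1
  let c : (Γ((openObj V W).left, ⊤) : Type u)ˣ := (hcO.map (W.ι.appLE O ⊤ hWO).hom).unit
  refine ⟨W, hwW, gm _ c, ?_, fun η' h1 h2 z h3 =>
    z.2.2 (Set.mem_iUnion₂.2 ⟨η', ⟨h1, h2⟩, h3.mem_closure⟩)⟩
  let V' := openObj V W
  let p' : pullback V'.hom i ⟶ V'.left := pullback.fst _ _
  let q : pullback V'.hom i ⟶ P := ((EtCoh.bc i).map (openHom V W)).left
  have hsq : q ≫ p = p' ≫ W.ι := (EtCoh.isPullback_bc_map i (openHom V W)).w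
  refine (show gm ((EtCoh.bc i).obj V') (Units.map p'.appTop.hom.toMonoidHom c) =
    (EtCoh.Gm _).obj.map ((EtCoh.bc i).map (openHom V W)).op (gm ((EtCoh.bc i).obj V) f) from ?_)
  rw [gm_map]
  refine congrArg (gm _) (Units.ext ?_)
  show p'.appTop (W.ι.appLE O ⊤ hWO cO) = q.appTop (f : Γ(P, ⊤))
  have hpq : ∀ z, p.base (q.base z) = W.ι.base (p'.base z) := fun z =>
    (Scheme.Hom.comp_apply q p z).symm.trans
      ((congrArg (fun m : _ ⟶ V.left => m.base z) hsq).trans (Scheme.Hom.comp_apply p' W.ι z))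
  have hqw : ∀ z, q.base z = w := fun z => by
    refine p.isEmbedding.injective ?_
    have h1 := hpq z
    refine hD.subset ⟨h1 ▸ (show ↥W from p'.base z).2.1.2, ?_⟩
    show V.hom.base (p.base (q.base z)) = η
    rw [← Scheme.Hom.comp_apply, pullback.condition, Scheme.Hom.comp_apply]
    rw [Subsingleton.elim (α := ↥(Spec (X.presheaf.stalk η)))
      ((pullback.snd V.hom i).base (q.base z)) (IsLocalRing.closedPoint (X.presheaf.stalk η))]
    exact Scheme.fromSpecStalk_closedPoint
  haveI : Subsingleton ↥(pullback V'.hom i) := by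
    haveI : IsPreimmersion p' := MorphismProperty.pullback_fst _ _ inferInstance
    refine ⟨fun z z' => p'.isEmbedding.injective (W.ι.isOpenEmbedding.injective ?_)⟩
    exact (hpq z).symm.trans ((congrArg p.base ((hqw z).trans (hqw z').symm)).trans (hpq z'))
  have hqO : ⊤ ≤ q ⁻¹ᵁ (p ⁻¹ᵁ O) := fun z _ => by
    show p.base (q.base z) ∈ O
    rw [hqw]; exact hwO
  have key : p'.appTop (W.ι.appLE O ⊤ hWO cO) = q.appLE (p ⁻¹ᵁ O) ⊤ hqO (p.app O cO) := by
    have e1 : W.ι.appLE O ⊤ hWO ≫ p'.appTop = (p' ≫ W.ι).appLE O ⊤ (fun z _ => hWO (x := p'.base z) trivial) := by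
      refine Eq.trans ?_ (Scheme.Hom.appLE_comp_appLE p' W.ι O ⊤ ⊤ hWO le_rfl)
      exact congrArg (W.ι.appLE O ⊤ hWO ≫ ·) (Scheme.Hom.app_eq_appLE (f := p') (U := ⊤))
    have e2 : p.app O ≫ q.appLE (p ⁻¹ᵁ O) ⊤ hqO = (q ≫ p).appLE O ⊤ hqO := by
      rw [Scheme.Hom.app_eq_appLE, Scheme.Hom.appLE_comp_appLE]
    refine (ConcreteCategory.congr_hom e1 cO).trans (Eq.trans ?_ (ConcreteCategory.congr_hom e2 cO).symm)
    congr 3
    exact hsq.symm
  rw [key]
  refine eq_of_germ_eq _ _ fun z => ?_
  rw [germ_appLE, show q.appTop (f : Γ(P, ⊤)) = q.appLE ⊤ ⊤ le_rfl (f : Γ(P, ⊤)) from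
    ConcreteCategory.congr_hom (Scheme.Hom.app_eq_appLE (f := q) (U := ⊤)) _, germ_appLE]
  refine congrArg (q.stalkMap z) ?_
  have hzN : q.base z ∈ N := by rw [hqw]; exact hwN
  rw [← TopCat.Presheaf.germ_res_apply P.presheaf iN _ hzN, hN, TopCat.Presheaf.germ_res_apply]

variable (X) in
/-- The index set of generic points. -/
abbrev Gen : Type u := ↥(genericPoints X)

instance finite_gen : Finite (Gen X) :=
  (genericPoints.finite NoetherianSpace.finite_irreducibleComponents).to_subtype

variable (X) in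
/-- The sum of the direct images of `𝔾ₘ` from the generic points. -/
noncomputable abbrev gmGen : EtCoh.Ab X := ⨁ fun η : Gen X => gmAt η.1

variable (X) in
/-- The map from `𝔾ₘ` to the sum of its generic direct images. -/
noncomputable abbrev toGen : EtCoh.Gm X ⟶ gmGen X :=
  biproduct.lift fun η : Gen X => EtLim.GmPush (X.fromSpecStalk η.1)

instance mono_toGen [IsReduced X] : Mono (toGen X) := by
  haveI : ∀ U, Mono ((toGen X).hom.app U) := fun U => (AddCommGrpCat.mono_iff_injective _).2
    ((injective_iff_map_eq_zero _).2 fun s hs => eq_zero_of_GmPush U.unop s fun η hη => by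
      refine (ConcreteCategory.congr_hom (congrArg (fun m => m.hom.app U)
        (biproduct.lift_π (fun η : Gen X => EtLim.GmPush (X.fromSpecStalk η.1)) ⟨η, hη⟩)) s).symm.trans ?_
      exact (congrArg ((biproduct.π (fun η : Gen X => gmAt η.1) ⟨η, hη⟩).hom.app U) hs).trans (map_zero _))
  haveI : Mono (toGen X).hom := NatTrans.mono_of_mono_app _
  exact (sheafToPresheaf _ _).mono_of_mono_map this

/-- Sections of the sum are determined by their components. -/
theorem gmGen_ext {V : X.Etale} (a b : (gmGen X).obj.obj (op V))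
    (h : ∀ η : Gen X, (biproduct.π (fun η : Gen X => gmAt η.1) η).hom.app (op V) a =
      (biproduct.π (fun η : Gen X => gmAt η.1) η).hom.app (op V) b) : a = b := by
  classical
  letI := Fintype.ofFinite (Gen X)
  let ev : EtCoh.Ab X ⥤ AddCommGrpCat.{u + 1} :=
    sheafToPresheaf X.smallEtaleTopology AddCommGrpCat.{u + 1} ⋙ (evaluation _ AddCommGrpCat.{u + 1}).obj (op V)
  haveI : ev.Additive := ⟨fun {_ _ _ _} => rfl⟩
  have key : ∀ x : ev.obj (gmGen X), x = ∑ η : Gen X, ev.map (biproduct.ι (fun η : Gen X => gmAt η.1) η)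
      (ev.map (biproduct.π (fun η : Gen X => gmAt η.1) η) x) := fun x => by
    have h0 : x = (ev.map (∑ η : Gen X, biproduct.π (fun η : Gen X => gmAt η.1) η ≫
        biproduct.ι (fun η : Gen X => gmAt η.1) η)) x := by
      rw [show (∑ η : Gen X, biproduct.π (fun η : Gen X => gmAt η.1) η ≫
        biproduct.ι (fun η : Gen X => gmAt η.1) η) = 𝟙 _ from
          IsBilimit.total (biproduct.isBilimit (fun η : Gen X => gmAt η.1)), CategoryTheory.Functor.map_id]
      rfl
    refine h0.trans ?_
    rw [Functor.map_sum]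
    refine Eq.trans ?_ (Finset.sum_congr rfl fun η _ =>
      (ConcreteCategory.congr_hom (ev.map_comp (biproduct.π (fun η : Gen X => gmAt η.1) η) (biproduct.ι (fun η : Gen X => gmAt η.1) η)) x).trans
        (ConcreteCategory.comp_apply _ _ x))
    generalize (Finset.univ : Finset (Gen X)) = T
    induction T using Finset.induction with
    | empty => rfl
    | insert i T hi ih =>
      rw [Finset.sum_insert hi, Finset.sum_insert hi, ← ih]
      rfl
  refine (key a).trans ((Finset.sum_congr rfl fun η _ => congrArg _ (h η)).trans (key b).symm)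

/-- Near points over generic points, sections of the sum come from `𝔾ₘ`. -/
theorem exists_lift_gen (V : X.Etale) (v : V.left) (hv : V.hom.base v ∈ genericPoints X)
    (e : (gmGen X).obj.obj (op V)) :
    ∃ (W : V.left.Opens), v ∈ W ∧ ∃ c, (toGen X).hom.app (op (openObj V W)) c =
      (gmGen X).obj.map (openHom V W).op e := by
  obtain ⟨W, hvW, c, hc, hother⟩ := exists_lift_generic _ hv V v rfl
    ((biproduct.π (fun η : Gen X => gmAt η.1) ⟨_, hv⟩).hom.app (op V) e)
  refine ⟨W, hvW, c, gmGen_ext _ _ fun η => ?_⟩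
  refine (ConcreteCategory.congr_hom (congrArg (fun m => m.hom.app (op (openObj V W)))
    (biproduct.lift_π (fun η : Gen X => EtLim.GmPush (X.fromSpecStalk η.1)) η)) c).trans ?_
  rw [NatTrans.naturality_apply]
  by_cases h : η = ⟨_, hv⟩
  · subst h
    exact hc
  · have : IsEmpty ((EtCoh.bc (X.fromSpecStalk η.1)).obj (openObj V W)).left := ⟨fun z => by
      let z' : ↥(pullback (W.ι ≫ V.hom) (X.fromSpecStalk η.1)) := z
      refine hother η.1 η.2 (fun h' => h (Subtype.ext h')) ((pullback.fst (W.ι ≫ V.hom) _).base z') ?_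
      have h1 : (X.fromSpecStalk η.1).base ((pullback.snd (W.ι ≫ V.hom) _).base z') ⤳ η.1 := by
        have := (X.range_fromSpecStalk (x := η.1)).subset ⟨(pullback.snd (W.ι ≫ V.hom) _).base z', rfl⟩
        exact this
      have h2 := eq_of_specializes_genericPoints η.2 h1
      have h3 : V.hom.base ((pullback.fst (W.ι ≫ V.hom) (X.fromSpecStalk η.1)).base z').1 = η.1 := by
        refine Eq.trans ?_ h2
        exact (congrArg (fun m : _ ⟶ X => m.base z') (pullback.condition (f := W.ι ≫ V.hom)
          (g := X.fromSpecStalk η.1)))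
      rw [h3]⟩
    have := subsingleton_sections_of_isEmpty (EtCoh.Gm (Spec (X.presheaf.stalk η.1)))
      ((EtCoh.bc (X.fromSpecStalk η.1)).obj (openObj V W))
    exact Subsingleton.elim (α := (EtCoh.Gm (Spec (X.presheaf.stalk η.1))).obj.obj
      (op ((EtCoh.bc (X.fromSpecStalk η.1)).obj (openObj V W)))) _ _

/-- The quotient has no stalks at generic points. -/
theorem supp_coker_toGen : EtPBC.supp (cokernel (toGen X)) ⊆ (genericPoints X)ᶜ := by
  rw [supp_subset_iff]
  intro Ω _ _ ξ hξ
  have hη : ξ.base default ∈ genericPoints X := not_not.1 hξ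
  refine @AddCommGrpCat.isZero_of_subsingleton _ (subsingleton_of_forall_eq 0 fun y => ?_)
  obtain ⟨U, t, σ, rfl⟩ := germ_surjective ξ _ y
  have hmem := ((Sheaf.isLocallySurjective_iff_epi' (A := AddCommGrpCat.{u + 1}) (cokernel.π (toGen X))).2
    inferInstance : Presheaf.IsLocallySurjective _ (cokernel.π (toGen X)).hom).imageSieve_mem σ
  rw [mem_topology_iff] at hmem
  obtain ⟨T, f, z, ⟨e, he⟩, hz⟩ := hmem (fiberPoint ξ t)
  obtain ⟨t', rfl, -⟩ := exists_fiber_lift ξ f t z hz
  obtain ⟨W, hW, c, hc⟩ := exists_lift_gen T (fiberPoint ξ t') (by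
    rw [hom_fiberPoint]; exact hη) e
  obtain ⟨t'', rfl⟩ := exists_lift_open ξ W t' hW
  rw [← germ_res, ← he, ← germ_res]
  refine (congrArg (germ ξ _ _ t'') ?_).trans (map_zero _)
  rw [← NatTrans.naturality_apply]
  refine (congrArg ((cokernel.π (toGen X)).hom.app _) hc.symm).trans ?_
  exact ConcreteCategory.congr_hom (congrArg (fun m => m.hom.app (op (openObj T W))) (cokernel.condition (toGen X))) c

/-- Cohomology of the sum of generic direct images is torsion. -/
theorem isAddTorsion_H_gmGen [IsReduced X] (q : ℕ) : IsAddTorsion (EtCoh.H X (gmGen X) (q + 1)) := fun x =>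
  isOfFinAddOrder_ext_biproduct (fun η : Gen X => gmAt η.1) x fun η => by
    letI : Field (X.presheaf.stalk η.1) :=
      (isField_stalk_of_closure_mem_irreducibleComponents X η.1 η.2).toField
    haveI := pull_preservesFiniteLimits (X.fromSpecStalk η.1)
    exact isAddTorsion_H_push (K := X.presheaf.stalk η.1) (X.fromSpecStalk η.1) q (EtCoh.Gm _) _

/-- Torsion of the quotient gives torsion of `Hᵠ(X, 𝔾ₘ)`, `q ≥ 2`. -/
theorem isAddTorsion_H_Gm [IsReduced X] (q : ℕ) (h : IsAddTorsion (EtCoh.H X (cokernel (toGen X)) (q + 1))) :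
    IsAddTorsion (EtCoh.H X (EtCoh.Gm X) (q + 2)) := by
  intro x
  have hS : (ShortComplex.mk (toGen X) (cokernel.π _) (cokernel.condition _)).ShortExact :=
    CohFin.cokerSeq_shortExact' (toGen X)
  obtain ⟨n, hn, hnx⟩ := isOfFinAddOrder_iff_nsmul_eq_zero.1
    (isAddTorsion_H_gmGen (q + 1) (Ext.comp (x : Ext _ (EtCoh.Gm X) (q + 2)) (Ext.mk₀ (toGen X)) (add_zero _)))
  obtain ⟨y, hy⟩ := Ext.covariant_sequence_exact₁ _ hS (n • x)
    ((map_nsmul ((Ext.bilinearComp _ _ _ (q + 2) 0 (q + 2) (add_zero _)).flip (Ext.mk₀ (toGen X))) n x).trans hnx)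
    (n₀ := q + 1) rfl
  obtain ⟨m, hm, hmy⟩ := isOfFinAddOrder_iff_nsmul_eq_zero.1 (h y)
  refine isOfFinAddOrder_iff_nsmul_eq_zero.2 ⟨m * n, Nat.mul_pos hm hn, ?_⟩
  rw [mul_smul, ← hy]
  refine (map_nsmul ((Ext.bilinearComp _ _ _ (q + 1) 1 (q + 2) rfl).flip hS.extClass) m y).symm.trans ?_
  exact (congrArg (fun z => Ext.comp z hS.extClass rfl) hmy).trans (Ext.zero_comp _ _ _ _ _)

omit [AlgebraicGeometry.IsNoetherian X] in
/-- In dimension at most one, points other than generic points are closed. -/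
theorem isClosed_of_not_mem_genericPoints (hdim : topologicalKrullDim X ≤ 1) {x : X}
    (hx : x ∉ genericPoints X) : IsClosed ({x} : Set X) := by
  by_contra hc
  obtain ⟨y, hy, hyx⟩ : ∃ y ∈ closure ({x} : Set X), y ≠ x := by
    by_contra hne
    refine hc (closure_eq_iff_isClosed.1 (Set.Subset.antisymm (fun y hy => ?_) subset_closure))
    by_contra hyx
    exact hne ⟨y, hy, hyx⟩
  obtain ⟨η, hη⟩ := QuasiSober.sober (isIrreducible_irreducibleComponent (x := x))
    isClosed_irreducibleComponent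
  have hxη : x ∈ closure ({η} : Set X) := hη.def.symm ▸ mem_irreducibleComponent
  let C : X → IrreducibleCloseds X := fun z => ⟨closure {z}, isIrreducible_singleton.closure, isClosed_closure⟩
  have lt_of : ∀ a b : X, a ∈ closure ({b} : Set X) → a ≠ b → C a < C b := fun a b hab hne => by
    refine lt_of_le_of_ne (closure_minimal (Set.singleton_subset_iff.2 hab) isClosed_closure) fun h => hne ?_
    have : b ⤳ a := specializes_iff_mem_closure.2 hab
    have h' : a ⤳ b := specializes_iff_mem_closure.2 (by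
      have := congrArg (fun c : IrreducibleCloseds X => (c : Set X)) h
      rw [show (closure ({a} : Set X)) = closure {b} from this]
      exact subset_closure rfl)
    exact (h'.antisymm this).eq
  let S : LTSeries (IrreducibleCloseds X) :=
    ((RelSeries.singleton _ (C y)).snoc (C x) (lt_of y x hy hyx)).snoc (C η)
      (by rw [RelSeries.last_snoc]; exact lt_of x η hxη fun h => hx (by
        show closure {x} ∈ irreducibleComponents X
        rw [h, hη.def]; exact irreducibleComponent_mem_irreducibleComponents x))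
  have h2 := (Order.LTSeries.length_le_krullDim S).trans hdim
  rw [show S.length = 2 from rfl] at h2
  exact absurd h2 (by decide)

end Groth.FieldPush
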