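import Groth.Agent.EtPbc.GmFieldAcyclic
import Groth.Agent.EtPbc.GmGeneric
import Groth.Agent.Variety2.DimScheme
import Groth.Agent.Variety2.DimTrdeg

/-!
# Cohomology of `𝔾ₘ` on reduced curves over algebraically closed fields
-/

set_option autoImplicit false
set_option backward.isDefEq.respectTransparency.types false
set_option linter.style.haveILetI false
set_option maxHeartbeats 1000000

universe u

open CategoryTheory CategoryTheory.Limits CategoryTheory.Abelian AlgebraicGeometry Opposite TopologicalSpace

namespace Groth.FieldPush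

open Groth.EtaleBase

variable {k : Type u} [Field k] {X : Scheme.{u}} (f : X ⟶ Spec (CommRingCat.of k)) [LocallyOfFiniteType f]

include f

/-- Generic points of curves have fields of transcendence degree at most one. -/
theorem gmAcyclic_stalk [IsAlgClosed k] [IsReduced X] (hdim : topologicalKrullDim X ≤ 1) (η : X)
    (hη : η ∈ genericPoints X) :
    letI : Field (X.presheaf.stalk η) := (isField_stalk_of_closure_mem_irreducibleComponents X η hη).toField
    GmAcyclic (X.presheaf.stalk η) := by
  letI : Field (X.presheaf.stalk η) := (isField_stalk_of_closure_mem_irreducibleComponents X η hη).toField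
  let φ : CommRingCat.of k ⟶ X.presheaf.stalk η := Spec.preimage (X.fromSpecStalk η ≫ f)
  letI : Algebra k (X.presheaf.stalk η) := φ.hom.toAlgebra
  refine gmAcyclic_of_trdeg_le_one k ?_
  letI : Algebra k (X.residueField η) := (Variety2.Dim.resHom f η).toAlgebra
  have hφ : Variety2.Dim.resHom f η = (X.residue η).hom.comp φ.hom := by
    have h : CommRingCat.ofHom (Variety2.Dim.resHom f η) = φ ≫ X.residue η := Spec.map_injective <| by
      rw [Variety2.Dim.resHom_spec, Spec.map_comp, Spec.map_preimage, Scheme.fromSpecResidueField,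
        Category.assoc]
    exact congrArg CommRingCat.Hom.hom h
  let g : X.presheaf.stalk η →ₐ[k] X.residueField η :=
    { (X.residue η).hom with commutes' := fun c => (RingHom.congr_fun hφ c).symm }
  obtain ⟨n, hn, hh⟩ := Variety2.Dim.exists_trdegAt_eq_height f η
  have hle : (Order.height η : WithBot ℕ∞) ≤ 1 := by
    refine le_trans ?_ hdim
    rw [Variety2.Dim.dim_eq_iSup_height]
    exact le_iSup (fun x : X => ((Order.height x : ℕ∞) : WithBot ℕ∞)) η
  have hn1 : n ≤ 1 := by
    rw [hh] at hle
    exact_mod_cast hle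
  refine (trdeg_le_of_injective g (RingHom.injective (g : X.presheaf.stalk η →+* X.residueField η))).trans ?_
  show Variety2.Dim.trdegAt f η ≤ 1
  rw [hn]
  exact_mod_cast hn1

/-- Cohomology of the generic direct images vanishes. -/
theorem subsingleton_H_gmGen [IsAlgClosed k] [IsReduced X] [IsNoetherian X] (hdim : topologicalKrullDim X ≤ 1)
    (q : ℕ) (hq : 1 ≤ q) : Subsingleton (EtCoh.H X (gmGen X) q) := by
  classical
  letI := Fintype.ofFinite (Gen X)
  refine subsingleton_of_forall_eq 0 fun z => ?_
  rw [ext_eq_sum_components (fun η : Gen X => gmAt η.1) z]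
  refine Finset.sum_eq_zero fun η _ => ?_
  letI : Field (X.presheaf.stalk η.1) :=
    (isField_stalk_of_closure_mem_irreducibleComponents X η.1 η.2).toField
  haveI := pull_preservesFiniteLimits (X.fromSpecStalk η.1)
  haveI : Subsingleton (EtCoh.H X (gmAt η.1) q) :=
    subsingleton_H_push_Gm (K := X.presheaf.stalk η.1) (X.fromSpecStalk η.1) (gmAcyclic_stalk f hdim η.1 η.2) q hq
  rw [Subsingleton.elim (α := EtCoh.H X (gmAt η.1) q)
    (z.comp (Ext.mk₀ (biproduct.π (fun η : Gen X => gmAt η.1) η)) (add_zero q)) 0]
  exact Ext.zero_comp _ _ _ _ _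

/-- `Hᵠ(X, 𝔾ₘ) = 0` for `q ≥ 2` on reduced curves over algebraically closed fields. -/
theorem subsingleton_H_Gm_curve [IsAlgClosed k] [IsReduced X] [QuasiCompact f]
    (hdim : topologicalKrullDim X ≤ 1) (q : ℕ) (hq : 2 ≤ q) :
    Subsingleton (EtCoh.H X (EtCoh.Gm X) q) := by
  haveI : IsLocallyNoetherian X := LocallyOfFiniteType.isLocallyNoetherian f
  haveI : CompactSpace X := QuasiCompact.compactSpace_of_compactSpace f
  haveI : AlgebraicGeometry.IsNoetherian X := {}
  obtain ⟨p, rfl⟩ : ∃ p, q = p + 2 := ⟨q - 2, by omega⟩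
  haveI := Groth.EtPbc.PointSupp.subsingleton_H f (cokernel (toGen X))
    (fun x hx => isClosed_of_not_mem_genericPoints hdim (supp_coker_toGen hx)) (p + 1) (Nat.succ_pos p)
  haveI := subsingleton_H_gmGen f hdim (p + 2) (by omega)
  refine subsingleton_of_forall_eq 0 fun x => ?_
  have hS : (ShortComplex.mk (toGen X) (cokernel.π _) (cokernel.condition _)).ShortExact :=
    CohFin.cokerSeq_shortExact' (toGen X)
  obtain ⟨y, rfl⟩ := Ext.covariant_sequence_exact₁ _ hS x
    (Subsingleton.elim (α := EtCoh.H X (gmGen X) (p + 2)) _ _) (n₀ := p + 1) rfl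
  rw [Subsingleton.elim (α := EtCoh.H X (cokernel (toGen X)) (p + 1)) y 0]
  exact Ext.zero_comp _ _ _ _ _

end Groth.FieldPush
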