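import Groth.Agent.EtaleDeep.Cons.TorsionColimit
import Groth.Agent.FlatMor2.ColimCoh.Etale
import Groth.Agent.EtaleBase.Limit.StalkPush

/-!
# Torsion étale sheaves: stalks, cohomology, higher direct images
-/

set_option autoImplicit false
set_option backward.isDefEq.respectTransparency.types false
set_option linter.style.haveILetI false

universe u

open CategoryTheory CategoryTheory.Limits CategoryTheory.Abelian AlgebraicGeometry Opposite

namespace Groth.EtPbc.Torsion

open Groth.EtaleBase Groth.EtaleBase.LocConst Groth.EtaleBase.SitePt Groth.EtaleDeep.Cons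

variable {X : Scheme.{u}}

/-- Stalks of torsion sheaves are torsion. -/
theorem isAddTorsion_stalk {F : EtCoh.Ab X} (hF : EtCoh.IsTorsion F) {Ω : Type u} [Field Ω] [IsSepClosed Ω]
    (η : Spec (CommRingCat.of Ω) ⟶ X) : IsAddTorsion ((EtCoh.stalk η).obj F) := fun y => by
  obtain ⟨U, hU, t, σ, n, hn, h, rfl⟩ := exists_torsion_rep hF η y
  refine isOfFinAddOrder_iff_nsmul_eq_zero.2 ⟨n, hn, ?_⟩
  rw [← map_nsmul, h, map_zero]

/-- A sheaf with torsion stalks at one geometric point over each point is torsion. -/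
theorem isTorsion_of_stalks {F : EtCoh.Ab X}
    (h : ∀ x : X, IsAddTorsion ((EtCoh.stalk (geomPoint x)).obj F)) : EtCoh.IsTorsion F := by
  intro U s x
  obtain ⟨t, ht⟩ := exists_geomPoint_lift U x
  let η := geomPoint (U.hom.base x)
  obtain ⟨n, hn, hns⟩ := (h (U.hom.base x) (germ η F U t s)).exists_nsmul_eq_zero
  have h0 : germ η F U t (n • s) = 0 := by
    rw [map_nsmul]
    exact hns
  obtain ⟨V, g, v, hv, hs⟩ := (germ_eq_zero_iff η F U t _).1 h0
  refine ⟨V, g, ⟨fiberPoint η v, ?_⟩, isOfFinAddOrder_iff_nsmul_eq_zero.2 ⟨n, hn, ?_⟩⟩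
  · rw [← fiberPoint_map, hv]
    exact ht
  · rw [← map_nsmul]
    exact hs

/-- Isomorphisms transport being torsion. -/
theorem isAddTorsion_of_iso {A B : AddCommGrpCat.{u + 1}} (e : A ≅ B) (h : IsAddTorsion A) :
    IsAddTorsion B := fun b => by
  rw [show b = e.hom (e.inv b) from (ConcreteCategory.congr_hom e.inv_hom_id b).symm]
  exact e.hom.hom.isOfFinAddOrder (h _)

/-- Inverse images of torsion sheaves are torsion. -/
theorem isTorsion_pull {Y : Scheme.{u}} (g : Y ⟶ X) {F : EtCoh.Ab X} (hF : EtCoh.IsTorsion F) :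
    EtCoh.IsTorsion ((EtCoh.pull g).obj F) :=
  isTorsion_of_stalks fun y =>
    isAddTorsion_of_iso ((stalkPullIso g (geomPoint y)).app F) (isAddTorsion_stalk hF _)

/-- The presented sheaves are killed by a positive integer. -/
theorem exists_nsmul_id_presDiag [CompactSpace X] [QuasiSeparatedSpace X] {F : EtCoh.Ab X} (P : PresCat F) :
    ∃ N : ℕ, 0 < N ∧ N • 𝟙 ((presDiag F).obj P) = 0 := by
  classical
  let P' : PresOver F := P
  refine ⟨∏ i, P'.n i, Finset.prod_pos fun i _ => (P'.hn i).1, ?_⟩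
  change (∏ i, P'.n i) • 𝟙 (cokernel P'.φ) = 0
  refine (cancel_epi (cokernel.π P'.φ)).1 (biproduct.hom_ext' _ _ fun i => ?_)
  obtain ⟨c, hc⟩ : P'.n i ∣ ∏ k, P'.n k := Finset.dvd_prod_of_mem _ (Finset.mem_univ i)
  rw [hc, comp_zero, Preadditive.comp_nsmul, Category.comp_id, comp_zero, mul_comm, mul_smul,
    Preadditive.comp_nsmul, Preadditive.comp_nsmul]
  have : P'.n i • 𝟙 (EtPBC.extZeroConst (P'.U i) (ZMod (P'.n i))) = 0 := nsmul_id_extZeroConst _ _
  rw [← Category.id_comp (biproduct.ι _ i), Category.assoc, ← Preadditive.nsmul_comp, this, zero_comp,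
    smul_zero]

/-- Cohomology of torsion sheaves on quasi-compact quasi-separated schemes is torsion. -/
theorem isAddTorsion_H [CompactSpace X] [QuasiSeparatedSpace X] {F : EtCoh.Ab X} (hF : EtCoh.IsTorsion F)
    (n : ℕ) : IsAddTorsion (EtCoh.H X F n) := fun x => by
  obtain ⟨hc⟩ := nonempty_isColimit_presCocone hF
  haveI := Groth.FlatMor2.ColimCoh.Etale.preservesColimitsOfShape_HF X (PresCat F) n
  obtain ⟨P, y, rfl⟩ := Types.jointly_surjective _
    (isColimitOfPreserves (EtCoh.HF X n ⋙ CategoryTheory.forget AddCommGrpCat.{u + 1}) hc) x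
  obtain ⟨N, hN, hid⟩ := exists_nsmul_id_presDiag P
  have key : ∀ z : EtCoh.H X ((presDiag F).obj P) n, N • z = 0 := fun z => by
    rw [← Ext.comp_mk₀_id z, ← Ext.bilinearComp_apply_apply, ← map_nsmul]
    have : N • Ext.mk₀ (𝟙 ((presDiag F).obj P)) = (0 : Ext.{u + 1} _ _ 0) :=
      ((map_nsmul Ext.addEquiv₀.symm N (𝟙 _)).symm.trans (congrArg _ hid)).trans (map_zero _)
    rw [this, map_zero]
  suffices h : ∀ z : EtCoh.H X ((presDiag F).obj P) n,
      IsOfFinAddOrder ((EtCoh.HF X n).map ((presCocone F).ι.app P) z : EtCoh.H X F n) from h y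
  intro z
  exact (isOfFinAddOrder_iff_nsmul_eq_zero.2 ⟨N, hN, key z⟩ : IsOfFinAddOrder z) |>
    ((EtCoh.HF X n).map ((presCocone F).ι.app P)).hom.isOfFinAddOrder

/-- Higher direct images of torsion sheaves along quasi-compact quasi-separated morphisms are torsion. -/
theorem isTorsion_Rpush {Y : Scheme.{u}} (f : X ⟶ Y) [QuasiCompact f] [QuasiSeparated f] {F : EtCoh.Ab X}
    (hF : EtCoh.IsTorsion F) (n : ℕ) : EtCoh.IsTorsion ((EtCoh.Rpush f n).obj F) :=
  isTorsion_of_stalks fun y => by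
    let ξ := geomPoint y
    let σ : Spec (EtBase.etaleLocalRing ξ) ⟶ Y :=
      Spec.map (Groth.AlgSpEt.StrictLocal.toEtale ξ) ≫ Y.fromSpecStalk (ξ default)
    obtain ⟨α⟩ := EtLimit.nonempty_stalk_Rpush_iso f ξ σ (𝟙 _) (Category.id_comp _) n
    haveI : CompactSpace ↥(pullback f σ) := QuasiCompact.compactSpace_of_compactSpace (pullback.snd f σ)
    haveI : QuasiSeparatedSpace ↥(pullback f σ) := quasiSeparatedSpace_of_quasiSeparated (pullback.snd f σ)
    exact isAddTorsion_of_iso (α.app F).symm (isAddTorsion_H (isTorsion_pull _ hF) n)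

end Groth.EtPbc.Torsion
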