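import Groth.Agent.EtPbc.GenDevissage
import Groth.Agent.EtPbc.GmCurve
import Groth.Agent.EtPbc.Torsion
import Groth.Agent.EtaleBase.Limit.StalkPush
import Groth.Agent.GaloisBrauer.BrNorm

/-!
# Cohomological dimension of curves over algebraically closed fields
-/

set_option autoImplicit false
set_option backward.isDefEq.respectTransparency.types false
set_option linter.style.haveILetI false
set_option maxHeartbeats 1000000

universe u

open CategoryTheory CategoryTheory.Limits CategoryTheory.Abelian AlgebraicGeometry Opposite TopologicalSpace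

namespace Groth.FieldPush

open Groth.EtaleBase Groth.EtaleBase.LocConst Groth.EtaleBase.SitePt Groth.EtaleDeep.Cons Groth.EtPbc.PointSupp Groth.GaloisBrauer.FieldTrace

/-- Finite extensions of fields of transcendence degree at most one over an algebraically closed field
have trivial Brauer group. -/
theorem brauer_trivial_of_trdeg_le_one {K : Type u} [Field K] (k : Type u) [Field k] [IsAlgClosed k] [Algebra k K]
    (hK : Algebra.trdeg k K ≤ 1) (K' : Type u) [Field K'] [Algebra K K'] [FiniteDimensional K K']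
    (D : Type u) [DivisionRing D] [Algebra K' D] [Algebra.IsCentral K' D] [FiniteDimensional K' D] :
    Module.finrank K' D = 1 := by
  obtain ⟨j, hj⟩ := Cardinal.lt_aleph0.1 (lt_of_le_of_lt hK Cardinal.one_lt_aleph0)
  have hj1 : j ≤ 1 := by exact_mod_cast hj ▸ hK
  obtain rfl | rfl : j = 1 ∨ j = 0 := by omega
  · exact Groth.CiFields.finrank_eq_one_of_isCr_one (Groth.CiFields.isCr_of_isCi
      (Groth.CiFields.isCi_of_isAlgebraic (L := K') (Groth.CiFields.tsen_lang k K 1 (by rw [hj])))) D
  · haveI : Algebra.IsAlgebraic k K := trdeg_eq_zero_iff.1 (by rw [hj, Nat.cast_zero])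
    haveI : IsAlgClosed K := IsAlgClosure.isAlgClosed (R := k) (K := K) (self :=
      ⟨IsAlgClosed.of_ringEquiv k K (RingEquiv.ofBijective (algebraMap k K)
        (IsAlgClosed.algebraMap_bijective_of_isIntegral (k := k))), inferInstance⟩)
    haveI : IsAlgClosed K' := IsAlgClosed.of_ringEquiv K K' (RingEquiv.ofBijective (algebraMap K K')
      (IsAlgClosed.algebraMap_bijective_of_isIntegral (k := K)))
    exact ((AlgEquiv.ofBijective (Algebra.ofId K' D)
      (IsAlgClosed.algebraMap_bijective_of_isIntegral (k := K'))).toLinearEquiv.finrank_eq).symm.trans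
        (Module.finrank_self K')

/-- Torsion cohomology of such fields vanishes in degrees at least two. -/
theorem subsingleton_H_field {K : Type u} [Field K] (k : Type u) [Field k] [IsAlgClosed k] [Algebra k K]
    (hK : Algebra.trdeg k K ≤ 1) (F : EtCoh.Ab (Spec (CommRingCat.of K))) (hF : EtCoh.IsTorsion F) (p : ℕ) :
    Subsingleton (EtCoh.H (Spec (CommRingCat.of K)) F (p + 2)) :=
  subsingleton_of_forall_eq 0 fun x => torsion_eq_zero_of_normSurj K (fun q _ => normSurj_of_brauer K
    (fun K' _ _ _ D _ _ _ _ => brauer_trivial_of_trdeg_le_one k hK K' D) q) F hF (p + 2) (by omega) x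

/-- So it does on all finite separable extensions. -/
theorem acycAt_torsion {K : Type u} [Field K] (k : Type u) [Field k] [IsAlgClosed k] [Algebra k K]
    (hK : Algebra.trdeg k K ≤ 1) (F : EtCoh.Ab (Spec (CommRingCat.of K))) (hF : EtCoh.IsTorsion F) (p : ℕ) :
    AcycAt F (p + 2) := by
  intro L _ _ _ _
  letI : Algebra k L := ((algebraMap K L).comp (algebraMap k K)).toAlgebra
  haveI : IsScalarTower k K L := IsScalarTower.of_algebraMap_eq fun _ => rfl
  exact subsingleton_H_field k (by rw [← trdeg_add_eq k K (A := L), trdeg_eq_zero (R := K) (A := L), add_zero]; exact hK)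
    _ (Groth.EtPbc.Torsion.isTorsion_pull (mor K L) hF) p

variable {X : Scheme.{u}} [QuasiSeparatedSpace X]

/-- Higher direct images from a residue field vanish at the point. -/
theorem isZero_stalk_Rpush (x : X) (G : EtCoh.Ab (Spec (X.residueField x))) {Ω : Type u} [Field Ω] [IsSepClosed Ω]
    (ξ : Spec (CommRingCat.of Ω) ⟶ X) (hx : ξ.base default = x) (n : ℕ) (hn : 0 < n) :
    IsZero ((EtCoh.stalk ξ).obj ((EtCoh.Rpush (X.fromSpecResidueField x) n).obj G)) := by
  subst hx
  haveI : QuasiCompact (X.fromSpecResidueField (ξ default)) := quasiCompact _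
  haveI : QuasiSeparated (X.fromSpecResidueField (ξ default)) := inferInstance
  let b : Spec (EtBase.etaleLocalRing ξ) ⟶ Spec (X.presheaf.stalk (ξ default)) :=
    Spec.map (Groth.AlgSpEt.StrictLocal.toEtale ξ)
  let a : Spec (X.residueField (ξ default)) ⟶ Spec (X.presheaf.stalk (ξ default)) :=
    Spec.map (X.residue (ξ default))
  let m := X.fromSpecStalk (ξ default)
  haveI : IsClosedImmersion a := IsClosedImmersion.spec_of_surjective _ (X.residue_surjective _)
  obtain ⟨α⟩ := EtLimit.nonempty_stalk_Rpush_iso (X.fromSpecResidueField (ξ default)) ξ (b ≫ m) (𝟙 _)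
    (Category.id_comp _) n
  have hP : IsPullback (pullback.fst a b) (pullback.snd a b) (X.fromSpecResidueField (ξ default)) (b ≫ m) :=
    IsPullback.of_isLimit (pullbackIsPullbackOfCompMono a b m)
  haveI : IsClosedImmersion (pullback.snd (X.fromSpecResidueField (ξ default)) (b ≫ m)) := by
    rw [show pullback.snd (X.fromSpecResidueField (ξ default)) (b ≫ m) = hP.isoPullback.inv ≫ pullback.snd a b from
      hP.isoPullback_inv_snd.symm]
    infer_instance
  obtain ⟨hh, hs⟩ := EtLocalRing.isStrictlyHenselian ξ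
  haveI := @Groth.Agent.S19222.result _ _ hh hs _
    (pullback.snd (X.fromSpecResidueField (ξ default)) (b ≫ m)) inferInstance
    ((EtCoh.pull (pullback.fst (X.fromSpecResidueField (ξ default)) (b ≫ m))).obj G) n hn
  exact IsZero.of_iso (AddCommGrpCat.isZero_of_subsingleton (AddCommGrpCat.of (EtCoh.H _
    ((EtCoh.pull (pullback.fst (X.fromSpecResidueField (ξ default)) (b ≫ m))).obj G) n))) (α.app G)

/-- Direct images of torsion sheaves from generic points of curves. -/
theorem subsingleton_H_push_torsion {k : Type u} [Field k] [IsAlgClosed k] (f : X ⟶ Spec (CommRingCat.of k))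
    [LocallyOfFiniteType f] [QuasiCompact f] (hdim : topologicalKrullDim X ≤ 1) (η : ↥(genericPoints X))
    (G : EtCoh.Ab (Spec (X.residueField η.1))) (hG : EtCoh.IsTorsion G) (q : ℕ) (hq : 3 ≤ q) :
    Subsingleton (EtCoh.H X ((EtCoh.push (X.fromSpecResidueField η.1)).obj G) q) := by
  let K := X.residueField η.1
  let i : Spec (CommRingCat.of K) ⟶ X := X.fromSpecResidueField η.1
  letI : Algebra k K := (Variety2.Dim.resHom f η.1).toAlgebra
  have hK : Algebra.trdeg k K ≤ 1 := by
    obtain ⟨n, hn, hh⟩ := Variety2.Dim.exists_trdegAt_eq_height f η.1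
    have hle : (Order.height η.1 : WithBot ℕ∞) ≤ 1 := by
      refine le_trans ?_ hdim
      rw [Variety2.Dim.dim_eq_iSup_height]
      exact le_iSup (fun x : X => ((Order.height x : ℕ∞) : WithBot ℕ∞)) η.1
    have hn1 : n ≤ 1 := by
      rw [hh] at hle
      exact_mod_cast hle
    show Variety2.Dim.trdegAt f η.1 ≤ 1
    rw [hn]
    exact_mod_cast hn1
  haveI := pull_preservesFiniteLimits i
  haveI : (EtCoh.push i).Additive := Adjunction.right_adjoint_additive (EtCoh.pullPushAdj i)
  let G₀ : EtCoh.Ab (Spec (CommRingCat.of K)) := G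
  let S : ShortComplex (EtCoh.Ab (Spec (CommRingCat.of K))) :=
    ShortComplex.mk (Injective.ι G₀) (cokernel.π (Injective.ι G₀)) (cokernel.condition _)
  have hS : S.ShortExact := CohFin.cokerSeq_shortExact' (Injective.ι G₀)
  have hac := CohFin.rightAcyclic_of_injective (F := EtCoh.push i) S.X₂
  have hR : ∀ p, 0 < p → IsZero ((EtCoh.Rpush i p).obj S.X₃) := fun p hp => by
    obtain ⟨p, rfl⟩ := Nat.exists_eq_succ_of_ne_zero hp.ne'
    obtain ⟨e⟩ := CohFin.nonempty_rightDerived_shift (F := EtCoh.push i) p S hS hac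
    exact IsZero.of_iso (isZero_Rpush_of_acycAt i (acycAt_torsion k hK G₀ hG p)) e.symm
  haveI hX3 : ∀ p, Subsingleton (EtCoh.H (Spec (CommRingCat.of K)) S.X₃ (p + 1)) := fun p => by
    refine subsingleton_of_forall_eq 0 fun x => ?_
    haveI := subsingleton_H_field k hK G₀ hG p
    obtain ⟨y, rfl⟩ := Ext.covariant_sequence_exact₃ _ hS x (show p + 1 + 1 = p + 2 by omega)
      (Subsingleton.elim (α := EtCoh.H (Spec (CommRingCat.of K)) G₀ (p + 2)) _ _)
    rw [Ext.eq_zero_of_injective (I := Injective.under G₀) y]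
    exact Ext.zero_comp _ _ _ _ _
  have hpush : ∀ p, Subsingleton (EtCoh.H X ((EtCoh.push i).obj S.X₃) (p + 1)) := fun p =>
    (InjCoh.HofPush_bijective i S.X₃ hR (p + 1)).1.subsingleton
  haveI : Injective ((EtCoh.push i).obj S.X₂) :=
    Injective.injective_of_adjoint (EtCoh.pullPushAdj i) (J := S.X₂)
  let g : (EtCoh.push i).obj S.X₂ ⟶ (EtCoh.push i).obj S.X₃ := (EtCoh.push i).map S.g
  obtain ⟨e₁⟩ : Nonempty ((EtCoh.push i).obj G₀ ≅ kernel g) :=
    ⟨((isLimitForkMapOfIsLimit' (EtCoh.push i) S.zero hS.fIsKernel).conePointUniqueUpToIso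
      (limit.isLimit _))⟩
  have hC : ∀ x ∈ EtPBC.supp (cokernel (Abelian.factorThruCoimage g)), IsClosed ({x} : Set X) := by
    intro x hx
    refine isClosed_of_not_mem_genericPoints hdim ?_
    refine (supp_subset_iff _ (genericPoints X)ᶜ).2 (fun Ω _ _ ξ hξ => ?_) hx
    obtain ⟨e₂⟩ := CohFin.nonempty_rightDerived_one_iso_of_injective (F := EtCoh.push i) hS
    refine IsZero.of_iso ?_ ((EtCoh.stalk ξ).mapIso
      ((cokernelEpiComp (Abelian.coimage.π g) (Abelian.factorThruCoimage g)).symm ≪≫
        cokernelIsoOfEq (Abelian.coimage.fac g)))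
    by_cases hη : ξ.base default = η.1
    · exact IsZero.of_iso (isZero_stalk_Rpush η.1 G ξ hη 1 Nat.one_pos) ((EtCoh.stalk ξ).mapIso e₂.symm)
    · refine @AddCommGrpCat.isZero_of_subsingleton _ (subsingleton_of_forall_eq 0 fun y => ?_)
      obtain ⟨z, rfl⟩ := stalk_surjective_of_epi ξ (cokernel.π g) y
      rw [stalk_push_eq_zero i S.X₃ ξ ?_ z, map_zero]
      intro h
      rw [show Set.range i.base = {η.1} from Scheme.range_fromSpecResidueField η.1] at h
      exact hη (eq_of_specializes_genericPoints (not_not.1 hξ) (specializes_iff_mem_closure.2 h)).symm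
  obtain ⟨p, rfl⟩ : ∃ p, q = p + 3 := ⟨q - 3, by omega⟩
  haveI := Groth.EtPbc.PointSupp.subsingleton_H f (cokernel (Abelian.factorThruCoimage g)) hC (p + 1) (Nat.succ_pos p)
  haveI := hpush (p + 1)
  haveI : Subsingleton (EtCoh.H X (cokernel (kernel.ι g)) (p + 2)) := by
    refine subsingleton_of_forall_eq 0 fun x => ?_
    have hT : (ShortComplex.mk (Abelian.factorThruCoimage g) (cokernel.π _) (cokernel.condition _)).ShortExact :=
      CohFin.cokerSeq_shortExact' (Abelian.factorThruCoimage g)
    obtain ⟨y, rfl⟩ := Ext.covariant_sequence_exact₁ _ hT x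
      (Subsingleton.elim (α := EtCoh.H X ((EtCoh.push i).obj S.X₃) (p + 2)) _ _) (n₀ := p + 1) rfl
    rw [Subsingleton.elim (α := EtCoh.H X (cokernel (Abelian.factorThruCoimage g)) (p + 1)) y 0]
    exact Ext.zero_comp _ _ _ _ _
  haveI : Subsingleton (EtCoh.H X (kernel g) (p + 3)) := by
    refine subsingleton_of_forall_eq 0 fun x => ?_
    have hT : (ShortComplex.mk (kernel.ι g) (cokernel.π _) (cokernel.condition _)).ShortExact :=
      CohFin.cokerSeq_shortExact' (kernel.ι g)
    obtain ⟨y, rfl⟩ := Ext.covariant_sequence_exact₁ _ hT x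
      (Ext.eq_zero_of_injective (I := (EtCoh.push i).obj S.X₂) _) (n₀ := p + 2) rfl
    rw [Subsingleton.elim (α := EtCoh.H X (cokernel (kernel.ι g)) (p + 2)) y 0]
    exact Ext.zero_comp _ _ _ _ _
  exact @Equiv.subsingleton _ _ ((EtCoh.HF X (p + 3)).mapIso e₁).addCommGroupIsoToAddEquiv.toEquiv (by assumption)

/-- Torsion sheaves on curves over algebraically closed fields have no cohomology above degree two. -/
theorem subsingleton_H_torsion_curve {X : Scheme.{u}} {k : Type u} [Field k] [IsAlgClosed k]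
    (f : X ⟶ Spec (CommRingCat.of k)) [LocallyOfFiniteType f] [QuasiCompact f] (hdim : topologicalKrullDim X ≤ 1)
    (F : EtCoh.Ab X) (hF : EtCoh.IsTorsion F) (q : ℕ) (hq : 3 ≤ q) : Subsingleton (EtCoh.H X F q) := by
  classical
  haveI : IsLocallyNoetherian X := LocallyOfFiniteType.isLocallyNoetherian f
  haveI : CompactSpace X := QuasiCompact.compactSpace_of_compactSpace f
  haveI : AlgebraicGeometry.IsNoetherian X := {}
  let u := toGenSum F
  have hSH : Subsingleton (EtCoh.H X (genSum F) q) := by
    letI := Fintype.ofFinite ↥(genericPoints X)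
    refine subsingleton_of_forall_eq 0 fun z => ?_
    rw [ext_eq_sum_components _ z]
    refine Finset.sum_eq_zero fun η _ => ?_
    haveI : Subsingleton (EtCoh.H X ((EtCoh.push (X.fromSpecResidueField η.1)).obj
        ((EtCoh.pull (X.fromSpecResidueField η.1)).obj F)) q) :=
      subsingleton_H_push_torsion f hdim η _ (Groth.EtPbc.Torsion.isTorsion_pull _ hF) q hq
    rw [Subsingleton.elim (α := EtCoh.H X ((EtCoh.push (X.fromSpecResidueField η.1)).obj
        ((EtCoh.pull (X.fromSpecResidueField η.1)).obj F)) q) (z.comp _ (add_zero q)) 0]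
    exact Ext.zero_comp _ _ _ _ _
  obtain ⟨p, rfl⟩ : ∃ p, q = p + 3 := ⟨q - 3, by omega⟩
  haveI hKH := Groth.EtPbc.PointSupp.subsingleton_H f (kernel u)
    (fun x hx => isClosed_of_not_mem_genericPoints hdim (supp_kernel_toGenSum F hx)) (p + 3) (Nat.succ_pos _)
  haveI hCH := Groth.EtPbc.PointSupp.subsingleton_H f (cokernel (Abelian.factorThruCoimage u))
    (fun x hx => isClosed_of_not_mem_genericPoints hdim (supp_cokernel_toGenSum F hx)) (p + 2) (Nat.succ_pos _)
  haveI : Subsingleton (EtCoh.H X (cokernel (kernel.ι u)) (p + 3)) := by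
    refine subsingleton_of_forall_eq 0 fun x => ?_
    have hT : (ShortComplex.mk (Abelian.factorThruCoimage u) (cokernel.π _) (cokernel.condition _)).ShortExact :=
      CohFin.cokerSeq_shortExact' (Abelian.factorThruCoimage u)
    obtain ⟨y, rfl⟩ := Ext.covariant_sequence_exact₁ _ hT x
      (Subsingleton.elim (α := EtCoh.H X (genSum F) (p + 3)) _ _) (n₀ := p + 2) rfl
    rw [Subsingleton.elim (α := EtCoh.H X (cokernel (Abelian.factorThruCoimage u)) (p + 2)) y 0]
    exact Ext.zero_comp _ _ _ _ _
  refine subsingleton_of_forall_eq 0 fun x => ?_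
  have hT : (ShortComplex.mk (kernel.ι u) (cokernel.π _) (cokernel.condition _)).ShortExact :=
    CohFin.cokerSeq_shortExact' (kernel.ι u)
  obtain ⟨y, rfl⟩ := Ext.covariant_sequence_exact₂ _ hT x
    (Subsingleton.elim (α := EtCoh.H X (cokernel (kernel.ι u)) (p + 3)) _ _)
  rw [Subsingleton.elim (α := EtCoh.H X (kernel u) (p + 3)) y 0]
  exact Ext.zero_comp _ _ _ _ _

end Groth.FieldPush
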