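import Groth.Agent.EtPbc.QDevissage
import Groth.Agent.EtPbc.TorsionCurve
import Groth.Agent.Misc1.Kummer.Basic

/-!
# Dévissage in dimension at most one over separably closed residue fields
-/

set_option autoImplicit false
set_option backward.isDefEq.respectTransparency.types false
set_option linter.style.haveILetI false
set_option maxHeartbeats 1000000

universe u

open CategoryTheory CategoryTheory.Limits CategoryTheory.Abelian AlgebraicGeometry Opposite TopologicalSpace

namespace Groth.FieldPush

open Groth.EtaleBase Groth.EtaleBase.LocConst Groth.EtaleBase.SitePt Groth.EtaleDeep.Cons Groth.EtPbc.PointSupp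
  Groth.GaloisBrauer.FieldTrace

variable {X : Scheme.{u}}

/-- Sheaves with empty support are zero. -/
theorem isZero_of_supp_empty {F : EtCoh.Ab X} (h : EtPBC.supp F ⊆ ∅) : IsZero F := by
  rw [IsZero.iff_id_eq_zero]
  refine stalkAt_jointlyReflectIsomorphisms.jointlyFaithful.map_injective fun x => ?_
  exact ((supp_subset_iff F ∅).1 h _ inferInstance inferInstance (geomPoint x) (fun h => h)).eq_of_src _ _

/-- Fields isomorphic to separably closed fields are separably closed. -/
theorem isSepClosed_of_ringEquiv {k L : Type u} [Field k] [Field L] [IsSepClosed k] (e₀ : k ≃+* L) :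
    IsSepClosed L :=
  IsSepClosed.of_exists_root _ fun p _ hirr hsep => by
    obtain ⟨r, hr⟩ := IsSepClosed.exists_root (p.map e₀.symm.toRingHom)
      (by rw [Polynomial.degree_map]; exact (Polynomial.degree_pos_of_irreducible hirr).ne') hsep.map
    refine ⟨e₀ r, ?_⟩
    have hp' : p = (p.map e₀.symm.toRingHom).map e₀.toRingHom := by simp [Polynomial.map_map]
    rw [hp', show e₀ r = e₀.toRingHom r from rfl, Polynomial.eval_map_apply, hr, map_zero]

/-- Separably closed fields have no higher cohomology. -/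
theorem subsingleton_H_sepClosed (k : Type u) [Field k] [IsSepClosed k] (F : EtCoh.Ab (Spec (CommRingCat.of k)))
    (q : ℕ) (hq : 0 < q) : Subsingleton (EtCoh.H (Spec (CommRingCat.of k)) F q) :=
  Groth.EtPbc.PointSupp.subsingleton_H (𝟙 _) F (fun x _ => by
    haveI : Subsingleton ↥(Spec (CommRingCat.of k)) := inferInstanceAs (Subsingleton (PrimeSpectrum k))
    rw [Set.eq_univ_of_forall (s := ({x} : Set _)) fun y => Subsingleton.elim y x]
    exact isClosed_univ) q hq

variable [AlgebraicGeometry.IsNoetherian X]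

/-- In dimension zero cohomology is detected on the residue fields. -/
theorem subsingleton_H_of_all_generic (hgen : ∀ x : X, x ∈ genericPoints X) (F : EtCoh.Ab X) (q : ℕ)
    (h : ∀ η : ↥(genericPoints X), Subsingleton (EtCoh.H X ((EtCoh.push (X.fromSpecResidueField η.1)).obj
      ((EtCoh.pull (X.fromSpecResidueField η.1)).obj F)) q)) :
    Subsingleton (EtCoh.H X F q) := by
  classical
  letI := Fintype.ofFinite ↥(genericPoints X)
  let u := toGenSum F
  have h0 : ∀ G : EtCoh.Ab X, EtPBC.supp G ⊆ (genericPoints X)ᶜ → IsZero G := fun G hG =>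
    isZero_of_supp_empty (hG.trans fun x hx => hx (hgen x))
  haveI : Mono u := Preadditive.mono_of_kernel_zero ((h0 _ (supp_kernel_toGenSum F)).eq_of_src _ _)
  refine subsingleton_of_forall_eq 0 fun x => ?_
  have hT : (ShortComplex.mk (kernel.ι u) (cokernel.π _) (cokernel.condition _)).ShortExact :=
    CohFin.cokerSeq_shortExact' (kernel.ι u)
  haveI : IsIso (Abelian.factorThruCoimage u) :=
    haveI : Epi (Abelian.factorThruCoimage u) :=
      Preadditive.epi_of_cokernel_zero ((h0 _ (supp_cokernel_toGenSum F)).eq_of_tgt _ _)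
    isIso_of_mono_of_epi _
  haveI : Subsingleton (EtCoh.H X (genSum F) q) := by
    refine subsingleton_of_forall_eq 0 fun z => ?_
    rw [ext_eq_sum_components _ z]
    refine Finset.sum_eq_zero fun η _ => ?_
    haveI := h η
    rw [Subsingleton.elim (α := EtCoh.H X ((EtCoh.push (X.fromSpecResidueField η.1)).obj
        ((EtCoh.pull (X.fromSpecResidueField η.1)).obj F)) q) (z.comp _ (add_zero q)) 0]
    exact Ext.zero_comp _ _ _ _ _
  haveI : Subsingleton (EtCoh.H X (cokernel (kernel.ι u)) q) :=
    @Equiv.subsingleton _ _ ((EtCoh.HF X q).mapIso (asIso (Abelian.factorThruCoimage u))).addCommGroupIsoToAddEquiv.toEquiv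
      (by assumption)
  obtain ⟨y, rfl⟩ := Ext.covariant_sequence_exact₂ _ hT x
    (Subsingleton.elim (α := EtCoh.H X (cokernel (kernel.ι u)) q) _ _)
  rw [(mapExt_of_isZero (kernel u) (h0 _ (supp_kernel_toGenSum F)) q y)]
  exact Ext.zero_comp _ _ _ _ _
where
  mapExt_of_isZero (K : EtCoh.Ab X) (hK : IsZero K) (q : ℕ) (y : EtCoh.H X K q) : y = 0 := by
    haveI := AddCommGrpCat.subsingleton_of_isZero (Functor.map_isZero (EtCoh.HF X q) hK)
    exact Subsingleton.elim (α := (EtCoh.HF X q).obj K) _ _

/-- Cohomology of sheaves supported at closed points vanishes when their residue fields are separably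
closed. -/
theorem subsingleton_H_closedPoints (hcl : ∀ x : X, IsClosed ({x} : Set X) → IsSepClosed (X.residueField x))
    (F : EtCoh.Ab X) (hF : ∀ x ∈ EtPBC.supp F, IsClosed ({x} : Set X)) (q : ℕ) (hq : 0 < q) :
    Subsingleton (EtCoh.H X F q) := by
  refine subsingleton_H_of_parts (fun x => IsClosed ({x} : Set X)) F hF q fun T => ?_
  let A := closP (fun x => IsClosed ({x} : Set X)) T
  let i := (Scheme.IdealSheafData.vanishingIdeal A).subschemeι
  let Z := (Scheme.IdealSheafData.vanishingIdeal A).subscheme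
  have hi : Set.range i.base = (A : Set X) := by
    rw [Scheme.IdealSheafData.range_subschemeι, Scheme.IdealSheafData.coe_support_vanishingIdeal]
  obtain ⟨G, ⟨e⟩⟩ := (essImage_push_iff i (suppPart A F)).2 (hi.symm ▸ supp_suppPart A F)
  haveI : IsLocallyNoetherian Z := LocallyOfFiniteType.isLocallyNoetherian i
  haveI : CompactSpace Z := QuasiCompact.compactSpace_of_compactSpace i
  haveI : AlgebraicGeometry.IsNoetherian Z := {}
  have hclosed : ∀ z : Z, IsClosed ({i.base z} : Set X) := fun z => by
    obtain ⟨x, hx, hxz⟩ := Set.mem_iUnion₂.1 (show i.base z ∈ (A : Set X) from hi ▸ ⟨z, rfl⟩)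
    rw [x.2.closure_eq] at hxz
    exact (show i.base z = x.1 from hxz) ▸ x.2
  have hgen : ∀ z : Z, z ∈ genericPoints Z := fun z => by
    show closure {z} ∈ irreducibleComponents Z
    refine ⟨isIrreducible_singleton.closure, fun t ht hle => ?_⟩
    obtain ⟨g, hg⟩ := QuasiSober.sober ht.closure isClosed_closure
    have hgz : i.base g = i.base z := by
      have h1 : g ⤳ z := hg.specializes (subset_closure (hle (subset_closure rfl)))
      have h2 : i.base z ∈ closure ({i.base g} : Set X) := (h1.map i.continuous).mem_closure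
      rw [(hclosed g).closure_eq] at h2
      exact h2.symm
    rw [← i.isClosedEmbedding.injective hgz, hg.def]
    exact subset_closure
  haveI : Subsingleton (EtCoh.H Z G q) := by
    refine subsingleton_H_of_all_generic hgen G q fun η => ?_
    haveI : IsSepClosed (X.residueField (i.base η.1)) := hcl _ (hclosed η.1)
    let f := i.residueFieldMap η.1
    have hf : Function.Surjective f.hom := fun y => by
      obtain ⟨a, rfl⟩ := Z.residue_surjective η.1 y
      obtain ⟨b, rfl⟩ := i.stalkMap_surjective η.1 a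
      exact ⟨X.residue _ b, ConcreteCategory.congr_hom (Scheme.residue_residueFieldMap i η.1) b⟩
    haveI : IsSepClosed (Z.residueField η.1) :=
      isSepClosed_of_ringEquiv (RingEquiv.ofBijective f.hom ⟨f.hom.injective, hf⟩)
    haveI := pull_preservesFiniteLimits (Z.fromSpecResidueField η.1)
    let G₀ : EtCoh.Ab (Spec (CommRingCat.of (Z.residueField η.1))) := (EtCoh.pull (Z.fromSpecResidueField η.1)).obj G
    haveI : Subsingleton (EtCoh.H (Spec (CommRingCat.of (Z.residueField η.1))) G₀ q) :=
      subsingleton_H_sepClosed _ G₀ q hq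
    refine (InjCoh.HofPush_bijective (Z.fromSpecResidueField η.1) _ (fun p hp => ?_) q).1.subsingleton
    obtain ⟨p, rfl⟩ := Nat.exists_eq_succ_of_ne_zero hp.ne'
    refine isZero_Rpush_of_acycAt (K := Z.residueField η.1) (F := G₀) (Z.fromSpecResidueField η.1) ?_
    intro L _ _ _ _
    haveI : Algebra.IsAlgebraic (Z.residueField η.1) L := inferInstance
    haveI : IsSepClosed L := isSepClosed_of_ringEquiv
      (RingEquiv.ofBijective (algebraMap (Z.residueField η.1) L) (IsSepClosed.algebraMap_bijective _ _))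
    exact subsingleton_H_sepClosed _ _ (p + 1) (Nat.succ_pos p)
  haveI := pull_preservesFiniteLimits i
  have hb := InjCoh.HofPush_bijective i G (fun n hn => isZero_Rpush i G n hn) q
  haveI : Subsingleton (EtCoh.H X ((EtCoh.push i).obj G) q) := hb.1.subsingleton
  exact @Equiv.subsingleton _ _ ((EtCoh.HF X q).mapIso e).symm.addCommGroupIsoToAddEquiv.toEquiv (by assumption)

/-- No cohomology in degrees at least two on a field and its finite separable extensions. -/
def CdOne {K : Type u} [Field K] (G : EtCoh.Ab (Spec (CommRingCat.of K))) : Prop :=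
  ∀ p : ℕ, AcycAt G (p + 2) ∧ Subsingleton (EtCoh.H (Spec (CommRingCat.of K)) G (p + 2))

/-- Direct images from generic points in dimension at most one. -/
theorem subsingleton_H_push_cdOne (hdim : topologicalKrullDim X ≤ 1)
    (hcl : ∀ x : X, IsClosed ({x} : Set X) → IsSepClosed (X.residueField x)) (η : ↥(genericPoints X))
    (G : EtCoh.Ab (Spec (CommRingCat.of (X.residueField η.1)))) (hG : CdOne G) (q : ℕ) (hq : 3 ≤ q) :
    Subsingleton (EtCoh.H X ((EtCoh.push (X.fromSpecResidueField η.1)).obj G) q) := by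
  let K := X.residueField η.1
  let i : Spec (CommRingCat.of K) ⟶ X := X.fromSpecResidueField η.1
  haveI := pull_preservesFiniteLimits i
  haveI : (EtCoh.push i).Additive := Adjunction.right_adjoint_additive (EtCoh.pullPushAdj i)
  let G₀ : EtCoh.Ab (Spec (CommRingCat.of K)) := G
  let S : ShortComplex (EtCoh.Ab (Spec (CommRingCat.of K))) :=
    ShortComplex.mk (Injective.ι G₀) (cokernel.π (Injective.ι G₀)) (cokernel.condition _)
  have hS : S.ShortExact := CohFin.cokerSeq_shortExact' (Injective.ι G₀)
  have hac := CohFin.rightAcyclic_of_injective (F := EtCoh.push i) S.X₂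
  have hR : ∀ p, 0 < p → IsZero ((EtCoh.Rpush i p).obj S.X₃) := fun p hp => by
    obtain ⟨p, rfl⟩ := Nat.exists_eq_succ_of_ne_zero hp.ne'
    obtain ⟨e⟩ := CohFin.nonempty_rightDerived_shift (F := EtCoh.push i) p S hS hac
    exact IsZero.of_iso (isZero_Rpush_of_acycAt i (hG p).1) e.symm
  haveI hX3 : ∀ p, Subsingleton (EtCoh.H (Spec (CommRingCat.of K)) S.X₃ (p + 1)) := fun p => by
    refine subsingleton_of_forall_eq 0 fun x => ?_
    haveI := (hG p).2
    obtain ⟨y, rfl⟩ := Ext.covariant_sequence_exact₃ _ hS x (show p + 1 + 1 = p + 2 by omega)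
      (Subsingleton.elim (α := EtCoh.H (Spec (CommRingCat.of K)) G₀ (p + 2)) _ _)
    rw [Ext.eq_zero_of_injective (I := Injective.under G₀) y]
    exact Ext.zero_comp _ _ _ _ _
  have hpush : ∀ p, Subsingleton (EtCoh.H X ((EtCoh.push i).obj S.X₃) (p + 1)) := fun p =>
    (InjCoh.HofPush_bijective i S.X₃ hR (p + 1)).1.subsingleton
  haveI : Injective ((EtCoh.push i).obj S.X₂) :=
    Injective.injective_of_adjoint (EtCoh.pullPushAdj i) (J := S.X₂)
  let g : (EtCoh.push i).obj S.X₂ ⟶ (EtCoh.push i).obj S.X₃ := (EtCoh.push i).map S.g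
  obtain ⟨e₁⟩ : Nonempty ((EtCoh.push i).obj G₀ ≅ kernel g) :=
    ⟨((isLimitForkMapOfIsLimit' (EtCoh.push i) S.zero hS.fIsKernel).conePointUniqueUpToIso
      (limit.isLimit _))⟩
  have hC : ∀ x ∈ EtPBC.supp (cokernel (Abelian.factorThruCoimage g)), IsClosed ({x} : Set X) := by
    intro x hx
    refine isClosed_of_not_mem_genericPoints hdim ?_
    refine (supp_subset_iff _ (genericPoints X)ᶜ).2 (fun Ω _ _ ξ hξ => ?_) hx
    obtain ⟨e₂⟩ := CohFin.nonempty_rightDerived_one_iso_of_injective (F := EtCoh.push i) hS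
    refine IsZero.of_iso ?_ ((EtCoh.stalk ξ).mapIso
      ((cokernelEpiComp (Abelian.coimage.π g) (Abelian.factorThruCoimage g)).symm ≪≫
        cokernelIsoOfEq (Abelian.coimage.fac g)))
    by_cases hη : ξ.base default = η.1
    · exact IsZero.of_iso (isZero_stalk_Rpush η.1 G ξ hη 1 Nat.one_pos) ((EtCoh.stalk ξ).mapIso e₂.symm)
    · refine @AddCommGrpCat.isZero_of_subsingleton _ (subsingleton_of_forall_eq 0 fun y => ?_)
      obtain ⟨z, rfl⟩ := stalk_surjective_of_epi ξ (cokernel.π g) y
      rw [stalk_push_eq_zero i S.X₃ ξ ?_ z, map_zero]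
      intro h
      rw [show Set.range i.base = {η.1} from Scheme.range_fromSpecResidueField η.1] at h
      exact hη (eq_of_specializes_genericPoints (not_not.1 hξ) (specializes_iff_mem_closure.2 h)).symm
  obtain ⟨p, rfl⟩ : ∃ p, q = p + 3 := ⟨q - 3, by omega⟩
  haveI := subsingleton_H_closedPoints hcl (cokernel (Abelian.factorThruCoimage g)) hC (p + 1) (Nat.succ_pos p)
  haveI := hpush (p + 1)
  haveI : Subsingleton (EtCoh.H X (cokernel (kernel.ι g)) (p + 2)) := by
    refine subsingleton_of_forall_eq 0 fun x => ?_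
    have hT : (ShortComplex.mk (Abelian.factorThruCoimage g) (cokernel.π _) (cokernel.condition _)).ShortExact :=
      CohFin.cokerSeq_shortExact' (Abelian.factorThruCoimage g)
    obtain ⟨y, rfl⟩ := Ext.covariant_sequence_exact₁ _ hT x
      (Subsingleton.elim (α := EtCoh.H X ((EtCoh.push i).obj S.X₃) (p + 2)) _ _) (n₀ := p + 1) rfl
    rw [Subsingleton.elim (α := EtCoh.H X (cokernel (Abelian.factorThruCoimage g)) (p + 1)) y 0]
    exact Ext.zero_comp _ _ _ _ _
  haveI : Subsingleton (EtCoh.H X (kernel g) (p + 3)) := by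
    refine subsingleton_of_forall_eq 0 fun x => ?_
    have hT : (ShortComplex.mk (kernel.ι g) (cokernel.π _) (cokernel.condition _)).ShortExact :=
      CohFin.cokerSeq_shortExact' (kernel.ι g)
    obtain ⟨y, rfl⟩ := Ext.covariant_sequence_exact₁ _ hT x
      (Ext.eq_zero_of_injective (I := (EtCoh.push i).obj S.X₂) _) (n₀ := p + 2) rfl
    rw [Subsingleton.elim (α := EtCoh.H X (cokernel (kernel.ι g)) (p + 2)) y 0]
    exact Ext.zero_comp _ _ _ _ _
  exact @Equiv.subsingleton _ _ ((EtCoh.HF X (p + 3)).mapIso e₁).addCommGroupIsoToAddEquiv.toEquiv (by assumption)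

/-- Sheaves of cohomological dimension one at the generic points of a one-dimensional scheme with
separably closed residue fields at closed points have no cohomology above degree two. -/
theorem subsingleton_H_dim_one (hdim : topologicalKrullDim X ≤ 1)
    (hcl : ∀ x : X, IsClosed ({x} : Set X) → IsSepClosed (X.residueField x)) (F : EtCoh.Ab X)
    (hF : ∀ η : ↥(genericPoints X),
      CdOne (K := X.residueField η.1) ((EtCoh.pull (X.fromSpecResidueField η.1)).obj F))
    (q : ℕ) (hq : 3 ≤ q) : Subsingleton (EtCoh.H X F q) := by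
  classical
  let u := toGenSum F
  have hSH : Subsingleton (EtCoh.H X (genSum F) q) := by
    letI := Fintype.ofFinite ↥(genericPoints X)
    refine subsingleton_of_forall_eq 0 fun z => ?_
    rw [ext_eq_sum_components _ z]
    refine Finset.sum_eq_zero fun η _ => ?_
    haveI : Subsingleton (EtCoh.H X ((EtCoh.push (X.fromSpecResidueField η.1)).obj
        ((EtCoh.pull (X.fromSpecResidueField η.1)).obj F)) q) :=
      subsingleton_H_push_cdOne hdim hcl η _ (hF η) q hq
    rw [Subsingleton.elim (α := EtCoh.H X ((EtCoh.push (X.fromSpecResidueField η.1)).obj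
        ((EtCoh.pull (X.fromSpecResidueField η.1)).obj F)) q) (z.comp _ (add_zero q)) 0]
    exact Ext.zero_comp _ _ _ _ _
  obtain ⟨p, rfl⟩ : ∃ p, q = p + 3 := ⟨q - 3, by omega⟩
  haveI hKH := subsingleton_H_closedPoints hcl (kernel u)
    (fun x hx => isClosed_of_not_mem_genericPoints hdim (supp_kernel_toGenSum F hx)) (p + 3) (Nat.succ_pos _)
  haveI hCH := subsingleton_H_closedPoints hcl (cokernel (Abelian.factorThruCoimage u))
    (fun x hx => isClosed_of_not_mem_genericPoints hdim (supp_cokernel_toGenSum F hx)) (p + 2) (Nat.succ_pos _)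
  haveI : Subsingleton (EtCoh.H X (cokernel (kernel.ι u)) (p + 3)) := by
    refine subsingleton_of_forall_eq 0 fun x => ?_
    have hT : (ShortComplex.mk (Abelian.factorThruCoimage u) (cokernel.π _) (cokernel.condition _)).ShortExact :=
      CohFin.cokerSeq_shortExact' (Abelian.factorThruCoimage u)
    obtain ⟨y, rfl⟩ := Ext.covariant_sequence_exact₁ _ hT x
      (Subsingleton.elim (α := EtCoh.H X (genSum F) (p + 3)) _ _) (n₀ := p + 2) rfl
    rw [Subsingleton.elim (α := EtCoh.H X (cokernel (Abelian.factorThruCoimage u)) (p + 2)) y 0]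
    exact Ext.zero_comp _ _ _ _ _
  refine subsingleton_of_forall_eq 0 fun x => ?_
  have hT : (ShortComplex.mk (kernel.ι u) (cokernel.π _) (cokernel.condition _)).ShortExact :=
    CohFin.cokerSeq_shortExact' (kernel.ι u)
  obtain ⟨y, rfl⟩ := Ext.covariant_sequence_exact₂ _ hT x
    (Subsingleton.elim (α := EtCoh.H X (cokernel (kernel.ι u)) (p + 3)) _ _)
  rw [Subsingleton.elim (α := EtCoh.H X (kernel u) (p + 3)) y 0]
  exact Ext.zero_comp _ _ _ _ _

end Groth.FieldPush
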