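import Groth.Agent.EtPbc.FieldCdTrdeg
import Groth.Agent.EtPbc.DimOneDevissage
import Groth.Agent.S2817
import Groth.Prelude.Def_Cyc
import Groth.Agent.EtPbc.DimFunMain
import Groth.Agent.Variety2.DimScheme
import Mathlib.FieldTheory.SeparableClosure
import Mathlib.RingTheory.Henselian

/-!
# Residue fields of strict localizations of schemes of finite type
-/

set_option autoImplicit false
set_option linter.style.haveILetI false
set_option backward.isDefEq.respectTransparency.types false
set_option maxHeartbeats 1000000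

universe u

open CategoryTheory AlgebraicGeometry
open scoped TensorProduct

namespace Groth.FieldPush

open Polynomial in
/-- Separable polynomials split in any field receiving a strictly henselian ring. -/
theorem splits_of_henselian {K₀ : Type u} [Field K₀] {R : Type u} [CommRing R] [HenselianLocalRing R]
    [IsSepClosed (IsLocalRing.ResidueField R)] {L : Type u} [Field L] (j : K₀ →+* R) (π : R →+* L)
    (f : K₀[X]) (hm : f.Monic) (hs : f.Separable) : (f.map (π.comp j)).Splits := by
  classical
  let κ := IsLocalRing.ResidueField R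
  let r := IsLocalRing.residue R
  let fb := f.map (r.comp j)
  have hsb : fb.Separable := hs.map
  have hspl : fb.Splits := IsSepClosed.splits_of_separable _ hsb
  have hlift : ∀ a ∈ fb.roots, ∃ b : R, (f.map j).IsRoot b ∧ r b = a := fun a ha => by
    obtain ⟨a₀, rfl⟩ := IsLocalRing.residue_surjective (R := R) a
    obtain ⟨b, hb, hba⟩ := HenselianLocalRing.is_henselian (f.map j) (hm.map j) a₀ (by
      rw [← IsLocalRing.residue_eq_zero_iff, ← Polynomial.eval₂_at_apply, eval₂_map, ← Polynomial.eval_map]
      exact (mem_roots'.1 ha).2) (by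
      rw [← IsLocalRing.residue_ne_zero_iff_isUnit, ← Polynomial.eval₂_at_apply, derivative_map, eval₂_map, ← Polynomial.eval_map,
        ← derivative_map]
      intro h0
      exact hsb.eval₂_derivative_ne_zero (RingHom.id κ)
        (by rw [eval₂_id]; exact (mem_roots'.1 ha).2) (by rw [eval₂_id]; exact h0))
    exact ⟨b, hb, by rw [← sub_eq_zero, ← map_sub]; exact (IsLocalRing.residue_eq_zero_iff _).2 hba⟩
  choose b hb hbr using hlift
  have hinj : ∀ x ∈ RingHom.ker π, r x = 0 := fun x hx =>
    (IsLocalRing.residue_eq_zero_iff x).2 (IsLocalRing.le_maximalIdeal (RingHom.ker_ne_top π) hx)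
  let g : {a // a ∈ fb.roots.toFinset} → L := fun a => π (b a.1 (Multiset.mem_toFinset.1 a.2))
  have hg : Function.Injective g := fun a a' h => by
    refine Subtype.ext ?_
    rw [← hbr a.1 (Multiset.mem_toFinset.1 a.2), ← hbr a'.1 (Multiset.mem_toFinset.1 a'.2), ← sub_eq_zero,
      ← map_sub]
    exact hinj _ (by rw [RingHom.mem_ker, map_sub, sub_eq_zero]; exact h)
  have hne : f.map (π.comp j) ≠ 0 := (hm.map _).ne_zero
  have hsub : Finset.univ.image g ⊆ (f.map (π.comp j)).roots.toFinset := fun y hy => by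
    obtain ⟨a, -, rfl⟩ := Finset.mem_image.1 hy
    refine Multiset.mem_toFinset.2 (mem_roots'.2 ⟨hne, ?_⟩)
    rw [← Polynomial.map_map]
    exact (hb a.1 (Multiset.mem_toFinset.1 a.2)).map
  have h1 : fb.roots.toFinset.card ≤ (f.map (π.comp j)).roots.toFinset.card := by
    refine le_trans ?_ (Finset.card_le_card hsub)
    rw [Finset.card_image_of_injective _ hg, Finset.card_univ, Fintype.card_coe]
  rw [Multiset.toFinset_card_of_nodup (nodup_roots hsb), (splits_iff_card_roots.1 hspl : _)] at h1
  refine splits_iff_card_roots.2 (le_antisymm (card_roots' _) ?_)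
  refine le_trans (le_of_eq ?_) (h1.trans (Multiset.toFinset_card_le _))
  rw [natDegree_map, natDegree_map]

open Polynomial in
/-- A separably closed relative separable closure. -/
theorem isSepClosed_separableClosure (K₀ L : Type u) [Field K₀] [Field L] [Algebra K₀ L]
    (h : ∀ f : K₀[X], f.Monic → f.Separable → (f.map (algebraMap K₀ L)).Splits) :
    IsSepClosed (separableClosure K₀ L) := by
  refine IsSepClosed.of_exists_root _ fun p hpm hpi hps => ?_
  let E := AlgebraicClosure L
  obtain ⟨α, hα⟩ := IsAlgClosed.exists_aeval_eq_zero E p hpi.degree_pos.ne'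
  have hsepF : IsSeparable (separableClosure K₀ L) α := Separable.of_dvd hps (minpoly.dvd _ α hα)
  have hsep : IsSeparable K₀ α := IsSeparable.of_algebra_isSeparable_of_isSeparable K₀ hsepF
  obtain ⟨β, hβ⟩ := (h _ (minpoly.monic hsep.isIntegral) hsep).mem_range_of_isRoot
    ((minpoly.monic hsep.isIntegral).map _).ne_zero (i := algebraMap L E) (x := α) (by
      rw [Polynomial.map_map, ← IsScalarTower.algebraMap_eq, IsRoot, eval_map_algebraMap, minpoly.aeval])
  have hβs : IsSeparable K₀ β := by
    rw [← hβ] at hsep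
    exact IsSeparable.of_algHom (IsScalarTower.toAlgHom K₀ L E) hsep
  refine ⟨⟨β, mem_separableClosure_iff.2 hβs⟩, ?_⟩
  rw [← hβ] at hα
  apply (algebraMap (separableClosure K₀ L) E).injective
  rw [map_zero, ← aeval_algebraMap_apply_eq_algebraMap_eval]
  exact hα

/-- Fields receiving a strictly henselian algebra with residual transcendence degree `m`. -/
theorem cdK_of_lift {n : ℕ} (hn : 0 < n) (k R L : Type u) [Field k] [CommRing R] [HenselianLocalRing R]
    [IsSepClosed (IsLocalRing.ResidueField R)] [Algebra k R] [Field L] [Algebra k L] (π : R →ₐ[k] L)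
    {ι : Type u} [Fintype ι] (v : ι → R)
    (hv : ∀ P : MvPolynomial ι k, P ≠ 0 → IsUnit (MvPolynomial.aeval v P)) (N : ℕ)
    (hN : Algebra.trdeg k L ≤ N) : Fintype.card ι ≤ N ∧ CdK n L (N - Fintype.card ι) := by
  let K₀ := FractionRing (MvPolynomial ι k)
  let j : K₀ →+* R := IsLocalization.lift (M := nonZeroDivisors (MvPolynomial ι k))
    (g := (MvPolynomial.aeval v).toRingHom) fun P => hv P.1 (nonZeroDivisors.ne_zero P.2)
  have hj : ∀ P, j (algebraMap _ _ P) = MvPolynomial.aeval v P := fun P => IsLocalization.lift_eq _ P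
  letI : Algebra K₀ L := (π.toRingHom.comp j).toAlgebra
  haveI : IsScalarTower k K₀ L := IsScalarTower.of_algebraMap_eq fun c => by
    show algebraMap k L c = π (j (algebraMap k K₀ c))
    rw [IsScalarTower.algebraMap_apply k (MvPolynomial ι k) K₀, hj]
    simp
  let F := separableClosure K₀ L
  haveI : IsScalarTower k F L := IsScalarTower.of_algebraMap_eq fun c => by
    rw [IsScalarTower.algebraMap_apply k K₀ L, IsScalarTower.algebraMap_apply k K₀ F]; rfl
  haveI : IsSepClosed F := isSepClosed_separableClosure K₀ L fun f hm hs => splits_of_henselian j π.toRingHom f hm hs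
  have hind : AlgebraicIndependent k fun i => algebraMap (MvPolynomial ι k) K₀ (MvPolynomial.X i) := by
    exact (MvPolynomial.algebraicIndependent_X ι k).map' (f := IsScalarTower.toAlgHom k (MvPolynomial ι k) K₀)
      (IsFractionRing.injective _ _)
  have h0 : (Fintype.card ι : Cardinal.{u}) ≤ Algebra.trdeg k F := by
    rw [← Cardinal.mk_fintype]
    exact (hind.map' (f := IsScalarTower.toAlgHom k K₀ F) (algebraMap K₀ F).injective).cardinalMk_le_trdeg
  have h1 := (trdeg_add_eq k F (A := L)).le.trans hN
  have hlt : Algebra.trdeg k F + Algebra.trdeg F L < Cardinal.aleph0 :=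
    lt_of_le_of_lt h1 Cardinal.natCast_lt_aleph0
  obtain ⟨a, ha⟩ := Cardinal.lt_aleph0.1 (lt_of_le_of_lt le_self_add hlt)
  obtain ⟨b, hb⟩ := Cardinal.lt_aleph0.1 (lt_of_le_of_lt (self_le_add_left _ _) hlt)
  rw [ha] at h0 h1
  rw [hb] at h1
  have h0' : Fintype.card ι ≤ a := by exact_mod_cast h0
  have h1' : a + b ≤ N := by exact_mod_cast h1
  refine ⟨by omega, fun G hG q hq => ?_⟩
  exact CdK.trdeg_le hn b 0 F L hb.le (fun G' _ q' hq' => subsingleton_H_sepClosed F G' q' hq') G hG q (by omega)

/-- The generic points of strict henselizations over a prime have algebraic residue fields. -/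
theorem isAlgebraic_strictHens {O R L : Type u} [CommRing O] [IsLocalRing O] [IsNoetherianRing O] [CommRing R]
    [IsLocalRing R] [Algebra O R] [IsLocalHom (algebraMap O R)] [Hensel.IsStrictHenselization O R]
    [Field L] [Algebra O L] (p : Ideal O) [p.IsPrime] (hp : p = RingHom.ker (algebraMap O L))
    [Algebra p.ResidueField L] [IsScalarTower O p.ResidueField L] (π : R →ₐ[O] L) (r : R) :
    IsAlgebraic p.ResidueField (π r) := by
  obtain ⟨N, K, _, _, hsep, ⟨e⟩⟩ := Groth.Agent.S2817.result O R p
  let ψ : p.ResidueField ⊗[O] R →ₐ[p.ResidueField] L :=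
    Algebra.TensorProduct.lift (Algebra.ofId _ _) π fun _ _ => Commute.all _ _
  have hi : IsIntegral p.ResidueField (e (1 ⊗ₜ r)) := by
    have h i : IsIntegral p.ResidueField (e (1 ⊗ₜ r) i) := by
      haveI := hsep i
      exact (Algebra.IsSeparable.isSeparable p.ResidueField _).isIntegral
    refine ⟨∏ i, minpoly p.ResidueField (e (1 ⊗ₜ r) i), Polynomial.monic_prod_of_monic _ _ fun i _ => minpoly.monic (h i),
      funext fun i => ?_⟩
    show (Pi.evalAlgHom p.ResidueField K i) (Polynomial.aeval (e (1 ⊗ₜ r)) _) = 0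
    rw [← Polynomial.aeval_algHom_apply, map_prod]
    exact Finset.prod_eq_zero (Finset.mem_univ i) (minpoly.aeval _ _)
  have h := (hi.map e.symm.toAlgHom).map ψ
  simpa [ψ] using h.isAlgebraic

open Groth.Variety2.Dim in
/-- Residue fields of schemes of finite type. -/
theorem cd_residueField_le {k : Type u} [Field k] {X : Scheme.{u}} (f : X ⟶ Spec (CommRingCat.of k))
    [LocallyOfFiniteType f] {ℓ : ℕ} (hℓ : ℓ.Prime) {e : ℕ} (he : Dix.CohDimLEAt (Spec (CommRingCat.of k)) ℓ e)
    (x : X) : Dix.CohDimLEAt (Spec (X.residueField x)) ℓ (e + (Order.height x).toNat) := by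
  intro F hF q hq
  haveI : IsNoetherian (Spec (X.residueField x)) := inferInstance
  letI : Algebra k (X.residueField x) := (resHom f x).toAlgebra
  refine Primary.subsingleton_H_of_powParts ℓ hF q fun a => ?_
  exact CdK.trdeg_le (pow_pos hℓ.pos a) _ e k (X.residueField x) (height_toNat_spec f x).le
    (fun G hG r hr => he G (isPrimaryTorsion_of_pow hG) r hr) _ (Primary.nsmul_id_powPart ℓ F a) q hq

open Groth.Variety2.Dim in
/-- Residue fields of the strict localization of the closure of a point. -/
theorem cd_fractionRing_strictHens {k : Type u} [Field k] {X : Scheme.{u}} (f : X ⟶ Spec (CommRingCat.of k))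
    [LocallyOfFiniteType f] {x y : X} (hxy : x ⤳ y)
    (R : Type u) [CommRing R] [IsLocalRing R] [Algebra (X.presheaf.stalk y) R]
    [IsLocalHom (algebraMap (X.presheaf.stalk y) R)] [Hensel.IsStrictHenselization (X.presheaf.stalk y) R]
    (P : Ideal R)
    (hP : P ∈ ((RingHom.ker (Cyc.specMap y x hxy)).map (algebraMap (X.presheaf.stalk y) R)).minimalPrimes)
    (ℓ : ℕ) (hℓ : ℓ.Prime) :
    Dix.CohDimLEAt (Spec (CommRingCat.of (FractionRing (R ⧸ P)))) ℓ
      ((Order.height x).toNat - (Order.height y).toNat) := by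
  haveI : IsLocallyNoetherian X := LocallyOfFiniteType.isLocallyNoetherian f
  haveI : IsNoetherianRing (X.presheaf.stalk y) := inferInstance
  haveI := hP.1.1
  haveI : HenselianLocalRing R := Hensel.IsStrictHenselization.henselian (R := X.presheaf.stalk y)
  haveI : IsSepClosed (IsLocalRing.ResidueField R) :=
    (Hensel.IsStrictHenselization.isSepClosure (R := X.presheaf.stalk y) (S := R)).sep_closed
  let 𝔭 := RingHom.ker (Cyc.specMap y x hxy)
  haveI : 𝔭.IsPrime := RingHom.ker_isPrime _
  have hcon : P.comap (algebraMap (X.presheaf.stalk y) R) = 𝔭 := by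
    haveI := Groth.Agent.S0539.result (X.presheaf.stalk y) R
    haveI : Algebra.HasGoingDown (X.presheaf.stalk y) R := inferInstance
    refine le_antisymm ?_ (Ideal.map_le_iff_le_comap.1 hP.1.2)
    by_contra hne
    obtain ⟨Q, hQle, hQp, hQo⟩ := Ideal.exists_ideal_le_liesOver_of_le (p := 𝔭)
      (q := P.under (X.presheaf.stalk y)) P (Ideal.map_le_iff_le_comap.1 hP.1.2)
    have h1 : 𝔭.map (algebraMap (X.presheaf.stalk y) R) ≤ Q := Ideal.map_le_iff_le_comap.2 (le_of_eq hQo.over)
    have h2 : P ≤ Q := hP.2 ⟨hQp, h1⟩ hQle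
    exact hne ((Ideal.comap_mono h2).trans (ge_of_eq hQo.over))
  let O := X.presheaf.stalk y
  let kO : CommRingCat.of k ⟶ O := Spec.preimage (X.fromSpecStalk y ≫ f)
  letI : Algebra k O := kO.hom.toAlgebra
  letI : Algebra k R := ((algebraMap O R).comp kO.hom).toAlgebra
  haveI : IsScalarTower k O R := IsScalarTower.of_algebraMap_eq fun _ => rfl
  letI : Algebra k (X.residueField y) := (resHom f y).toAlgebra
  letI : Algebra k (X.residueField x) := (resHom f x).toAlgebra
  have hy : CommRingCat.ofHom (resHom f y) = kO ≫ X.residue y := Spec.map_injective (by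
    rw [resHom_spec, Spec.map_comp, Spec.map_preimage]; exact Category.assoc _ _ _)
  have hx : CommRingCat.ofHom (resHom f x) = kO ≫ X.presheaf.stalkSpecializes hxy ≫ X.residue x :=
    Spec.map_injective (by
      rw [resHom_spec, Spec.map_comp, Spec.map_comp, Spec.map_preimage, Category.assoc,
        Scheme.SpecMap_stalkSpecializes_fromSpecStalk_assoc]
      exact Category.assoc _ _ _)
  let ρy : O →ₐ[k] X.residueField y :=
    { (X.residue y).hom with commutes' := fun c => (congr($(congrArg CommRingCat.Hom.hom hy) c)).symm }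
  let ρx : O →ₐ[k] X.residueField x :=
    { Cyc.specMap y x hxy with commutes' := fun c => (congr($(congrArg CommRingCat.Hom.hom hx) c)).symm }
  obtain ⟨b, hb, hb'⟩ := exists_trdegAt_eq_height f y
  obtain ⟨a, ha, ha'⟩ := exists_trdegAt_eq_height f x
  rw [ha', hb', ENat.toNat_coe, ENat.toNat_coe]
  obtain ⟨s, hs⟩ := exists_isTranscendenceBasis k (X.residueField y)
  have hcard : Cardinal.mk s = b := (hs.cardinalMk_eq_trdeg).trans hb
  haveI : Fintype s := (Cardinal.lt_aleph0_iff_fintype.1 (hcard.symm ▸ Cardinal.natCast_lt_aleph0)).some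
  have hsb : Fintype.card s = b := by rw [Cardinal.mk_fintype] at hcard; exact_mod_cast hcard
  choose o ho using fun t : s => X.residue_surjective y (t : X.residueField y)
  let v : s → R := fun t => algebraMap O R (o t)
  have hv : ∀ Q : MvPolynomial s k, Q ≠ 0 → IsUnit (MvPolynomial.aeval v Q) := fun Q hQ => by
    rw [show v = algebraMap O R ∘ o from rfl, MvPolynomial.aeval_algebraMap_apply]
    refine IsUnit.map _ ((IsLocalRing.residue_ne_zero_iff_isUnit _).1 fun h0 => hQ (hs.1 ?_))
    rw [map_zero, ← show (fun t : s => ρy (o t)) = Subtype.val from funext ho, ← MvPolynomial.comp_aeval]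
    exact h0
  let L := FractionRing (R ⧸ P)
  let π : R →ₐ[O] L := IsScalarTower.toAlgHom O R L
  let πk : R →ₐ[k] L := IsScalarTower.toAlgHom k R L
  have hker : 𝔭 = RingHom.ker (algebraMap O L) := by
    rw [← hcon]; ext z
    rw [Ideal.mem_comap, RingHom.mem_ker, IsScalarTower.algebraMap_apply O R L z,
      IsScalarTower.algebraMap_apply R (R ⧸ P) L, Ideal.Quotient.algebraMap_eq,
      map_eq_zero_iff _ (IsFractionRing.injective (R ⧸ P) L), Ideal.Quotient.eq_zero_iff_mem]
  let ψ : 𝔭.ResidueField →ₐ[k] L := Ideal.ResidueField.liftₐ 𝔭 (IsScalarTower.toAlgHom k O L) (le_of_eq hker)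
    (fun z hz => IsUnit.mk0 _ fun h0 => hz (hker.symm ▸ h0))
  letI : Algebra 𝔭.ResidueField L := ψ.toRingHom.toAlgebra
  haveI : IsScalarTower k 𝔭.ResidueField L := IsScalarTower.of_algebraMap_eq fun c => (ψ.commutes c).symm
  haveI : IsScalarTower O 𝔭.ResidueField L := IsScalarTower.of_algebraMap_eq fun z =>
    (Ideal.ResidueField.liftₐ_algebraMap 𝔭 (IsScalarTower.toAlgHom k O L) _ _ z).symm
  haveI : Algebra.IsAlgebraic 𝔭.ResidueField L := ⟨fun z => by
    obtain ⟨r, t, -, rfl⟩ := IsFractionRing.div_surjective (A := R ⧸ P) z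
    obtain ⟨r, rfl⟩ := Ideal.Quotient.mk_surjective r
    obtain ⟨t, rfl⟩ := Ideal.Quotient.mk_surjective t
    rw [div_eq_mul_inv]
    exact (isAlgebraic_strictHens 𝔭 hker π r).mul (isAlgebraic_strictHens 𝔭 hker π t).inv⟩
  let ψx : 𝔭.ResidueField →ₐ[k] X.residueField x := Ideal.ResidueField.liftₐ 𝔭 ρx le_rfl
    (fun z hz => IsUnit.mk0 _ fun h0 => hz h0)
  have htr : Algebra.trdeg k L ≤ a := by
    rw [← trdeg_add_eq k 𝔭.ResidueField (A := L), trdeg_eq_zero (R := 𝔭.ResidueField) (A := L), add_zero]
    exact (trdeg_le_of_injective ψx ψx.toRingHom.injective).trans ha.le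
  intro F hF q hq
  refine Primary.subsingleton_H_of_powParts ℓ hF q fun c => ?_
  obtain ⟨-, hcd⟩ := cdK_of_lift (pow_pos hℓ.pos c) k R L πk v hv a htr
  exact hcd _ (Primary.nsmul_id_powPart ℓ F c) q (by rw [hsb]; exact hq)

end Groth.FieldPush
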