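import Groth.Agent.EtPbc.DimOneDevissage

/-!
# Sheaves killed by an integer over fields of cohomological dimension one
-/

set_option autoImplicit false
set_option backward.isDefEq.respectTransparency.types false
set_option linter.style.haveILetI false
set_option maxHeartbeats 1000000

universe u

open CategoryTheory CategoryTheory.Limits CategoryTheory.Abelian AlgebraicGeometry Opposite

namespace Groth.FieldPush

open Groth.EtaleBase Groth.GaloisBrauer.FieldTrace Groth.Misc1.Kummer

/-- Multiples of the identity vanish on images under additive functors. -/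
theorem map_nsmul_id_eq_zero {C D : Type*} [Category C] [Preadditive C] [Category D] [Preadditive D]
    (F : C ⥤ D) [F.Additive] {A : C} {n : ℕ} (h : n • 𝟙 A = 0) : n • 𝟙 (F.obj A) = 0 := by
  rw [← F.map_id, ← F.map_nsmul, h, F.map_zero]

/-- Classes in the cohomology of a sheaf killed by `n` are killed by `n`. -/
theorem nsmul_H_eq_zero {X : Scheme.{u}} {G : EtCoh.Ab X} {n : ℕ} (h : n • 𝟙 G = 0) {q : ℕ}
    (x : EtCoh.H X G q) : n • x = 0 := by
  rw [← comp_mk₀_nsmul_id, h, Ext.mk₀_zero, Ext.comp_zero]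

/-- Being killed by a prime power gives primary torsion. -/
theorem isPrimaryTorsion_of_pow {X : Scheme.{u}} {G : EtCoh.Ab X} {p a : ℕ} (h : p ^ a • 𝟙 G = 0) :
    Dix.IsPrimaryTorsion p G := fun U s x => by
  obtain ⟨V, g, hv, b, hb⟩ := isPrimaryTorsion_of_nsmul_id h U s x
  exact ⟨V, g, hv, a * b, by rw [pow_mul]; exact hb⟩

/-- Cohomology of sheaves killed by `n` vanishes when all `p`-cohomological dimensions allow it. -/
theorem subsingleton_H_killed {X : Scheme.{u}} {d : ℕ} {n : ℕ} (hn : 0 < n)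
    (hcd : ∀ p : ℕ, p.Prime → p ∣ n → Dix.CohDimLEAt X p d) (G : EtCoh.Ab X) (hG : n • 𝟙 G = 0)
    (q : ℕ) (hq : d < q) : Subsingleton (EtCoh.H X G q) := by
  refine subsingleton_of_forall_eq 0 fun x =>
    eq_zero_of_primes ⟨n, hn, nsmul_H_eq_zero hG x⟩ fun p hp y hy => ?_
  obtain ⟨a, m, hm, rfl⟩ := Nat.exists_eq_pow_mul_and_not_dvd hn.ne' p hp.ne_one
  obtain rfl | a := a
  · rw [pow_zero, one_mul] at hG
    exact eq_zero_of_coprime hy (nsmul_H_eq_zero hG y) ((Nat.Prime.coprime_iff_not_dvd hp).2 hm)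
  let φ : G ⟶ G := p ^ (a + 1) • 𝟙 G
  let ι := kernel.ι φ
  have hker : p ^ (a + 1) • 𝟙 (kernel φ) = 0 := by
    rw [← cancel_mono ι, Preadditive.nsmul_comp, Category.id_comp, zero_comp]
    exact (by rw [Preadditive.comp_nsmul, Category.comp_id] : p ^ (a + 1) • ι = ι ≫ φ).trans (kernel.condition φ)
  have hcoim : m • 𝟙 (cokernel ι) = 0 := by
    rw [← cancel_mono (Abelian.factorThruCoimage φ), ← cancel_epi (Abelian.coimage.π φ), Preadditive.nsmul_comp,
      Category.id_comp, zero_comp, comp_zero, Preadditive.comp_nsmul, Abelian.coimage.fac, smul_smul, mul_comm]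
    exact hG
  have hT : (ShortComplex.mk ι (cokernel.π ι) (cokernel.condition _)).ShortExact :=
    CohFin.cokerSeq_shortExact' ι
  haveI := hcd p hp ⟨p ^ a * m, by ring⟩ (kernel φ) (isPrimaryTorsion_of_pow hker) q hq
  let z : EtCoh.H X (cokernel ι) q := (y : Ext _ _ q).comp (Ext.mk₀ (cokernel.π ι)) (add_zero q)
  have hz : z = 0 := eq_zero_of_coprime
    (a := p) (b := m) (((map_nsmul ((Ext.bilinearComp _ _ _ q 0 q (add_zero q)).flip
      (Ext.mk₀ (cokernel.π ι))) p y).symm).trans ((congrArg _ hy).trans (map_zero _)))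
    (nsmul_H_eq_zero hcoim z) ((Nat.Prime.coprime_iff_not_dvd hp).2 hm)
  obtain ⟨w, rfl⟩ := Ext.covariant_sequence_exact₂ _ hT y hz
  rw [Subsingleton.elim (α := EtCoh.H X (kernel φ) q) w 0]
  exact Ext.zero_comp _ _ _ _ _

/-- Sheaves killed by `n` on a field of cohomological dimension one at all primes dividing `n`. -/
theorem cdOne_of_killed {K : Type u} [Field K] {n : ℕ} (hn : 0 < n)
    (hcd : ∀ p : ℕ, p.Prime → p ∣ n → Dix.CohDimLEAt (Spec (CommRingCat.of K)) p 1)
    (G : EtCoh.Ab (Spec (CommRingCat.of K))) (hG : n • 𝟙 G = 0) : CdOne G := fun r => by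
  refine ⟨fun L _ _ _ _ => ?_, subsingleton_H_killed hn hcd G hG (r + 2) (by omega)⟩
  haveI := mor_isFinite K L
  haveI := pull_preservesFiniteLimits (mor K L)
  haveI : (EtCoh.pull (mor K L)).Additive := Adjunction.left_adjoint_additive (EtCoh.pullPushAdj (mor K L))
  haveI : (EtCoh.push (mor K L)).Additive := Adjunction.right_adjoint_additive (EtCoh.pullPushAdj (mor K L))
  have hb := InjCoh.HofPush_bijective (mor K L) ((EtCoh.pull (mor K L)).obj G)
    (fun p hp => isZero_Rpush (mor K L) _ p hp) (r + 2)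
  haveI := subsingleton_H_killed hn hcd _
    (map_nsmul_id_eq_zero (EtCoh.push (mor K L)) (map_nsmul_id_eq_zero (EtCoh.pull (mor K L)) hG)) (r + 2) (by omega)
  exact hb.2.subsingleton

end Groth.FieldPush
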