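import Groth.Agent.EtaleBase.Limit.FromStage
import Groth.Agent.EtaleDeep.Cons.Compact
import Groth.Agent.Limits.IntegralApprox

/-!
Morphisms from constructible sheaves to direct images along the projection of a limit of schemes factor
through a stage; maps to direct images of constant sheaves along integral morphisms factor through finite
morphisms of finite presentation.
-/

set_option autoImplicit false
set_option backward.isDefEq.respectTransparency.types false
set_option linter.style.haveILetI false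

universe u

open CategoryTheory CategoryTheory.Limits AlgebraicGeometry Opposite

namespace Groth.EtPbc.StageFactor

open Groth.EtaleBase Groth.EtaleBase.EtLimit Groth.EtaleDeep.Cons

variable {ι : Type u} [Preorder ι] [Nonempty ι] [IsDirectedOrder ι] {Xs : ιᵒᵖ ⥤ Scheme.{u}}
  [∀ (p q : ιᵒᵖ) (h : p ⟶ q), IsAffineHom (Xs.map h)]
  [∀ p, CompactSpace ↥(Xs.obj p)] [∀ p, QuasiSeparatedSpace ↥(Xs.obj p)]
  (c : Cone Xs) (M : AbSys Xs) {i : ι}

instance isIso_map_st {K : ι} (h : i ≤ K) (U : (Xs.obj (op i)).Etale) :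
    IsIso ((toPt Xs c).map (st h U)) :=
  ⟨⟨stInv c h U, st_stInv c h U, stInv_st c h U⟩⟩

lemma stInv_natural {K : ι} (h : i ≤ K) {U U' : (Xs.obj (op i)).Etale} (δ : U' ⟶ U) :
    stInv c h U' ≫ (toPt Xs c).map ((incl Xs K).map ((EtCoh.bc (trn Xs h)).map δ)) =
      (toPt Xs c).map ((incl Xs i).map δ) ≫ stInv c h U := by
  rw [← cancel_mono ((toPt Xs c).map (st h U)), Category.assoc, Category.assoc, stInv_st,
    Category.comp_id, ← Functor.map_comp, st_natural, Functor.map_comp, ← Category.assoc, stInv_st,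
    Category.id_comp]

/-- The comparison from a later stage to the limit, as sheaves on an earlier stage. -/
noncomputable def toLim {K : ι} (h : i ≤ K) :
    (EtCoh.push (trn Xs h)).obj ((res Xs K).obj M) ⟶
      (EtCoh.push (proj Xs c i)).obj ((pullSys Xs c).obj M) :=
  ObjectProperty.homMk
    { app := fun U => unitApp c M ((incl Xs K).obj ((EtCoh.bc (trn Xs h)).obj U.unop)) ≫
        ((pullSys Xs c).obj M).obj.map (stInv c h U.unop).op
      naturality := fun U U' f => by
        ext y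
        show ((pullSys Xs c).obj M).obj.map (stInv c h U'.unop).op (unitApp c M _
            (M.obj.map ((incl Xs K).map ((EtCoh.bc (trn Xs h)).map f.unop)).op y)) =
          ((pullSys Xs c).obj M).obj.map ((EtCoh.bc (proj Xs c i)).map f.unop).op
            (((pullSys Xs c).obj M).obj.map (stInv c h U.unop).op (unitApp c M _ y))
        rw [unitApp_naturality]
        refine (mapMap _ _ _ _).trans (Eq.trans ?_ (mapMap _ _ _ _).symm)
        refine congrArg (fun m => ((pullSys Xs c).obj M).obj.map (Quiver.Hom.op m) _) ?_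
        rw [← toPt_map_incl]
        exact stInv_natural c h f.unop }

lemma toLim_app {K : ι} (h : i ≤ K) (U : (Xs.obj (op i)).Etale)
    (y : M.obj.obj (op ((incl Xs K).obj ((EtCoh.bc (trn Xs h)).obj U)))) :
    (toLim c M h).hom.app (op U) y = ((pullSys Xs c).obj M).obj.map (stInv c h U).op (unitApp c M _ y) :=
  rfl

/-- The morphism between the pieces of two stages. -/
noncomputable def between {K L : ι} (h : i ≤ K) (h' : K ≤ L) (U : (Xs.obj (op i)).Etale) :
    (incl Xs L).obj ((EtCoh.bc (trn Xs (h.trans h'))).obj U) ⟶ (incl Xs K).obj ((EtCoh.bc (trn Xs h)).obj U) :=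
  (exists_factor_stage (st (h.trans h') U) h h').choose

lemma between_st {K L : ι} (h : i ≤ K) (h' : K ≤ L) (U : (Xs.obj (op i)).Etale) :
    between h h' U ≫ st h U = st (h.trans h') U :=
  (exists_factor_stage (st (h.trans h') U) h h').choose_spec

/-- The transition between the pieces of two stages, as sheaves on an earlier stage. -/
noncomputable def toStage {K L : ι} (h : i ≤ K) (h' : K ≤ L) :
    (EtCoh.push (trn Xs h)).obj ((res Xs K).obj M) ⟶
      (EtCoh.push (trn Xs (h.trans h'))).obj ((res Xs L).obj M) :=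
  ObjectProperty.homMk
    { app := fun U => M.obj.map (between h h' U.unop).op
      naturality := fun U U' f => by
        ext y
        show M.obj.map (between h h' U'.unop).op
            (M.obj.map ((incl Xs K).map ((EtCoh.bc (trn Xs h)).map f.unop)).op y) =
          M.obj.map ((incl Xs L).map ((EtCoh.bc (trn Xs (h.trans h'))).map f.unop)).op
            (M.obj.map (between h h' U.unop).op y)
        refine (resM M _ _ y).trans (Eq.trans ?_ (resM M _ _ y).symm)
        refine congrArg (fun m => M.obj.map (Quiver.Hom.op m) y) (st_cancel h U.unop _ _ ?_)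
        rw [Category.assoc, Category.assoc, st_natural, ← Category.assoc, between_st, between_st,
          ← st_natural] }

lemma toStage_app {K L : ι} (h : i ≤ K) (h' : K ≤ L) (U : (Xs.obj (op i)).Etale)
    (y : M.obj.obj (op ((incl Xs K).obj ((EtCoh.bc (trn Xs h)).obj U)))) :
    (toStage M h h').hom.app (op U) y = M.obj.map (between h h' U).op y :=
  rfl

@[reassoc]
lemma toStage_toLim {K L : ι} (h : i ≤ K) (h' : K ≤ L) :
    toStage M h h' ≫ toLim c M (h.trans h') = toLim c M h := by
  apply (sheafToPresheaf _ _).map_injective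
  ext U y
  show (toLim c M (h.trans h')).hom.app (op U.unop) ((toStage M h h').hom.app (op U.unop) y) =
    (toLim c M h).hom.app (op U.unop) y
  rw [toStage_app, toLim_app, toLim_app, unitApp_naturality]
  refine (mapMap _ _ _ _).trans ?_
  refine congrArg (fun m => ((pullSys Xs c).obj M).obj.map (Quiver.Hom.op m) _) ?_
  rw [← cancel_mono ((toPt Xs c).map (st h U.unop)), Category.assoc, ← Functor.map_comp, between_st,
    stInv_st, stInv_st]

variable {c} (hc : IsLimit c)

include hc in
theorem exists_rep (U : (Xs.obj (op i)).Etale) [IsAffine U.left]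
    (s : ((EtCoh.push (proj Xs c i)).obj ((pullSys Xs c).obj M)).obj.obj (op U)) :
    ∃ (K : ι) (h : i ≤ K), ∀ (L : ι) (hL : K ≤ L),
      ∃ y, (toLim c M (h.trans hL)).hom.app (op U) y = s := by
  obtain ⟨K, h, y, hy⟩ := exists_lift M hc (a := (incl Xs i).obj U) (qc_of_isAffine ‹IsAffine U.left›) s
  refine ⟨K, h, fun L hL => ⟨(toStage M h hL).hom.app (op U) y, ?_⟩⟩
  refine (ConcreteCategory.congr_hom (congrArg (fun φ => φ.hom.app (op U)) (toStage_toLim c M h hL)) y).trans ?_
  erw [toLim_app, hy]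
  refine (mapMap _ _ _ _).trans ?_
  exact (congrArg (fun m => ((pullSys Xs c).obj M).obj.map (Quiver.Hom.op m) s) (stInv_st c h U)).trans
    (map_one_apply _ _)

include hc in
theorem exists_kill {K : ι} (h : i ≤ K) (U : (Xs.obj (op i)).Etale) [IsAffine U.left]
    (y : ((EtCoh.push (trn Xs h)).obj ((res Xs K).obj M)).obj.obj (op U))
    (hy : (toLim c M h).hom.app (op U) y = 0) :
    ∃ (K' : ι), K ≤ K' ∧ ∀ (L : ι) (hL : K ≤ L), K' ≤ L → (toStage M h hL).hom.app (op U) y = 0 := by
  have hqc : QC ((incl Xs K).obj ((EtCoh.bc (trn Xs h)).obj U)) :=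
    QC.ext (a := (incl Xs i).obj U) (qc_of_isAffine ‹IsAffine U.left›) h
  have h0 : unitApp c M _ y = 0 := by
    have := (congrArg (((pullSys Xs c).obj M).obj.map ((toPt Xs c).map (st h U)).op) hy).trans (map_zero _)
    rw [toLim_app] at this
    refine Eq.trans ?_ this
    refine Eq.trans ?_ (mapMap _ _ _ _).symm
    exact ((congrArg (fun m => ((pullSys Xs c).obj M).obj.map (Quiver.Hom.op m) _) (st_stInv c h U)).trans
      (map_one_apply _ _)).symm
  obtain ⟨K', hK', hz⟩ := exists_zero M hc hqc y h0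
  refine ⟨K', hK', fun L hL hL' => ?_⟩
  obtain ⟨z, hz'⟩ := exists_factor_stage (between h hL U) hK' hL'
  rw [toStage_app, ← hz', ← resM M z, hz, map_zero]
  rfl

include hc in
/-- Factorization of a morphism out of a constructible sheaf through a stage. -/
theorem exists_factor {G : EtCoh.Ab (Xs.obj (op i))} (hG : EtPBC.IsConstructible G)
    (φ₀ : G ⟶ (EtCoh.push (proj Xs c i)).obj ((pullSys Xs c).obj M)) :
    ∃ (K : ι) (h : i ≤ K) (ψ : G ⟶ (EtCoh.push (trn Xs h)).obj ((res Xs K).obj M)),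
      ψ ≫ toLim c M h = φ₀ := by
  classical
  obtain ⟨a, b, U, V, n, m, hn, hm, φ, ⟨e⟩⟩ := exists_presentation hG
  let π := cokernel.π φ ≫ e.inv
  have hφπ : φ ≫ π = 0 := by rw [← Category.assoc, cokernel.condition, zero_comp]
  let A := fun l => EtPBC.extZeroConst (U l) (ZMod (n l))
  let one : ∀ l, (A l).obj.obj (op (U l)) := fun l => constSect (U l) (ZMod (n l)) ⟨1⟩
  have hone : ∀ l, n l • one l = 0 := fun l => by
    show n l • constSect (U l) (ZMod (n l)) ⟨1⟩ = 0
    rw [← map_nsmul]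
    refine (congrArg _ ?_).trans (map_zero _)
    exact ULift.ext _ _ (by simp [ULift.smul_down])
  let s : ∀ l, ((EtCoh.push (proj Xs c i)).obj ((pullSys Xs c).obj M)).obj.obj (op (U l)) := fun l =>
    (biproduct.ι A l ≫ π ≫ φ₀).hom.app (op (U l)) (one l)
  have h1 : ∀ l, ∃ (K : ι), ∀ (L : ι) (hL : i ≤ L), K ≤ L →
      ∃ y, n l • y = 0 ∧ (toLim c M hL).hom.app (op (U l)) y = s l := fun l => by
    have := (hn l).2
    obtain ⟨K, h, hK⟩ := exists_rep M hc (U l) (s l)
    obtain ⟨y, hy⟩ := hK K le_rfl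
    obtain ⟨K', hK', hz⟩ := exists_kill M hc (h.trans le_rfl) (U l) (n l • y) (by
      rw [map_nsmul, hy]
      show n l • (biproduct.ι A l ≫ π ≫ φ₀).hom.app (op (U l)) (one l) = 0
      rw [← map_nsmul, hone, map_zero])
    refine ⟨K', fun L hL hL' => ⟨(toStage M h (hK'.trans hL')).hom.app (op (U l)) y, ?_, ?_⟩⟩
    · rw [← map_nsmul]
      exact hz L _ hL'
    · exact (ConcreteCategory.congr_hom (congrArg (fun χ => χ.hom.app (op (U l)))
        (toStage_toLim c M h (hK'.trans hL'))) y).trans hy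
  choose k hk using h1
  obtain ⟨K₀, hK₀⟩ := Finite.exists_le k
  obtain ⟨K, hiK, hK₀K⟩ := exists_ge_ge i K₀
  choose y hy0 hy using fun l => hk l K hiK ((hK₀ l).trans hK₀K)
  let ψ : (⨁ A) ⟶ (EtCoh.push (trn Xs hiK)).obj ((res Xs K).obj M) :=
    biproduct.desc fun l => constDesc (U l) (ZMod (n l)) (zmodSect (y l) (hy0 l))
  have hψ : ψ ≫ toLim c M hiK = π ≫ φ₀ := biproduct.hom_ext' _ _ fun l => extZeroConst_hom_ext (by
    rw [biproduct.ι_desc_assoc]
    show (toLim c M hiK).hom.app (op (U l)) ((constDesc _ _ _).hom.app (op (U l)) (one l)) = s l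
    rw [constDesc_sect, zmodSect_one]
    exact hy l)
  let B := fun l => EtPBC.extZeroConst (V l) (ZMod (m l))
  let σ : ∀ l, ((EtCoh.push (trn Xs hiK)).obj ((res Xs K).obj M)).obj.obj (op (V l)) := fun l =>
    (biproduct.ι B l ≫ φ ≫ ψ).hom.app (op (V l)) (constSect (V l) (ZMod (m l)) ⟨1⟩)
  have h2 : ∀ l, ∃ K', K ≤ K' ∧ ∀ (L : ι) (hL : K ≤ L), K' ≤ L →
      (toStage M hiK hL).hom.app (op (V l)) (σ l) = 0 := fun l => by
    have := (hm l).2
    refine exists_kill M hc hiK (V l) (σ l) ?_
    show ((biproduct.ι B l ≫ φ ≫ ψ) ≫ toLim c M hiK).hom.app (op (V l)) _ = 0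
    rw [Category.assoc, Category.assoc, hψ, ← Category.assoc φ, hφπ, zero_comp, comp_zero]
    rfl
  choose k' hkk' hk' using h2
  obtain ⟨L₀, hL₀⟩ := Finite.exists_le k'
  obtain ⟨L, hKL, hL₀L⟩ := exists_ge_ge K L₀
  have hz : φ ≫ ψ ≫ toStage M hiK hKL = 0 := biproduct.hom_ext' _ _ fun l => extZeroConst_hom_ext (by
    rw [comp_zero]
    show (toStage M hiK hKL).hom.app (op (V l)) (σ l) = 0
    exact hk' l L hKL ((hL₀ l).trans hL₀L))
  refine ⟨L, hiK.trans hKL, e.hom ≫ cokernel.desc φ (ψ ≫ toStage M hiK hKL) hz, ?_⟩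
  rw [← cancel_epi π]
  simp [π, hψ, toStage_toLim]

end Groth.EtPbc.StageFactor

namespace Groth.EtPbc.StageFactor

open Groth.EtaleBase Groth.EtaleBase.EtLimit Groth.EtaleDeep.Cons

/-- A morphism to the direct image of a constant sheaf along an integral morphism factors through a
finite morphism of finite presentation. -/
theorem exists_finite_factor {X W : Scheme.{u}} [CompactSpace X] [QuasiSeparatedSpace X] (ν : W ⟶ X)
    [IsIntegralHom ν] {F : EtCoh.Ab X} (hF : EtPBC.IsConstructible F) (M : Type) [AddCommGroup M]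
    (g : F ⟶ (EtCoh.push ν).obj (EtCoh.const W M)) :
    ∃ (Y : Scheme.{u}) (f : Y ⟶ X) (_ : IsFinite f) (_ : LocallyOfFinitePresentation f)
      (g₀ : F ⟶ (EtCoh.push f).obj (EtCoh.const Y M))
      (χ : (EtCoh.push f).obj (EtCoh.const Y M) ⟶ (EtCoh.push ν).obj (EtCoh.const W M)), g₀ ≫ χ = g := by
  have : CompactSpace W := QuasiCompact.compactSpace_of_compactSpace ν
  have : QuasiSeparatedSpace W := quasiSeparatedSpace_of_quasiSeparated ν
  obtain ⟨R⟩ := Groth.Limits.exists_relSystem ν
  obtain ⟨I, _, _, _, D, c₀, hc₀, hD, ⟨e⟩⟩ := R.exists_finite_fp_system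
  haveI : IsDirectedOrder I := ‹IsDirected I (fun a b => a ≤ b)›
  let c₁ : Cone D := { pt := Over.mk ν, π := (Functor.const _).map e.inv ≫ c₀.π }
  let hc₁ : IsLimit c₁ := hc₀.ofIsoLimit (Cones.ext e (fun a => by simp [c₁]))
  let Xs : Iᵒᵖ ⥤ Scheme.{u} := D ⋙ Over.forget X
  let c : Cone Xs := (Over.forget X).mapCone c₁
  haveI : IsConnected Iᵒᵖ := IsCofiltered.isConnected _
  have hc : IsLimit c := isLimitOfPreserves (Over.forget X) hc₁
  haveI := fun a : Iᵒᵖ => (hD a).1
  haveI : ∀ (p q : Iᵒᵖ) (h : p ⟶ q), IsAffineHom (Xs.map h) := fun p q h => by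
    have : IsFinite ((D.map h).left ≫ (D.obj q).hom) := by rw [Over.w]; infer_instance
    have : IsFinite (D.map h).left := IsFinite.of_comp _ (D.obj q).hom
    exact inferInstanceAs (IsAffineHom (D.map h).left)
  haveI : ∀ p, CompactSpace ↥(Xs.obj p) := fun p => by
    let fp : Xs.obj p ⟶ X := (D.obj p).hom
    haveI : IsFinite fp := (hD p).1
    exact QuasiCompact.compactSpace_of_compactSpace fp
  haveI : ∀ p, QuasiSeparatedSpace ↥(Xs.obj p) := fun p => by
    let fp : Xs.obj p ⟶ X := (D.obj p).hom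
    haveI : IsFinite fp := (hD p).1
    exact quasiSeparatedSpace_of_quasiSeparated fp
  obtain ⟨i⟩ := ‹Nonempty I›
  let f₀ : Xs.obj (op i) ⟶ X := (D.obj (op i)).hom
  let C₀ := EtCoh.const (Xs.obj (op i)) M
  let S := fromStage i C₀
  let κ : (pullSys Xs c).obj S ≅ EtCoh.const W M :=
    (asIso (fromStageLim i C₀ c)).symm ≪≫ EtCore.pullConst (proj Xs c i) M
  have hw : proj Xs c i ≫ f₀ = ν := Over.w (c₁.π.app (op i))
  let V := (EtCoh.pushComp f₀ (proj Xs c i)).app ((pullSys Xs c).obj S) ≪≫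
    (EtCoh.pushCongr hw).app _ ≪≫ (EtCoh.push ν).mapIso κ
  let h := ((EtCoh.pullPushAdj f₀).homEquiv _ _).symm (g ≫ V.inv)
  obtain ⟨K, hK, ψ, hψ⟩ := exists_factor S hc (isConstructible_pull f₀ hF) h
  have hw' : trn Xs hK ≫ f₀ = (D.obj (op K)).hom := Over.w (D.map (homOfLE hK).op)
  let A := (EtCoh.pushComp f₀ (trn Xs hK)).app ((res Xs K).obj S) ≪≫ (EtCoh.pushCongr hw').app _ ≪≫
    (EtCoh.push (D.obj (op K)).hom).mapIso ((asIso (fromStageHom i C₀ hK)).symm ≪≫
      EtCore.pullConst (trn Xs hK) M)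
  refine ⟨_, (D.obj (op K)).hom, (hD _).1, (hD _).2,
    (EtCoh.pullPushAdj f₀).homEquiv _ _ ψ ≫ A.hom,
    A.inv ≫ (EtCoh.push f₀).map (toLim c S hK) ≫ V.hom, ?_⟩
  refine (Category.assoc _ _ _).trans ((congrArg (_ ≫ ·) (A.hom_inv_id_assoc _)).trans ?_)
  refine (Category.assoc _ _ _).symm.trans ?_
  refine (congrArg (· ≫ V.hom) (((EtCoh.pullPushAdj f₀).homEquiv_naturality_right ψ (toLim c S hK)).symm.trans
    ((congrArg _ hψ).trans (Equiv.apply_symm_apply _ _)))).trans ?_
  exact (Category.assoc _ _ _).trans ((congrArg (g ≫ ·) V.inv_hom_id).trans (Category.comp_id g))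

end Groth.EtPbc.StageFactor
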