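import Groth.Agent.EtPbc.GeomEmbed
import Groth.Agent.EtPbc.StageFactor
import Groth.Agent.EtaleDeep.Cons.PushFinite
import Groth.Agent.FlatMor2.CompletelyDecomposed

/-!
Constructible sheaves embed into finite sums of direct images of finite constant sheaves along finite
morphisms of finite presentation.
-/

set_option autoImplicit false
set_option backward.isDefEq.respectTransparency.types false
set_option linter.style.haveILetI false

universe u

open CategoryTheory CategoryTheory.Limits AlgebraicGeometry Opposite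

namespace Groth.EtPbc.ConsEmbed

open Groth.EtaleBase Groth.EtaleDeep.Cons

theorem injective_of_subsingleton_kernel {X : Scheme.{u}} {F G : EtCoh.Ab X} (φ : F ⟶ G) {Ω : Type u}
    [Field Ω] [IsSepClosed Ω] (ξ : Spec (CommRingCat.of Ω) ⟶ X)
    (h : Subsingleton ((EtCoh.stalk ξ).obj (kernel φ))) : Function.Injective ((EtCoh.stalk ξ).map φ) := by
  have hz : IsZero ((EtCoh.stalk ξ).obj (kernel φ)) := AddCommGrpCat.isZero_of_subsingleton _
  have hz' : IsZero (kernel ((EtCoh.stalk ξ).map φ)) := hz.of_iso (PreservesKernel.iso (EtCoh.stalk ξ) φ).symm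
  have : Mono ((EtCoh.stalk ξ).map φ) := Preadditive.mono_of_kernel_zero (hz'.eq_of_src _ _)
  exact (AddCommGrpCat.mono_iff_injective _).1 this

theorem subsingleton_kernel_of_injective {X : Scheme.{u}} {F G : EtCoh.Ab X} (φ : F ⟶ G) {Ω : Type u}
    [Field Ω] [IsSepClosed Ω] (ξ : Spec (CommRingCat.of Ω) ⟶ X)
    (h : Function.Injective ((EtCoh.stalk ξ).map φ)) : Subsingleton ((EtCoh.stalk ξ).obj (kernel φ)) := by
  have hk : Mono ((EtCoh.stalk ξ).map (kernel.ι φ)) := inferInstance
  refine ⟨fun a b => (AddCommGrpCat.mono_iff_injective _).1 hk (h ?_)⟩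
  have h0 : ∀ z, (EtCoh.stalk ξ).map φ ((EtCoh.stalk ξ).map (kernel.ι φ) z) = 0 := fun z => by
    rw [← ConcreteCategory.comp_apply, ← Functor.map_comp, kernel.condition, Functor.map_zero]
    rfl
  rw [h0, h0]

/-- A finite morphism of finite presentation and a morphism to the direct image of a finite constant
sheaf, with constructible kernel having trivial stalk at a given point. -/
theorem exists_at {X : Scheme.{u}} [CompactSpace X] [QuasiSeparatedSpace X] {F : EtCoh.Ab X}
    (hF : EtPBC.IsConstructible F) (x : X) :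
    ∃ (Y : Scheme.{u}) (f : Y ⟶ X) (_ : IsFinite f) (_ : LocallyOfFinitePresentation f) (M : Type)
      (_ : AddCommGroup M) (_ : Finite M) (g : F ⟶ (EtCoh.push f).obj (EtCoh.const Y M)),
      EtPBC.IsConstructible (kernel g) ∧ Subsingleton ((EtCoh.stalk (geomPoint x)).obj (kernel g)) := by
  obtain ⟨W, ν, _, M, _, hM, g, Ω, _, _, ξ, hξ, hg⟩ := GeomEmbed.exists_injective_at hF x
  obtain ⟨Y, f, hf, hf', g₀, χ, hgχ⟩ := StageFactor.exists_finite_factor ν hF M g
  have hK : EtPBC.IsConstructible (kernel g₀) := isConstructible_kernel g₀ hF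
    (isConstructible_push f (isConstructible_of_isFLC (isFLC_constantSheaf Y M)))
  have h₀ : Function.Injective ((EtCoh.stalk ξ).map g₀) := fun a b hab => by
    refine hg ?_
    rw [← hgχ, Functor.map_comp, ConcreteCategory.comp_apply, ConcreteCategory.comp_apply, hab]
  have := subsingleton_kernel_of_injective g₀ ξ h₀
  obtain ⟨N, _, hN, hst⟩ := exists_stalk_equiv hK x
  obtain ⟨e₁⟩ := hst Ω ξ hξ
  obtain ⟨e₂⟩ := hst _ (geomPoint x) (geomPoint_apply x default)
  exact ⟨Y, f, hf, hf', M, inferInstance, hM, g₀, hK, (e₂.symm.trans e₁).toEquiv.subsingleton⟩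

/-- Constructible sheaves embed into finite sums of direct images of finite constant sheaves. -/
theorem exists_embedding {X : Scheme.{u}} [CompactSpace X] [QuasiSeparatedSpace X] {F : EtCoh.Ab X}
    (hF : EtPBC.IsConstructible F) :
    ∃ (n : ℕ) (Y : Fin n → Scheme.{u}) (f : ∀ i, Y i ⟶ X) (_ : ∀ i, IsFinite (f i))
      (_ : ∀ i, LocallyOfFinitePresentation (f i))
      (M : Fin n → Type) (_ : ∀ i, AddCommGroup (M i)) (_ : ∀ i, Finite (M i))
      (ι : F ⟶ ⨁ fun i => (EtCoh.push (f i)).obj (EtCoh.const (Y i) (M i))), Mono ι := by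
  classical
  choose Y f hf hf' M hMg hM g hK hx using fun x => exists_at hF x
  let E : X → Set X := fun x => {y | Subsingleton ((EtCoh.stalk (geomPoint y)).obj (kernel (g x)))}
  have hE : ∀ x, Topology.IsConstructible (E x) := fun x =>
    (isLocallyConstructible_stalk (hK x) (fun A => Subsingleton A)
      (fun A B e _ => e.addCommGroupIsoToAddEquiv.symm.toEquiv.subsingleton)).isConstructible
  obtain ⟨t, ht⟩ := Groth.FlatMor2.exists_finite_subcover_constructible E hE fun y => ⟨y, hx y⟩
  let p : Fin t.card → X := fun i => (t.equivFin.symm i).1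
  letI := fun i => hMg (p i)
  let P := fun i => (EtCoh.push (f (p i))).obj (EtCoh.const (Y (p i)) (M (p i)))
  let ι : F ⟶ ⨁ P := biproduct.lift fun i => g (p i)
  refine ⟨t.card, fun i => Y (p i), fun i => f (p i), fun i => hf _, fun i => hf' _, fun i => M (p i),
    fun i => hMg (p i), fun i => hM _, ι, ?_⟩
  refine mono_of_stalk_injective _ fun y => ?_
  obtain ⟨w, hw, hyw⟩ := ht y
  let i := t.equivFin ⟨w, hw⟩
  have hp : p i = w := by simp [p, i]
  have hinj := injective_of_subsingleton_kernel (g (p i)) (geomPoint y) (by rw [hp]; exact hyw)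
  intro a b hab
  refine hinj ?_
  have e : g (p i) = ι ≫ biproduct.π P i := (biproduct.lift_π (fun i => g (p i)) i).symm
  rw [e, Functor.map_comp, ConcreteCategory.comp_apply, ConcreteCategory.comp_apply]
  exact congrArg _ hab

end Groth.EtPbc.ConsEmbed
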