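import Groth.Agent.EtPbc.AICVanish
import Groth.Agent.EtPbc.ConsEmbed
import Groth.Agent.EtPbc.Torsion
import Groth.Agent.EtaleBase.BaseChange0
import Groth.Agent.EtaleBase.Limit.CohDimLimit
import Groth.Agent.EtaleDeep.Cons.TorsionColimit
import Groth.Agent.FlatMor2.ColimCoh.Etale
import Groth.Agent.LocImm.AICCover

/-!
# Effacing cohomology classes on a closed subscheme of an affine scheme
-/

set_option autoImplicit false
set_option linter.style.haveILetI false

universe u

open CategoryTheory CategoryTheory.Limits CategoryTheory.Abelian AlgebraicGeometry Opposite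

namespace Groth.EtPbc.ClosedEfface

open Groth.EtaleBase Groth.EtPbc.ConstRestr

attribute [local instance] pull_preservesFiniteLimits

/-- On an affine scheme with absolutely integrally closed ring of functions finite constant sheaves
have no higher cohomology. -/
theorem subsingleton_H_const {X : Scheme.{u}} [IsAffine X] (hA : Curves.IsAIC Γ(X, ⊤))
    (M : Type) [AddCommGroup M] [Finite M] (n : ℕ) :
    Subsingleton (EtCoh.H X (EtCoh.const X M) (n + 1)) := by
  let R : Type u := Γ(X, ⊤)
  let e : Spec (CommRingCat.of R) ⟶ X := X.isoSpec.inv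
  haveI : IsIso e := X.isoSpec.isIso_inv
  have hs := AICVanish.subsingleton_H_finite (A := R) hA n (Nat.card M) M le_rfl
  refine ⟨fun a b => (InjCoh.Hpull_bijective_univHomeo e _ (n + 1)).1 ?_⟩
  refine ((EtCoh.HF (Spec (CommRingCat.of R)) (n + 1)).mapIso
    (EtCore.pullConst e M)).addCommGroupIsoToAddEquiv.injective ?_
  exact @Subsingleton.elim _ hs _ _

/-- Cohomology vanishing of a finite sum. -/
lemma subsingleton_H_sum {X Z : Scheme.{u}} (L : EtCoh.Ab X ⥤ EtCoh.Ab Z) [L.Additive] {m : ℕ}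
    (G : Fin m → EtCoh.Ab X) (q : ℕ) (h : ∀ k, Subsingleton (EtCoh.H Z (L.obj (G k)) q)) :
    Subsingleton (EtCoh.H Z (L.obj (⨁ G)) q) := by
  suffices ∀ x : EtCoh.H Z (L.obj (⨁ G)) q, x = 0 from ⟨fun a b => (this a).trans (this b).symm⟩
  intro x
  have e : L.map (∑ k, biproduct.π G k ≫ biproduct.ι G k) = 𝟙 _ := by
    rw [biproduct.total, CategoryTheory.Functor.map_id]
  rw [Functor.map_sum] at e
  rw [← Ext.comp_mk₀_id x, ← e, Ext.mk₀_sum, Ext.comp_sum]
  refine Finset.sum_eq_zero fun k _ => ?_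
  rw [Functor.map_comp, ← Ext.mk₀_comp_mk₀, ← Ext.comp_assoc_of_third_deg_zero,
    @Subsingleton.elim _ (h k) (Ext.comp x (Ext.mk₀ (L.map (biproduct.π G k))) (add_zero q)) 0]
  exact Ext.zero_comp _ _ _ _ _

variable {X Z : Scheme.{u}} (i : Z ⟶ X) [IsClosedImmersion i]

/-- Vanishing on a closed subscheme of the direct image of a constant sheaf from an affine scheme with
absolutely integrally closed functions. -/
theorem subsingleton_H_pull_push {Y : Scheme.{u}} (g : Y ⟶ X) [IsIntegralHom g] [IsAffine Y]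
    (hY : Curves.IsAIC Γ(Y, ⊤)) (M : Type) [AddCommGroup M] [Finite M] (n : ℕ) :
    Subsingleton (EtCoh.H Z ((EtCoh.pull i).obj ((EtCoh.push g).obj (EtCoh.const Y M))) (n + 1)) := by
  let sq := IsPullback.of_hasPullback g i
  let g' : pullback g i ⟶ Z := pullback.snd g i
  let i' : pullback g i ⟶ Y := pullback.fst g i
  haveI : IsClosedImmersion i' := MorphismProperty.pullback_fst _ _ inferInstance
  haveI : IsIntegralHom g' := MorphismProperty.pullback_snd _ _ inferInstance
  haveI : IsAffine (pullback g i) := isAffine_of_isAffineHom i'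
  haveI : IsIso (EtCoh.baseChange0 g i g' i' sq.w (EtCoh.const Y M)) :=
    isIso_baseChange0 g i g' i' sq (EtCoh.const Y M)
  have hZ' : Curves.IsAIC Γ(pullback g i, ⊤) :=
    AICVanish.isAIC_of_surjective hY i'.appTop.hom (IsClosedImmersion.isAffine_surjective_of_isAffine i').2
  have hs := subsingleton_H_const hZ' M n
  have hb := InjCoh.HofPush_bijective g' ((EtCoh.pull i').obj (EtCoh.const Y M))
    (fun k hk => isZero_Rpush g' _ k hk) (n + 1)
  refine ⟨fun a b => ?_⟩
  refine ((EtCoh.HF Z (n + 1)).mapIso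
    (asIso (EtCoh.baseChange0 g i g' i' sq.w (EtCoh.const Y M)))).addCommGroupIsoToAddEquiv.injective ?_
  refine hb.1 ?_
  refine ((EtCoh.HF (pullback g i) (n + 1)).mapIso
    (EtCore.pullConst i' M)).addCommGroupIsoToAddEquiv.injective ?_
  exact @Subsingleton.elim _ hs _ _

/-- The constant sheaf embeds into the direct image along a surjection. -/
lemma mono_rpush {Y Y' : Scheme.{u}} (π : Y' ⟶ Y) [Surjective π] (M : Type) [AddCommGroup M] :
    Mono (rpush M π) := by
  refine mono_of_exists_stalk_injective _ fun y => ?_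
  obtain ⟨z, hz⟩ := π.surjective y
  refine ⟨_, _, inferInstance, geomPoint z ≫ π, ?_, ?_⟩
  · rw [Scheme.Hom.comp_apply, geomPoint_apply, hz]
  · have h1 : Mono ((EtCoh.pull π).map (rpush M π)) :=
      @mono_of_mono_fac _ _ _ _ _ _ _ _ inferInstance (pull_rpush_counit M π)
    have h2 : Mono ((EtCoh.pull π ⋙ EtCoh.stalk (geomPoint z)).map (rpush M π)) :=
      inferInstanceAs (Mono ((EtCoh.stalk (geomPoint z)).map ((EtCoh.pull π).map (rpush M π))))
    have h3 : Mono ((EtCoh.stalk (geomPoint z ≫ π)).map (rpush M π)) := by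
      rw [← NatIso.naturality_2 (stalkPullIso π (geomPoint z)) (rpush M π)]
      infer_instance
    exact (AddCommGrpCat.mono_iff_injective _).1 h3

/-- Finite constant sheaves are torsion. -/
lemma isTorsion_const {Y : Scheme.{u}} (M : Type) [AddCommGroup M] [Finite M] :
    EtCoh.IsTorsion (EtCoh.const Y M) :=
  Torsion.isTorsion_of_stalks fun x => by
    obtain ⟨t, -⟩ := exists_fiber_of_point (geomPoint x) (EtCoh.top Y) x (geomPoint_apply _ _).symm
    intro a
    obtain ⟨m, rfl⟩ := (LocConst.exists_stalkBij_const (EtCoh.top Y) (ULift.{u + 1} M) _ _ _ (geomPoint x) t).2 a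
    let σ : ULift.{u + 1} M →+ (EtCoh.const Y M).obj.obj (op (EtCoh.top Y)) :=
      ((CategoryTheory.toSheafify Y.smallEtaleTopology
        ((Functor.const Y.Etaleᵒᵖ).obj (AddCommGrpCat.of (ULift.{u + 1} M)))).app (op (EtCoh.top Y))).hom
    exact ((germ (geomPoint x) (EtCoh.const Y M) (EtCoh.top Y) t).hom.comp σ).isOfFinAddOrder
      (isOfFinAddOrder_of_finite (G := ULift.{u + 1} M) m)

/-- Constructible sheaves embed into torsion sheaves acyclic on every closed subscheme. -/
theorem exists_acyclic_embedding [IsAffine X] {C : EtCoh.Ab X} (hC : EtPBC.IsConstructible C) :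
    ∃ (G : EtCoh.Ab X) (m : C ⟶ G), Mono m ∧ EtCoh.IsTorsion G ∧
      ∀ (n : ℕ), Subsingleton (EtCoh.H Z ((EtCoh.pull i).obj G) (n + 1)) := by
  obtain ⟨k, Y, f, hf, -, M, hMg, hM, ι, hι⟩ := ConsEmbed.exists_embedding hC
  haveI : ∀ j, IsAffine (Y j) := fun j => isAffine_of_isAffineHom (f j)
  let Y' := fun j => Groth.LocImmersion.AICCover.cover (Y j)
  let π : ∀ j, Y' j ⟶ Y j := fun j => Groth.LocImmersion.AICCover.π (Y j)
  haveI : ∀ j, IsAffine (Y' j) := fun j => isAffine_of_isAffineHom (π j)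
  have hAIC : ∀ j, Curves.IsAIC Γ(Y' j, ⊤) := fun j => by
    let hU := isAffineOpen_top (Y j)
    let c := Groth.LocImmersion.AICCover.ι hU
    have hr : c.opensRange = ⊤ := by
      rw [← Groth.LocImmersion.AICCover.π_preimage hU]; rfl
    haveI : IsIso c := isIso_of_isOpenImmersion_of_opensRange_eq_top c hr
    haveI : IsIso c.appTop := inferInstanceAs (IsIso (Scheme.Γ.map c.op))
    refine AICVanish.isAIC_of_surjective (A := (Groth.LocImmersion.AICCover.A (Y j) ⊤))
      (fun P hP hd => Groth.LocImmersion.AICCover.exists_root P hP hd.ne')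
      ((Scheme.ΓSpecIso _).inv ≫ inv c.appTop).hom ?_
    exact (ConcreteCategory.bijective_of_isIso ((Scheme.ΓSpecIso _).inv ≫ inv c.appTop)).2
  let P := fun j => (EtCoh.push (π j ≫ f j)).obj (EtCoh.const (Y' j) (M j))
  let τ : ∀ j, (EtCoh.push (f j)).obj (EtCoh.const (Y j) (M j)) ⟶ P j := fun j => trans (M j) (π j) (f j)
  haveI : ∀ j, Mono (τ j) := fun j => by
    haveI := mono_rpush (π j) (M j)
    haveI : (EtCoh.push (f j)).PreservesMonomorphisms :=
      Functor.preservesMonomorphisms_of_adjunction (EtCoh.pullPushAdj (f j))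
    show Mono ((EtCoh.push (f j)).map (rpush (M j) (π j)) ≫ _)
    infer_instance
  haveI := hι
  refine ⟨⨁ P, ι ≫ biproduct.map τ, inferInstance, ?_, fun n => ?_⟩
  · refine Torsion.isTorsion_of_stalks fun x a => ?_
    have hP : ∀ j, IsAddTorsion ((EtCoh.stalk (geomPoint x)).obj (P j)) := fun j =>
      Torsion.isAddTorsion_stalk (EtLimit.isTorsion_push _ (isTorsion_const (M j))) _
    have e : (EtCoh.stalk (geomPoint x)).map (∑ j, biproduct.π P j ≫ biproduct.ι P j) = 𝟙 _ := by
      rw [biproduct.total, CategoryTheory.Functor.map_id]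
    rw [Functor.map_sum] at e
    let ev : ((EtCoh.stalk (geomPoint x)).obj (⨁ P) ⟶ (EtCoh.stalk (geomPoint x)).obj (⨁ P)) →+
        (EtCoh.stalk (geomPoint x)).obj (⨁ P) := AddMonoidHom.mk' (fun h => h a) fun _ _ => rfl
    have ea : ∑ j, (EtCoh.stalk (geomPoint x)).map (biproduct.π P j ≫ biproduct.ι P j) a = a :=
      (map_sum ev _ _).symm.trans (congrArg ev e)
    rw [← ea]
    refine Finset.sum_induction _ IsOfFinAddOrder (fun a b ha hb => (AddCommute.all a b).isOfFinAddOrder_add ha hb)
      IsOfFinAddOrder.zero fun j _ => ?_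
    rw [Functor.map_comp, ConcreteCategory.comp_apply]
    exact AddMonoidHom.isOfFinAddOrder _ (hP j _)
  · exact subsingleton_H_sum (EtCoh.pull i) P (n + 1) fun j =>
      subsingleton_H_pull_push i (π j ≫ f j) (hAIC j) (M j) n

/-- Classes in positive degree on a closed subscheme are effaced by injective maps of torsion sheaves. -/
theorem exists_efface [IsAffine X] (F : EtCoh.Ab X) (hF : EtCoh.IsTorsion F) (n : ℕ)
    (ξ : EtCoh.H Z ((EtCoh.pull i).obj F) (n + 1)) :
    ∃ (F' : EtCoh.Ab X) (_ : EtCoh.IsTorsion F') (φ : F ⟶ F') (_ : Mono φ),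
      (EtCoh.HF Z (n + 1)).map ((EtCoh.pull i).map φ) ξ = 0 := by
  obtain ⟨hcol⟩ := Groth.EtaleDeep.Cons.nonempty_isColimit_presCocone hF
  haveI : PreservesColimitsOfSize.{u + 1, u + 1} (EtCoh.pull i) :=
    (EtCoh.pullPushAdj i).leftAdjoint_preservesColimits
  haveI : CompactSpace Z := QuasiCompact.compactSpace_of_compactSpace i
  haveI : QuasiSeparatedSpace Z := by
    haveI := isAffine_of_isAffineHom i
    infer_instance
  haveI := Groth.FlatMor2.ColimCoh.Etale.preservesColimitsOfShape_HF Z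
    (Groth.EtaleDeep.Cons.PresCat F) (n + 1)
  obtain ⟨P, η, hη⟩ := Types.jointly_surjective _
    (isColimitOfPreserves (EtCoh.pull i ⋙ EtCoh.HF Z (n + 1) ⋙ CategoryTheory.forget AddCommGrpCat.{u + 1}) hcol) ξ
  change (EtCoh.HF Z (n + 1)).map ((EtCoh.pull i).map
    ((Groth.EtaleDeep.Cons.presCocone F).ι.app P)) η = ξ at hη
  let C := (Groth.EtaleDeep.Cons.presDiag F).obj P
  let f : C ⟶ F := (Groth.EtaleDeep.Cons.presCocone F).ι.app P
  obtain ⟨G, m, hm, hGt, hG⟩ :=
    exists_acyclic_embedding i (Groth.EtaleDeep.Cons.isConstructible_presDiag P)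
  haveI := hm
  refine ⟨pushout m f, ?_, pushout.inr m f, inferInstance, ?_⟩
  · refine Torsion.isTorsion_of_stalks fun x a => ?_
    let S := EtCoh.stalk (geomPoint x)
    let d : G ⊞ F ⟶ pushout m f := biprod.desc (pushout.inl m f) (pushout.inr m f)
    haveI : Epi d := ⟨fun p q h => pushout.hom_ext
      (by simpa [d] using congrArg (biprod.inl ≫ ·) h) (by simpa [d] using congrArg (biprod.inr ≫ ·) h)⟩
    haveI : Epi (S.map d) := inferInstance
    obtain ⟨b, rfl⟩ := (AddCommGrpCat.epi_iff_surjective _).1 ‹Epi (S.map d)› a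
    have hd : d = biprod.fst ≫ pushout.inl m f + biprod.snd ≫ pushout.inr m f := biprod.desc_eq
    rw [hd, Functor.map_add, AddCommGrpCat.hom_add_apply, Functor.map_comp, Functor.map_comp,
      ConcreteCategory.comp_apply, ConcreteCategory.comp_apply]
    exact (AddCommute.all _ _).isOfFinAddOrder_add
      (AddMonoidHom.isOfFinAddOrder _ (Torsion.isAddTorsion_stalk hGt (geomPoint x) _))
      (AddMonoidHom.isOfFinAddOrder _ (Torsion.isAddTorsion_stalk hF (geomPoint x) _))
  · let L := EtCoh.pull i ⋙ EtCoh.HF Z (n + 1)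
    let η' : L.obj C := η
    have hη' : L.map f η' = ξ := hη
    show L.map (pushout.inr m f) ξ = 0
    have hz : L.map m η' = 0 := @Subsingleton.elim _ (hG n) _ _
    rw [← hη', ← ConcreteCategory.comp_apply, ← Functor.map_comp,
      show f ≫ pushout.inr m f = m ≫ pushout.inl m f from pushout.condition.symm, Functor.map_comp,
      ConcreteCategory.comp_apply, hz, map_zero]

end Groth.EtPbc.ClosedEfface
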