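import Groth.Agent.EtaleBase.ExtZeroProps
import Groth.Agent.EtaleBase.PushEssImage
import Groth.Agent.EtaleDeep.Cons.Ab
import Groth.Agent.EtaleDeep.Cons.PullLC
import Groth.Agent.EtPbc.SuppColim
import Mathlib.Data.Fin.Tuple.Sort

/-!
# Filtrations of constructible sheaves by extensions by zero
-/

set_option autoImplicit false
set_option backward.isDefEq.respectTransparency.types false
set_option linter.style.haveILetI false

universe u

open CategoryTheory CategoryTheory.Limits AlgebraicGeometry Opposite TopologicalSpace Topology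

namespace Groth.EtPbc.ConsFiltration

open Groth.EtaleBase Groth.EtaleBase.LocConst Groth.EtaleBase.SitePt Groth.EtaleDeep.Cons

variable {X : Scheme.{u}}

/-- A constructible stratification is refined by a finite increasing chain of quasi-compact opens. -/
theorem exists_chain [CompactSpace X] [QuasiSeparatedSpace X] {Q : ∀ ⦃T : Scheme.{u}⦄, (T ⟶ X) → Prop}
    (hQ : Stable Q) (hA : Adapted Q (Set.univ : Set X)) :
    ∃ (n : ℕ) (U : ℕ → X.Opens), U 0 = ⊥ ∧ U n = ⊤ ∧ (∀ k, U k ≤ U (k + 1)) ∧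
      ∀ k < n, IsConstructible ((U (k + 1) : Set X) \ U k) ∧ Piece Q ((U (k + 1) : Set X) \ U k) := by
  classical
  obtain ⟨N, T, g, hg, hc, hd, hu, hQg⟩ := hA
  have hC : ∀ i, IsConstructible (Set.range (g i)) := fun i => by
    have := (hc i).image_of_isOpenEmbedding (f := (Subtype.val : ↥(Set.univ : Set X) → X))
      isOpen_univ.isOpenEmbedding_subtypeVal (by rw [Subtype.range_coe]; exact IsRetrocompact.univ)
    rwa [Set.image_preimage_eq_of_subset (by rw [Subtype.range_coe]; exact Set.subset_univ _)] at this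
  choose 𝒱 h𝒱 h𝒱' using fun i => exists_finset_pattern (hC i)
  let 𝒰 := Finset.univ.biUnion 𝒱
  have h𝒰 : ∀ O ∈ 𝒰, IsOpen O ∧ IsRetrocompact O := fun O hO => by
    obtain ⟨i, -, hi⟩ := Finset.mem_biUnion.1 hO
    exact h𝒱 i O hi
  let pat : X → Finset (Set X) := fun x => 𝒰.filter (x ∈ ·)
  let P := {p ∈ 𝒰.powerset | ∃ x, pat x = p}
  let f : Fin P.card → Finset (Set X) := fun j => (P.equivFin.symm j).1
  let σ := Tuple.sort fun j => OrderDual.toDual (f j).card
  let p : Fin P.card → Finset (Set X) := f ∘ σ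
  have hsort : ∀ i j, i ≤ j → (p j).card ≤ (p i).card := fun i j h =>
    OrderDual.toDual_le_toDual.1 (Tuple.monotone_sort (fun j => OrderDual.toDual (f j).card) h)
  have hpP : ∀ j, p j ∈ P := fun j => (P.equivFin.symm (σ j)).2
  have hsurj : ∀ x, ∃ j, p j = pat x := fun x => by
    have hx : pat x ∈ P := Finset.mem_filter.2 ⟨Finset.mem_powerset.2 (Finset.filter_subset _ _), x, rfl⟩
    exact ⟨σ.symm (P.equivFin ⟨_, hx⟩), by simp [p, f]⟩
  let Ops : Fin P.card → X.Opens := fun j => ⟨⋂ O ∈ p j, O, isOpen_biInter_finset fun O hO =>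
    (h𝒰 O (Finset.mem_powerset.1 (Finset.mem_filter.1 (hpP j)).1 hO)).1⟩
  have hOps : ∀ j, IsConstructible (Ops j : Set X) := fun j =>
    IsConstructible.biInter (Finset.finite_toSet _) fun O hO =>
      (h𝒰 O (Finset.mem_powerset.1 (Finset.mem_filter.1 (hpP j)).1 hO)).2.isConstructible
        (h𝒰 O (Finset.mem_powerset.1 (Finset.mem_filter.1 (hpP j)).1 hO)).1
  let U : ℕ → X.Opens := fun k => ⨆ j : {j : Fin P.card // j.1 < k}, Ops j.1
  have hmem : ∀ (k : ℕ) (x : X), x ∈ U k ↔ ∃ j : Fin P.card, j.1 < k ∧ x ∈ Ops j := fun k x => by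
    simp [U]
  refine ⟨P.card, U, ?_, ?_, ?_, fun k hk => ?_⟩
  · refine SetLike.coe_injective (Set.eq_empty_iff_forall_notMem.2 fun x hx => ?_)
    obtain ⟨j, hj, -⟩ := (hmem 0 x).1 hx
    exact Nat.not_lt_zero _ hj
  · refine SetLike.coe_injective (Set.eq_univ_of_forall fun x => ?_)
    obtain ⟨j, hj⟩ := hsurj x
    refine (hmem _ x).2 ⟨j, j.2, Set.mem_iInter₂.2 fun O hO => ?_⟩
    rw [hj] at hO
    exact (Finset.mem_filter.1 hO).2
  · intro k x hx
    obtain ⟨j, hj, hx⟩ := (hmem _ x).1 hx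
    exact (hmem _ x).2 ⟨j, hj.trans (Nat.lt_succ_self k), hx⟩
  have hUc : ∀ k, IsConstructible (U k : Set X) := fun k => by
    rw [show (U k : Set X) = ⋃ j : {j : Fin P.card // j.1 < k}, (Ops j.1 : Set X) by simp [U]]
    exact IsConstructible.iUnion fun j => hOps _
  have hconst : ∀ x ∈ (U (k + 1) : Set X) \ U k, pat x = p ⟨k, hk⟩ := fun x hx => by
    obtain ⟨j, hj, hxj⟩ := (hmem _ x).1 hx.1
    obtain rfl : j = ⟨k, hk⟩ := Fin.ext ((Nat.lt_succ_iff.1 hj).antisymm
      (not_lt.1 fun h => hx.2 ((hmem _ x).2 ⟨j, h, hxj⟩)))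
    have hle : p ⟨k, hk⟩ ⊆ pat x := fun O hO => Finset.mem_filter.2
      ⟨Finset.mem_powerset.1 (Finset.mem_filter.1 (hpP _)).1 hO, Set.mem_iInter₂.1 hxj O hO⟩
    refine (Finset.eq_of_subset_of_card_le hle ?_).symm
    obtain ⟨i, hi⟩ := hsurj x
    have hki : k ≤ i.1 := not_lt.1 fun h => hx.2 ((hmem _ x).2 ⟨i, h, Set.mem_iInter₂.2 fun O hO => by
      rw [hi] at hO
      exact (Finset.mem_filter.1 hO).2⟩)
    rw [← hi]
    exact hsort _ _ hki
  refine ⟨(hUc _).sdiff (hUc _), ?_⟩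
  obtain ⟨x₀, hx₀⟩ := (Finset.mem_filter.1 (hpP ⟨k, hk⟩)).2
  obtain ⟨i, hi⟩ := Set.mem_iUnion.1 (hu.ge (Set.mem_univ x₀))
  refine Piece.restrict hQ ⟨T i, g i, hg i, rfl, hQg i⟩
    ((U (k + 1)).2.isLocallyClosed.inter (U k).2.isClosed_compl.isLocallyClosed) fun x hx => ?_
  refine (h𝒱' i x₀ x fun O hO => ?_).1 hi
  have hO' : O ∈ 𝒰 := Finset.mem_biUnion.2 ⟨i, Finset.mem_univ i, hO⟩
  have e1 := hx₀.trans (hconst x hx).symm
  exact ⟨fun h => (Finset.mem_filter.1 (e1 ▸ Finset.mem_filter.2 ⟨hO', h⟩ : O ∈ pat x)).2,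
    fun h => (Finset.mem_filter.1 (e1.symm ▸ Finset.mem_filter.2 ⟨hO', h⟩ : O ∈ pat x₀)).2⟩

/-- A morphism inverted by all stalks over the image is inverted by inverse image. -/
theorem isIso_pull_map {T : Scheme.{u}} (g : T ⟶ X) {F G : EtCoh.Ab X} (φ : F ⟶ G)
    (h : ∀ t : T, IsIso ((EtCoh.stalk (geomPoint t ≫ g)).map φ)) : IsIso ((EtCoh.pull g).map φ) := by
  have hs : ∀ t : T, IsIso ((stalkAt t).map ((EtCoh.pull g).map φ)) := fun t =>
    (NatIso.isIso_map_iff (stalkPullIso g (geomPoint t)) φ).1 (h t)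
  exact stalkAt_jointlyReflectIsomorphisms.isIso _

/-- A sheaf with vanishing stalks vanishes. -/
theorem isZero_of_stalk {F : EtCoh.Ab X} (h : ∀ x : X, IsZero ((EtCoh.stalk (geomPoint x)).obj F)) :
    IsZero F := by
  rw [IsZero.iff_id_eq_zero]
  exact stalkAt_jointlyReflectIsomorphisms.jointlyFaithful.map_injective fun x => (h x).eq_of_src _ _

section

variable (F : EtCoh.Ab X) (U : X.Opens)

/-- The extension by zero of the restriction to an open. -/
noncomputable abbrev part : EtCoh.Ab X := (EtShriek.extZero U.ι).obj ((EtShriek.restrAlong U.ι).obj F)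

/-- Its map to the sheaf. -/
noncomputable abbrev partMap : part F U ⟶ F := (EtShriek.extZeroAdj U.ι).counit.app F

theorem isIso_stalk_partMap {Ω : Type u} [Field Ω] [IsSepClosed Ω] (ξ : Spec (CommRingCat.of Ω) ⟶ X)
    (h : ξ.base default ∈ U) : IsIso ((EtCoh.stalk ξ).map (partMap F U)) :=
  isIso_stalk_extZero_counit U.ι ξ (by rw [Scheme.Opens.range_ι]; exact h) F

theorem isZero_stalk_part {Ω : Type u} [Field Ω] [IsSepClosed Ω] (ξ : Spec (CommRingCat.of Ω) ⟶ X)
    (h : ξ.base default ∉ U) : IsZero ((EtCoh.stalk ξ).obj (part F U)) :=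
  isZero_stalk_extZero U.ι ξ (by rw [Scheme.Opens.range_ι]; exact h) _

theorem mono_partMap : Mono (partMap F U) :=
  mono_of_stalk_injective _ fun x => by
    by_cases hx : x ∈ U
    · have := isIso_stalk_partMap F U (geomPoint x) (by rwa [geomPoint_apply])
      exact ((ConcreteCategory.isIso_iff_bijective _).1 this).1
    · intro a b _
      exact (AddCommGrpCat.subsingleton_of_isZero
        (isZero_stalk_part F U (geomPoint x) (by rwa [geomPoint_apply]))).elim a b

theorem exists_inclusion {U' : X.Opens} (h : U ≤ U') :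
    ∃ ι : part F U ⟶ part F U', ι ≫ partMap F U' = partMap F U := by
  haveI := mono_partMap F U'
  have h0 : partMap F U ≫ cokernel.π (partMap F U') = 0 := by
    refine stalkAt_jointlyReflectIsomorphisms.jointlyFaithful.map_injective fun x => ?_
    by_cases hx : x ∈ U
    · have := isIso_stalk_partMap F U' (geomPoint x) (by rw [geomPoint_apply]; exact h hx)
      have hπ : (EtCoh.stalk (geomPoint x)).map (cokernel.π (partMap F U')) = 0 := by
        rw [← cancel_epi ((EtCoh.stalk (geomPoint x)).map (partMap F U')), ← Functor.map_comp,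
          cokernel.condition, Functor.map_zero, comp_zero]
      show (EtCoh.stalk (geomPoint x)).map _ = (EtCoh.stalk (geomPoint x)).map 0
      rw [Functor.map_comp, hπ, comp_zero, Functor.map_zero]
    · exact (isZero_stalk_part F U (geomPoint x) (by rwa [geomPoint_apply])).eq_of_src _ _
  exact ⟨_, (Abelian.monoIsKernelOfCokernel _ (colimit.isColimit _)).fac
    (KernelFork.ofι (partMap F U) h0) WalkingParallelPair.zero⟩

end

/-- The quotient of two successive parts. -/
theorem exists_quotient (F : EtCoh.Ab X) {U U' : X.Opens} (hle : U ≤ U') (ι : part F U ⟶ part F U')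
    (hι : ι ≫ partMap F U' = partMap F U) {T : Scheme.{u}} (g : T ⟶ X) [IsImmersion g]
    (hr : Set.range g.base = (U' : Set X) \ U)
    (hF : EtCoh.IsFiniteLocallyConstant ((EtCoh.pull g).obj F)) :
    ∃ (c : T ⟶ U'.toScheme) (_ : IsClosedImmersion c) (G : EtCoh.Ab T)
      (π : part F U' ⟶ (EtShriek.extZero U'.ι).obj ((EtCoh.push c).obj G)) (hz : ι ≫ π = 0),
      c ≫ U'.ι = g ∧ EtCoh.IsFiniteLocallyConstant G ∧ (ShortComplex.mk ι π hz).ShortExact := by
  let c : T ⟶ U'.toScheme := IsOpenImmersion.lift U'.ι g (by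
    rw [Scheme.Opens.range_ι, hr]
    exact Set.sdiff_subset)
  have hc : c ≫ U'.ι = g := IsOpenImmersion.lift_fac _ _ _
  haveI : IsImmersion (c ≫ U'.ι) := hc.symm ▸ inferInstance
  haveI : IsImmersion c := IsImmersion.of_comp c U'.ι
  have hcr : Set.range c.base = (U'.ι.base ⁻¹' (U : Set X))ᶜ := by
    ext y
    refine ⟨?_, fun hy => ?_⟩
    · rintro ⟨t, rfl⟩ ht
      have h1 : g.base t ∈ (U' : Set X) \ U := hr ▸ ⟨t, rfl⟩
      rw [← hc, Scheme.Hom.comp_apply] at h1
      exact h1.2 ht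
    · obtain ⟨t, ht⟩ := hr.symm.subset (show U'.ι.base y ∈ (U' : Set X) \ U from ⟨y.2, hy⟩)
      refine ⟨t, U'.ι.isOpenEmbedding.injective ?_⟩
      rw [← Scheme.Hom.comp_apply, hc]
      exact ht
  haveI : IsClosedImmersion c := .of_isPreimmersion _ (by
    rw [hcr]; exact (U.2.preimage U'.ι.continuous).isClosed_compl)
  haveI : Mono ι := by
    haveI := mono_partMap F U
    exact mono_of_mono_fac hι
  -- stalks of the cokernel
  have hzero : ∀ {Ω : Type u} [Field Ω] [IsSepClosed Ω] (ξ : Spec (CommRingCat.of Ω) ⟶ X),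
      ξ.base default ∉ (U' : Set X) \ U → IsZero ((EtCoh.stalk ξ).obj (cokernel ι)) := by
    intro Ω _ _ ξ hξ
    refine IsZero.of_epi_eq_zero ((EtCoh.stalk ξ).map (cokernel.π ι)) ?_
    by_cases h : ξ.base default ∈ U
    · haveI := isIso_stalk_partMap F U' ξ (hle h)
      haveI : IsIso ((EtCoh.stalk ξ).map ι ≫ (EtCoh.stalk ξ).map (partMap F U')) := by
        rw [← Functor.map_comp, hι]
        exact isIso_stalk_partMap F U ξ h
      haveI : IsIso ((EtCoh.stalk ξ).map ι) := IsIso.of_isIso_comp_right _ ((EtCoh.stalk ξ).map (partMap F U'))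
      rw [← cancel_epi ((EtCoh.stalk ξ).map ι), ← Functor.map_comp, cokernel.condition,
        Functor.map_zero, comp_zero]
    · exact (isZero_stalk_part F U' ξ fun h' => hξ ⟨h', h⟩).eq_of_src _ _
  -- the pull back of the cokernel to the stratum
  have hpt : ∀ t : T, (geomPoint t ≫ g).base default ∈ (U' : Set X) \ U := fun t =>
    hr ▸ ⟨t, by rw [Scheme.Hom.comp_apply, geomPoint_apply]⟩
  haveI : IsIso ((EtCoh.pull g).map (cokernel.π ι)) := isIso_pull_map g _ fun t => by
    haveI : Mono ((EtCoh.stalk (geomPoint t ≫ g)).map (cokernel.π ι)) :=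
      ((ShortComplex.exact_of_g_is_cokernel (ShortComplex.mk ι _ (cokernel.condition ι))
        (cokernelIsCokernel ι)).map (EtCoh.stalk (geomPoint t ≫ g))).mono_g
          ((isZero_stalk_part F U _ (hpt t).2).eq_of_src _ _)
    exact isIso_of_mono_of_epi _
  haveI : IsIso ((EtCoh.pull g).map (partMap F U')) :=
    isIso_pull_map g _ fun t => isIso_stalk_partMap F U' _ (hpt t).1
  have hQ : EtCoh.IsFiniteLocallyConstant ((EtCoh.pull g).obj (cokernel ι)) :=
    isFLC_of_iso ((asIso ((EtCoh.pull g).map (partMap F U'))).symm ≪≫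
      asIso ((EtCoh.pull g).map (cokernel.π ι))) hF
  -- the cokernel as an extension by zero
  let R := (EtShriek.restrAlong U'.ι).obj (cokernel ι)
  have hR : EtPBC.supp R ⊆ Set.range c.base := by
    rw [supp_subset_iff]
    intro Ω _ _ ζ hζ
    refine IsZero.of_iso (hzero (ζ ≫ U'.ι) ?_) ((stalkRestrIso U'.ι ζ).app (cokernel ι)).symm
    rintro ⟨-, h2⟩
    refine hζ (hcr.symm ▸ ?_)
    rwa [Scheme.Hom.comp_apply] at h2
  obtain ⟨G, ⟨eG⟩⟩ := (essImage_push_iff c R).2 hR
  haveI := isIso_counit c G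
  have hG : EtCoh.IsFiniteLocallyConstant G := by
    refine isFLC_of_iso ?_ hQ
    exact (eqToIso (by rw [hc]) : (EtCoh.pull g).obj (cokernel ι) ≅ (EtCoh.pull (c ≫ U'.ι)).obj (cokernel ι)) ≪≫
      (EtCore.pullComp c U'.ι).app (cokernel ι) ≪≫
      (EtCoh.pull c).mapIso ((pullRestrIso U'.ι).app (cokernel ι) ≪≫ eG.symm) ≪≫
      asIso ((EtCoh.pullPushAdj c).counit.app G)
  obtain ⟨e⟩ := nonempty_iso_extZero U'.ι ((EtCoh.push c).obj G) (cokernel ι) ⟨eG.symm⟩
    fun Ω _ _ ξ hξ => hzero ξ fun h => hξ ⟨default, rfl⟩ (by rw [Scheme.Opens.range_ι]; exact h.1)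
  refine ⟨c, inferInstance, G, cokernel.π ι ≫ e.hom, by rw [cokernel.condition_assoc, zero_comp], hc, hG, ?_⟩
  refine { exact := ?_, mono_f := inferInstanceAs (Mono ι), epi_g := inferInstanceAs (Epi (cokernel.π ι ≫ e.hom)) }
  exact ShortComplex.exact_of_iso (S₁ := ShortComplex.mk ι (cokernel.π ι) (cokernel.condition ι)) (ShortComplex.isoMk (Iso.refl _) (Iso.refl _) e
    (by simp) (by simp)) (ShortComplex.exact_of_g_is_cokernel (ShortComplex.mk ι _ (cokernel.condition ι))
      (cokernelIsCokernel ι))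

/-- The filtration of a constructible sheaf. -/
theorem exists_filtration [CompactSpace X] [QuasiSeparatedSpace X] (F : EtCoh.Ab X)
    (hF : EtPBC.IsConstructible F) :
    ∃ (n : ℕ) (E : Fin (n + 1) → EtCoh.Ab X) (ι : ∀ k : Fin n, E k.castSucc ⟶ E k.succ),
      IsZero (E 0) ∧ Nonempty (E (Fin.last n) ≅ F) ∧
      ∀ k : Fin n, ∃ (U W : Scheme.{u}) (j : U ⟶ X) (_ : IsOpenImmersion j) (c : W ⟶ U)
        (_ : IsClosedImmersion c) (G : EtCoh.Ab W)
        (π : E k.succ ⟶ (EtShriek.extZero j).obj ((EtCoh.push c).obj G)) (hz : ι k ≫ π = 0),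
        Topology.IsConstructible (Set.range (c ≫ j)) ∧ EtCoh.IsFiniteLocallyConstant G ∧
        (ShortComplex.mk (ι k) π hz).ShortExact := by
  obtain ⟨n, U, h0, hn, hmono, hstr⟩ := exists_chain (stable_FLCOn F)
    ((isCons_iff_adapted_univ (stable_FLCOn F)).1 ((isConstructible_iff F).1 hF))
  choose ι hι using fun k : Fin n => exists_inclusion F (U k.1) (hmono k.1)
  refine ⟨n, fun k => part F (U k.1), ι, isZero_of_stalk fun x => ?_, ?_, fun k => ?_⟩
  · refine isZero_stalk_part F _ _ ?_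
    show _ ∉ U 0
    rw [h0]
    exact id
  · haveI : ∀ x : X, IsIso ((stalkAt x).map (partMap F (U n))) := fun x =>
      isIso_stalk_partMap F _ _ (by rw [hn]; trivial)
    haveI : IsIso (partMap F (U n)) := stalkAt_jointlyReflectIsomorphisms.isIso _
    exact ⟨asIso (partMap F (U n))⟩
  · obtain ⟨hcons, T, g, hg, hr, hFg⟩ := hstr k.1 k.2
    obtain ⟨c, hc, G, π, hz, hcg, hG, hse⟩ := exists_quotient F (hmono k.1) (ι k) (hι k) g hr hFg
    exact ⟨_, _, (U (k.1 + 1)).ι, inferInstance, c, hc, G, π, hz, by rw [hcg, hr]; exact hcons, hG, hse⟩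

end Groth.EtPbc.ConsFiltration
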