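import Groth.Agent.EtaleBase.LocConstOps
import Groth.Agent.EtaleBase.PullStalk
import Groth.Agent.EtaleBase.DisjointGlue
import Groth.Agent.EtaleBase.NormalConst

/-!
# Morphisms of constant sheaves and locally constant functions

A morphism `ℤ ⟶ M` of constant sheaves on the small étale site has a value at every point; the values form
a locally constant function, they determine the morphism, every locally constant function occurs, and
values are compatible with inverse images.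
-/

set_option autoImplicit false

universe u

open CategoryTheory CategoryTheory.Limits AlgebraicGeometry Opposite

namespace Groth.EtPbc.ConstH0

open Groth.EtaleBase Groth.EtaleBase.LocConst Groth.EtaleBase.NormalConst

variable {X Y : Scheme.{u}} {M : Type} [AddCommGroup M]

/-- The group of values. -/
abbrev cg (M : Type) [AddCommGroup M] : AddCommGrpCat.{u + 1} := AddCommGrpCat.of (ULift.{u + 1} M)

/-- Multiples of an element. -/
noncomputable def zm (m : M) : cg.{u} ℤ ⟶ cg.{u} M :=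
  AddCommGrpCat.ofHom (AddMonoidHom.mk' (fun n => ⟨n.down • m⟩) fun a b =>
    congrArg ULift.up (add_zsmul m a.down b.down))

/-- The morphism of constant sheaves given by `m`. -/
noncomputable def cmap (X : Scheme.{u}) (m : M) : EtCoh.const X ℤ ⟶ EtCoh.const X M :=
  (constantSheaf X.smallEtaleTopology AddCommGrpCat.{u + 1}).map (zm m)

/-- Inverse image of a morphism of constant sheaves. -/
noncomputable def rMap (f : X ⟶ Y) (φ : EtCoh.const Y ℤ ⟶ EtCoh.const Y M) :
    EtCoh.const X ℤ ⟶ EtCoh.const X M :=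
  (EtCore.pullConst f ℤ).inv ≫ (EtCoh.pull f).map φ ≫ (EtCore.pullConst f M).hom

lemma rMap_cmap (f : X ⟶ Y) (m : M) : rMap f (cmap Y m) = cmap X m := by
  rw [rMap, Iso.inv_comp_eq]
  exact (EtCore.pullConstIso f).hom.naturality (zm m)

/-- The value of `φ` at `y` is `m`. -/
def HasVal (φ : EtCoh.const Y ℤ ⟶ EtCoh.const Y M) (y : Y) (m : M) : Prop :=
  ∀ (Ω : Type u) (_ : Field Ω) (_ : IsSepClosed Ω) (ξ : Spec (CommRingCat.of Ω) ⟶ Y),
    ξ.base default = y → (EtCoh.stalk ξ).map φ = (EtCoh.stalk ξ).map (cmap Y m)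

/-- Values are compatible with inverse images. -/
lemma HasVal.rMap {f : X ⟶ Y} {φ : EtCoh.const Y ℤ ⟶ EtCoh.const Y M} {x : X} {m : M}
    (h : HasVal φ (f.base x) m) : HasVal (ConstH0.rMap f φ) x m := by
  intro Ω i1 i2 ξ hξ
  have h1 := h Ω i1 i2 (ξ ≫ f) (by rw [Scheme.Hom.comp_apply, hξ])
  have h2 : (EtCoh.stalk ξ).map ((EtCoh.pull f).map φ) =
      (EtCoh.stalk ξ).map ((EtCoh.pull f).map (cmap Y m)) := by
    refine ((NatIso.naturality_1 (stalkPullIso f ξ) φ).symm.trans ?_)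
    rw [h1]
    exact NatIso.naturality_1 (stalkPullIso f ξ) (cmap Y m)
  rw [← rMap_cmap f m]
  simp only [ConstH0.rMap, Functor.map_comp, h2]

/-- The canonical map from constants to sections. -/
noncomputable abbrev eta (N : AddCommGrpCat.{u + 1}) (U : X.Etale) :
    N ⟶ ((constantSheaf X.smallEtaleTopology AddCommGrpCat.{u + 1}).obj N).obj.obj (op U) :=
  (CategoryTheory.toSheafify X.smallEtaleTopology ((Functor.const X.Etaleᵒᵖ).obj N)).app (op U)

lemma eta_map {N : AddCommGrpCat.{u + 1}} {U V : X.Etale} (g : V ⟶ U) (a : N) :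
    ((constantSheaf X.smallEtaleTopology AddCommGrpCat.{u + 1}).obj N).obj.map g.op (eta N U a) = eta N V a :=
  (NatTrans.naturality_apply (CategoryTheory.toSheafify X.smallEtaleTopology
    ((Functor.const X.Etaleᵒᵖ).obj N)) g.op a).symm

lemma cmap_eta (m : M) (U : X.Etale) (n : ULift.{u + 1} ℤ) :
    (cmap X m).hom.app (op U) (eta (cg ℤ) U n) = eta (cg M) U (zm m n) := by
  rw [← ConcreteCategory.comp_apply]
  exact ConcreteCategory.congr_hom (NatTrans.congr_app (toSheafify_naturality X.smallEtaleTopology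
    ((Functor.const X.Etaleᵒᵖ).map (zm.{u} m))).symm (op U)) n

/-- A value at the image of an étale neighbourhood. -/
lemma hasVal_of_nhd (φ : EtCoh.const Y ℤ ⟶ EtCoh.const Y M) (m : M) (W : Y.Etale)
    (h : φ.hom.app (op W) (eta (cg ℤ) W ⟨1⟩) = eta (cg M) W ⟨m⟩) (w : W.left) :
    HasVal φ (W.hom.base w) m := by
  intro Ω _ _ ξ hξ
  obtain ⟨t, -⟩ := exists_fiber_of_point ξ W w hξ.symm
  ext a
  obtain ⟨n, rfl⟩ := (exists_stalkBij_const W (ULift.{u + 1} ℤ) Ω _ _ ξ t).2 a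
  show (EtCoh.stalk ξ).map φ (germ ξ (EtCoh.const Y ℤ) W t (eta (cg ℤ) W n)) =
    (EtCoh.stalk ξ).map (cmap Y m) (germ ξ (EtCoh.const Y ℤ) W t (eta (cg ℤ) W n))
  rw [germ_map, germ_map, cmap_eta]
  refine congrArg _ ?_
  have hn : (n : cg.{u} ℤ) = n.down • (⟨1⟩ : ULift.{u + 1} ℤ) := ULift.ext _ _ (by simp [ULift.smul_down])
  rw [hn, map_zsmul, map_zsmul, h, ← map_zsmul]
  refine congrArg _ (ULift.ext _ _ ?_)
  show n.down • m = (n.down • (⟨1⟩ : ULift.{u + 1} ℤ)).down • m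
  simp

/-- Values exist, on a whole neighbourhood. -/
lemma exists_nhd_hasVal (φ : EtCoh.const Y ℤ ⟶ EtCoh.const Y M) (y : Y) :
    ∃ (m : M) (O : Y.Opens), y ∈ O ∧ ∀ y' ∈ O, HasVal φ y' m := by
  obtain ⟨W, k, a, ⟨w, hw⟩, he⟩ := (exists_stalkBij_const (EtCoh.top Y) (ULift.{u + 1} M)).exists_nhd
    (𝟙 (EtCoh.top Y)) (φ.hom.app (op (EtCoh.top Y)) (eta (cg ℤ) (EtCoh.top Y) ⟨1⟩)) y
  have h : φ.hom.app (op W) (eta (cg ℤ) W ⟨1⟩) = eta (cg M) W a := by
    rw [← eta_map k, NatTrans.naturality_apply φ.hom k.op]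
    refine he.trans ?_
    rw [Category.comp_id]
    exact eta_map k a
  refine ⟨a.down, ⟨Set.range W.hom.base, (isOpenMap_hom W).isOpen_range⟩, ⟨w, ?_⟩, ?_⟩
  · rw [← hw]
    exact (congrArg (fun e => e.base w) (MorphismProperty.Over.w k)).symm.trans (Scheme.Hom.comp_apply _ _ _)
  · rintro _ ⟨w', rfl⟩
    exact hasVal_of_nhd φ a.down W h w'

/-- Values are unique. -/
lemma HasVal.unique {φ : EtCoh.const Y ℤ ⟶ EtCoh.const Y M} {y : Y} {m m' : M} (h : HasVal φ y m)
    (h' : HasVal φ y m') : m = m' := by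
  obtain ⟨t, -⟩ := exists_fiber_of_point (geomPoint y) (EtCoh.top Y) y (geomPoint_apply _ _).symm
  have e := congrArg (fun z => z (germ (geomPoint y) _ (EtCoh.top Y) t (eta (cg ℤ) (EtCoh.top Y) ⟨1⟩)))
    ((h _ _ _ _ (geomPoint_apply _ _)).symm.trans (h' _ _ _ _ (geomPoint_apply _ _)))
  simp only [germ_map, cmap_eta] at e
  have e' := (exists_stalkBij_const (EtCoh.top Y) (ULift.{u + 1} M) _ _ _ (geomPoint y) t).1
    (a₁ := zm.{u} m ⟨1⟩) (a₂ := zm.{u} m' ⟨1⟩)
    (((congrArg _ (cmap_eta m _ _)).symm.trans e).trans (congrArg _ (cmap_eta m' _ _)))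
  simpa [zm] using congrArg ULift.down e'

/-- The value function. -/
noncomputable def val (φ : EtCoh.const Y ℤ ⟶ EtCoh.const Y M) (y : Y) : M :=
  (exists_nhd_hasVal φ y).choose

lemma hasVal_val (φ : EtCoh.const Y ℤ ⟶ EtCoh.const Y M) (y : Y) : HasVal φ y (val φ y) := by
  obtain ⟨O, hy, hO⟩ := (exists_nhd_hasVal φ y).choose_spec
  exact hO y hy

lemma isLocallyConstant_val (φ : EtCoh.const Y ℤ ⟶ EtCoh.const Y M) : IsLocallyConstant (val φ) := by
  rw [IsLocallyConstant.iff_exists_open]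
  intro y
  obtain ⟨O, hy, hO⟩ := (exists_nhd_hasVal φ y).choose_spec
  exact ⟨O, O.2, hy, fun y' hy' => (hasVal_val φ y').unique (hO y' hy')⟩

lemma val_rMap (f : X ⟶ Y) (φ : EtCoh.const Y ℤ ⟶ EtCoh.const Y M) (x : X) :
    val (rMap f φ) x = val φ (f.base x) :=
  (hasVal_val _ x).unique (hasVal_val φ (f.base x)).rMap

lemma val_cmap (m : M) (y : Y) : val (cmap Y m) y = m :=
  (hasVal_val _ y).unique fun _ _ _ _ _ => rfl

/-- Values are additive. -/
lemma val_sub (φ ψ : EtCoh.const Y ℤ ⟶ EtCoh.const Y M) (y : Y) : val (φ - ψ) y = val φ y - val ψ y := by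
  refine (hasVal_val _ y).unique fun Ω _ _ ξ hξ => ?_
  have e : cmap Y (val φ y - val ψ y) = cmap Y (val φ y) - cmap Y (val ψ y) := by
    have e0 : zm.{u} (val φ y - val ψ y) = zm (val φ y) - zm (val ψ y) := by
      ext n
      exact zsmul_sub (val φ y) (val ψ y) _
    rw [cmap, e0, Functor.map_sub]
    rfl
  rw [e, Functor.map_sub, Functor.map_sub, hasVal_val φ y Ω _ _ ξ hξ, hasVal_val ψ y Ω _ _ ξ hξ]

/-- Morphisms are determined by their values. -/
lemma ext_val {φ ψ : EtCoh.const Y ℤ ⟶ EtCoh.const Y M} (h : ∀ y, val φ y = val ψ y) : φ = ψ := by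
  ext U' σ
  refine sub_eq_zero.1 (section_eq_zero_of_germs (EtCoh.const Y M) U'.unop _ fun u => ?_)
  obtain ⟨t, ht⟩ := exists_geomPoint_lift U'.unop u
  have hg : germ _ (EtCoh.const Y M) U'.unop t (φ.hom.app U' σ - ψ.hom.app U' σ) = 0 := by
    rw [map_sub, ← germ_map, ← germ_map, hasVal_val φ _ _ _ _ _ (geomPoint_apply _ _),
      hasVal_val ψ _ _ _ _ _ (geomPoint_apply _ _), h, sub_self]
  have := (germ_eq_zero_iff_mem _ _ U'.unop _ t).1 hg
  obtain ⟨V, g, hv, hz⟩ := this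
  exact ⟨V, g, ht ▸ hv, hz⟩

/-- Every locally constant function occurs. -/
theorem exists_val (f : Y → M) (hf : IsLocallyConstant f) :
    ∃ φ : EtCoh.const Y ℤ ⟶ EtCoh.const Y M, ∀ y, val φ y = f y := by
  let P : ULift.{u} M → (EtCoh.top Y).left.Opens := fun a => ⟨f ⁻¹' {a.down}, hf.isOpen_fiber a.down⟩
  have hd : ∀ a b, a ≠ b → Disjoint (P a) (P b) := fun a b hab =>
    disjoint_iff.2 (TopologicalSpace.Opens.ext (Set.eq_empty_iff_forall_notMem.2 fun y hy =>
      hab (ULift.ext _ _ (hy.1.symm.trans hy.2))))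
  have hs : ⨆ a, P a = ⊤ := TopologicalSpace.Opens.ext (Set.eq_univ_of_forall fun y =>
    TopologicalSpace.Opens.mem_iSup.2 ⟨⟨f y⟩, rfl⟩)
  obtain ⟨σ, hσ⟩ := exists_glue_disjoint (EtCoh.top Y) P hd hs (EtCoh.const Y M)
    fun a => eta (cg M) (openObj (EtCoh.top Y) (P a)) ⟨a.down⟩
  let C := EtCoh.const Y M
  let ψ : (Functor.const Y.Etaleᵒᵖ).obj (cg ℤ) ⟶ C.obj :=
    { app := fun U => AddCommGrpCat.ofHom ((zmultiplesHom _ (C.obj.map (toTop U.unop).op σ)).comp
        AddEquiv.ulift.toAddMonoidHom)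
      naturality := fun U V g => by
        ext n
        show n.down • C.obj.map (toTop V.unop).op σ = C.obj.map g (n.down • C.obj.map (toTop U.unop).op σ)
        rw [map_zsmul, ← Functor.map_comp_apply]
        exact congrArg (fun z => n.down • C.obj.map z σ)
          (Quiver.Hom.unop_inj ((EtCore.topIsTerminal Y).hom_ext _ _)) }
  let φ : EtCoh.const Y ℤ ⟶ C := ⟨sheafifyLift Y.smallEtaleTopology ψ C.property⟩
  refine ⟨φ, fun y => (hasVal_val φ y).unique ?_⟩
  let a : ULift.{u} M := ⟨f y⟩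
  refine hasVal_of_nhd φ (f y) (openObj (EtCoh.top Y) (P a)) ?_ ⟨y, rfl⟩
  have h1 : toSheafify _ _ ≫ φ.hom = ψ := toSheafify_sheafifyLift _ ψ C.property
  rw [← ConcreteCategory.comp_apply]
  refine (congrArg (fun t : (Functor.const Y.Etaleᵒᵖ).obj (cg ℤ) ⟶ C.obj =>
    t.app (op (openObj (EtCoh.top Y) (P a))) (⟨1⟩ : ULift.{u + 1} ℤ)) h1).trans ?_
  show (1 : ℤ) • C.obj.map _ σ = _
  rw [one_zsmul, show toTop (openObj (EtCoh.top Y) (P a)) = openHom (EtCoh.top Y) (P a) from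
    (EtCore.topIsTerminal Y).hom_ext _ _]
  exact hσ a

/-- On a preconnected scheme every morphism is constant. -/
theorem exists_cmap [PreconnectedSpace Y] (φ : EtCoh.const Y ℤ ⟶ EtCoh.const Y M) :
    ∃ m : M, φ = cmap Y m := by
  rcases isEmpty_or_nonempty Y with he | ⟨⟨y₀⟩⟩
  · exact ⟨0, ext_val fun y => isEmptyElim y⟩
  · exact ⟨val φ y₀, ext_val fun y => by
      rw [val_cmap]; exact (isLocallyConstant_val φ).apply_eq_of_preconnectedSpace y y₀⟩

end Groth.EtPbc.ConstH0
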