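import Groth.Agent.EtPbc.ConstH0
import Groth.Agent.EtaleBase.Limit.HpullFunctorial
import Groth.Agent.EtaleBase.InjCoh
import Groth.Prelude.Def_EtLim

/-!
# Restriction of cohomology classes with constant coefficients
-/

set_option autoImplicit false

universe u

open CategoryTheory CategoryTheory.Limits CategoryTheory.Abelian AlgebraicGeometry Opposite

namespace Groth.EtPbc.ConstRestr

open Groth.EtaleBase Groth.EtaleBase.EtLimit Groth.EtPbc.ConstH0

attribute [local instance] pull_preservesFiniteLimits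

variable {X Y Z : Scheme.{u}} (M : Type) [AddCommGroup M]

/-- Restriction with constant coefficients. -/
noncomputable def restr (f : X ⟶ Y) (q : ℕ) :
    EtCoh.H Y (EtCoh.const Y M) q →+ EtCoh.H X (EtCoh.const X M) q :=
  EtLim.HpullThen f (EtCoh.const Y M) (EtCore.pullConst f M).hom q

lemma restr_apply (f : X ⟶ Y) (q : ℕ) (x : EtCoh.H Y (EtCoh.const Y M) q) :
    restr M f q x = (EtCore.Hpull f (EtCoh.const Y M) q x).comp (Ext.mk₀ (EtCore.pullConst f M).hom)
      (add_zero q) := rfl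

lemma pullConst_comp (g : X ⟶ Y) (f : Y ⟶ Z) :
    (EtCore.pullComp g f).hom.app (EtCoh.const Z M) ≫ (EtCoh.pull g).map (EtCore.pullConst f M).hom ≫
        (EtCore.pullConst g M).hom = (EtCore.pullConst (g ≫ f) M).hom := by
  have h : (EtCore.pullConst g M).inv ≫ (EtCoh.pull g).map (EtCore.pullConst f M).inv ≫
      (EtCore.pullComp g f).inv.app (EtCoh.const Z M) = (EtCore.pullConst (g ≫ f) M).inv :=
    pullConstIso_comp g f (AddCommGrpCat.of (ULift.{u + 1} M))
  let E := (EtCore.pullComp g f).app (EtCoh.const Z M) ≪≫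
    (EtCoh.pull g).mapIso (EtCore.pullConst f M) ≪≫ EtCore.pullConst g M
  have : E = EtCore.pullConst (g ≫ f) M := by
    refine Iso.symm_eq_iff.1 (Iso.ext ?_)
    simpa [E] using h
  exact congrArg Iso.hom this

lemma restr_comp (g : X ⟶ Y) (f : Y ⟶ Z) (q : ℕ) (x : EtCoh.H Z (EtCoh.const Z M) q) :
    restr M g q (restr M f q x) = restr M (g ≫ f) q x := by
  rw [restr_apply, restr_apply, Hpull_map, Hpull_comp, restr_apply]
  simp only [Ext.comp_assoc_of_third_deg_zero, Ext.mk₀_comp_mk₀]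
  exact congrArg (fun z => Ext.comp _ (Ext.mk₀ z) (add_zero q))
    ((Category.assoc _ _ _).trans (pullConst_comp M g f))

lemma restr_congr {f g : X ⟶ Y} (h : f = g) (q : ℕ) (x : EtCoh.H Y (EtCoh.const Y M) q) :
    restr M f q x = restr M g q x := by subst h; rfl

lemma restr_mk₀ (f : X ⟶ Y) (φ : EtCoh.const Y ℤ ⟶ EtCoh.const Y M) :
    restr M f 0 (Ext.mk₀ φ) = Ext.mk₀ (rMap f φ) := by
  show ((Ext.mk₀ (EtCore.pullConst f ℤ).inv).comp ((Ext.mk₀ φ).mapExactFunctor (EtCoh.pull f))
    (zero_add 0)).comp (Ext.mk₀ (EtCore.pullConst f M).hom) (add_zero 0) = _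
  rw [Ext.mapExactFunctor_mk₀, Ext.mk₀_comp_mk₀, Ext.mk₀_comp_mk₀, Category.assoc]
  rfl

/-- Restriction into a preconnected scheme is surjective in degree zero. -/
lemma restr_zero_surjective (f : X ⟶ Y) [PreconnectedSpace X] :
    Function.Surjective (restr M f 0) := fun x => by
  obtain ⟨φ, rfl⟩ := (Ext.mk₀_bijective _ _).2 x
  obtain ⟨m, rfl⟩ := exists_cmap φ
  exact ⟨Ext.mk₀ (cmap Y m), (restr_mk₀ M f _).trans (congrArg Ext.mk₀ (rMap_cmap f m))⟩

/-- Constants to the direct image of constants. -/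
noncomputable def rpush (f : X ⟶ Y) : EtCoh.const Y M ⟶ (EtCoh.push f).obj (EtCoh.const X M) :=
  (EtCoh.pullPushAdj f).homEquiv _ _ (EtCore.pullConst f M).hom

lemma pull_rpush_counit (f : X ⟶ Y) :
    (EtCoh.pull f).map (rpush M f) ≫ (EtCoh.pullPushAdj f).counit.app _ = (EtCore.pullConst f M).hom :=
  ((EtCoh.pullPushAdj f).homEquiv_counit _ _ _).symm.trans (Equiv.symm_apply_apply _ _)

lemma hofPush_apply (f : X ⟶ Y) {F : EtCoh.Ab X} (q : ℕ) (x : EtCoh.H Y ((EtCoh.push f).obj F) q) :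
    EtLim.HofPush f F q x = (EtCore.Hpull f ((EtCoh.push f).obj F) q x).comp
      (Ext.mk₀ ((EtCoh.pullPushAdj f).counit.app F)) (add_zero q) := rfl

lemma hofPush_rpush (f : X ⟶ Y) (q : ℕ) (x : EtCoh.H Y (EtCoh.const Y M) q) :
    EtLim.HofPush f (EtCoh.const X M) q (x.comp (Ext.mk₀ (rpush M f)) (add_zero q)) = restr M f q x := by
  rw [hofPush_apply, Hpull_map, Ext.comp_assoc_of_third_deg_zero, Ext.mk₀_comp_mk₀, pull_rpush_counit]
  rfl

variable (j : X ⟶ Y) (i : Y ⟶ Z)

/-- Transition between direct images of constants. -/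
noncomputable def trans : (EtCoh.push i).obj (EtCoh.const Y M) ⟶ (EtCoh.push (j ≫ i)).obj (EtCoh.const X M) :=
  (EtCoh.push i).map (rpush M j) ≫ (EtCoh.pushComp i j).hom.app _

lemma rpush_trans : rpush M i ≫ trans M j i = rpush M (j ≫ i) := by
  have e : (EtCore.pullComp j i).inv.app _ ≫ (EtCore.pullConst (j ≫ i) M).hom =
      (EtCoh.pull j).map (EtCore.pullConst i M).hom ≫ (EtCore.pullConst j M).hom := by
    rw [← pullConst_comp M j i, ← Category.assoc, Iso.inv_hom_id_app]
    exact Category.id_comp _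
  refine Eq.trans ?_ (Groth.DescentBase.homEquiv_pullComp j i (EtCoh.const Z M) (EtCore.pullConst (j ≫ i) M).hom)
  rw [e, Adjunction.homEquiv_naturality_left, Adjunction.homEquiv_naturality_right, trans, Category.assoc]
  rfl

lemma hofPush_trans (q : ℕ) (x : EtCoh.H Z ((EtCoh.push i).obj (EtCoh.const Y M)) q) :
    EtLim.HofPush (j ≫ i) (EtCoh.const X M) q (x.comp (Ext.mk₀ (trans M j i)) (add_zero q)) =
      restr M j q (EtLim.HofPush i (EtCoh.const Y M) q x) := by
  rw [hofPush_apply, Hpull_map, restr_apply, hofPush_apply, Hpull_map, Hpull_comp]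
  simp only [Ext.comp_assoc_of_third_deg_zero, Ext.mk₀_comp_mk₀]
  refine congrArg (fun z => Ext.comp _ (Ext.mk₀ z) (add_zero q)) ?_
  refine ((EtCoh.pullPushAdj (j ≫ i)).homEquiv_counit _ _ _).symm.trans ?_
  rw [Equiv.symm_apply_eq, ← Groth.DescentBase.homEquiv_pullComp j i]
  have e : (EtCore.pullComp j i).inv.app _ ≫ ((EtCore.pullComp j i).hom.app _ ≫
      (EtCoh.pull j).map ((EtCoh.pullPushAdj i).counit.app (EtCoh.const Y M))) ≫ (EtCore.pullConst j M).hom =
      (EtCoh.pull j).map ((EtCoh.pullPushAdj i).counit.app (EtCoh.const Y M)) ≫ (EtCore.pullConst j M).hom := by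
    rw [Category.assoc, Iso.inv_hom_id_app_assoc]
  rw [e, Adjunction.homEquiv_naturality_left, trans]
  congr 1
  rw [Adjunction.homEquiv_unit, Functor.map_comp, ← Category.assoc, Adjunction.right_triangle_components,
    Category.id_comp]
  rfl

end Groth.EtPbc.ConstRestr
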