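import Groth.Agent.EtPbc.GmGeneric
import Groth.Agent.PropsBasic2.StalkFlat
import Groth.Agent.EtPbc.DimOneDevissage

/-!
# `𝔾ₘ` at the generic points of a possibly non-reduced scheme
-/

set_option autoImplicit false
set_option backward.isDefEq.respectTransparency.types false
set_option linter.style.haveILetI false
set_option maxHeartbeats 1000000

universe u

open CategoryTheory CategoryTheory.Limits CategoryTheory.Abelian AlgebraicGeometry Opposite TopologicalSpace

namespace Groth.FieldPush

open Groth.EtaleBase Groth.EtaleBase.LocConst Groth.EtaleBase.GmPic Groth.EtaleBase.SitePt Groth.EtaleDeep.Cons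
  Groth.EtPbc.PointSupp

/-- The cokernel from the coimage has the support of the cokernel. -/
theorem supp_cokernel_coimage {X : Scheme.{u}} {A B : EtCoh.Ab X} (φ : A ⟶ B) {S : Set X}
    (h : EtPBC.supp (cokernel φ) ⊆ S) : EtPBC.supp (cokernel (Abelian.factorThruCoimage φ)) ⊆ S := by
  rw [supp_subset_iff]
  intro Ω _ _ ξ hξ
  refine @AddCommGrpCat.isZero_of_subsingleton _ (subsingleton_of_forall_eq 0 fun y => ?_)
  obtain ⟨z, rfl⟩ := stalk_surjective_of_epi ξ (cokernel.π (Abelian.factorThruCoimage φ)) y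
  haveI := AddCommGrpCat.subsingleton_of_isZero ((supp_subset_iff (cokernel φ) S).1 h Ω ‹_› ‹_› ξ hξ)
  let d : cokernel φ ⟶ cokernel (Abelian.factorThruCoimage φ) :=
    cokernel.desc φ (cokernel.π (Abelian.factorThruCoimage φ)) (by
      conv_lhs => arg 1; rw [← Abelian.coimage.fac φ]
      rw [Category.assoc, cokernel.condition, comp_zero])
  rw [← cokernel.π_desc φ (cokernel.π (Abelian.factorThruCoimage φ)) (show φ ≫ _ = 0 by
      conv_lhs => arg 1; rw [← Abelian.coimage.fac φ]
      rw [Category.assoc, cokernel.condition, comp_zero]), Functor.map_comp, ConcreteCategory.comp_apply,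
    Subsingleton.elim ((EtCoh.stalk ξ).map (cokernel.π φ) z) 0, map_zero]

variable {X : Scheme.{u}} [AlgebraicGeometry.IsNoetherian X]

/-- The kernel of `𝔾ₘ → ⊕ 𝔾ₘ` has no stalks at generic points. -/
theorem supp_kernel_toGen : EtPBC.supp (kernel (toGen X)) ⊆ (genericPoints X)ᶜ := by
  rw [supp_subset_iff]
  intro Ω _ _ ξ hξ
  have hη : ξ.base default ∈ genericPoints X := not_not.1 hξ
  refine @AddCommGrpCat.isZero_of_subsingleton _ (subsingleton_of_forall_eq 0 fun y => ?_)
  refine mono_stalk_injective ξ (kernel.ι (toGen X)) ?_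
  rw [map_zero]
  obtain ⟨V, t, σ, rfl⟩ := germ_surjective ξ _ y
  refine (germ_map ξ (kernel.ι (toGen X)) V t σ).trans ?_
  obtain ⟨a, ha⟩ := gm_surjective V ((kernel.ι (toGen X)).hom.app (op V) σ)
  rw [← ha]
  let v := fiberPoint ξ t
  have hv : V.hom.base v ∈ genericPoints X := by rw [hom_fiberPoint]; exact hη
  have h0 : (toGen X).hom.app (op V) (gm V a) = 0 := by
    rw [ha]
    exact ConcreteCategory.congr_hom (congrArg (fun m => m.hom.app (op V)) (kernel.condition (toGen X))) σ
  let η : Gen X := ⟨_, hv⟩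
  have h1 : (EtLim.GmPush (X.fromSpecStalk η.1)).hom.app (op V) (gm V a) = 0 := by
    refine (ConcreteCategory.congr_hom (congrArg (fun m => m.hom.app (op V))
      (biproduct.lift_π (fun η : Gen X => EtLim.GmPush (X.fromSpecStalk η.1)) η)) _).symm.trans ?_
    exact (congrArg ((biproduct.π (fun η : Gen X => gmAt η.1) η).hom.app (op V)) h0).trans (map_zero _)
  let i := X.fromSpecStalk η.1
  let p : pullback V.hom i ⟶ V.left := pullback.fst _ _
  haveI : Flat i := Groth.PropsBasic2.flat_fromSpecStalk η.1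
  haveI : Flat p := MorphismProperty.pullback_fst _ _ inferInstance
  obtain ⟨w, hw, -⟩ := Scheme.Pullback.exists_preimage_pullback (f := V.hom) (g := i) v
    (show ↥(Spec (X.presheaf.stalk η.1)) from IsLocalRing.closedPoint (X.presheaf.stalk η.1))
    (Scheme.fromSpecStalk_closedPoint).symm
  have hinj : Function.Injective (p.stalkMap w).hom := by
    algebraize [(p.stalkMap w).hom]
    have : Module.FaithfullyFlat (V.left.presheaf.stalk (p w)) ((pullback V.hom i).presheaf.stalk w) :=
      @Module.FaithfullyFlat.of_flat_of_isLocalHom _ _ _ _ _ _ _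
        (Flat.stalkMap p w) (p.toLRSHom.prop w)
    exact ‹RingHom.FaithfullyFlat _›.injective
  have h2 : p.appTop (a : Γ(V.left, ⊤)) = 1 :=
    congrArg Units.val (Additive.ofMul.injective (congrArg ULift.down h1 :) :
      Units.map p.appTop.hom.toMonoidHom a = 1)
  have h3 : V.left.presheaf.germ ⊤ (p.base w) trivial (a : Γ(V.left, ⊤)) =
      V.left.presheaf.germ ⊤ (p.base w) trivial 1 := by
    refine hinj ?_
    rw [map_one, map_one]
    refine (Scheme.Hom.germ_stalkMap_apply p ⊤ w trivial _).trans ?_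
    refine Eq.trans ?_ (map_one ((pullback V.hom i).presheaf.germ ⊤ w trivial).hom)
    exact congrArg ((pullback V.hom i).presheaf.germ ⊤ w trivial) h2
  obtain ⟨W, hW, iW, jW, hres⟩ := TopCat.Presheaf.germ_eq V.left.presheaf _ _ _ _ _ h3
  have hpw : p.base w = fiberPoint ξ t := hw
  obtain ⟨t', ht'⟩ := exists_lift_open ξ W t (hpw ▸ hW : fiberPoint ξ t ∈ W)
  rw [← ht', ← germ_res]
  refine (congrArg (germ ξ _ _ t') ?_).trans (map_zero _)
  rw [gm_map]
  have hu : Units.map (openHom V W).left.appTop.hom.toMonoidHom a = 1 := by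
    refine Units.ext (TopCat.Presheaf.section_ext (openObj V W).left.sheaf ⊤ _ _ fun z hz => ?_)
    show (openObj V W).left.presheaf.germ ⊤ z trivial ((Scheme.Opens.ι W).appTop (a : Γ(V.left, ⊤))) =
      (openObj V W).left.presheaf.germ ⊤ z trivial 1
    rw [show (Scheme.Opens.ι W).appTop (a : Γ(V.left, ⊤)) = (Scheme.Opens.ι W).appLE ⊤ ⊤ le_rfl (a : Γ(V.left, ⊤)) from
      ConcreteCategory.congr_hom (Scheme.Hom.app_eq_appLE (f := (Scheme.Opens.ι W)) (U := ⊤)) _]
    let z' : (W : Scheme.{u}) := z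
    refine (germ_appLE (Scheme.Opens.ι W) ⊤ le_rfl z' (a : Γ(V.left, ⊤))).trans ?_
    rw [← TopCat.Presheaf.germ_res_apply V.left.presheaf iW ((Scheme.Opens.ι W).base z') z'.2, hres, map_one, map_one,
      map_one]
    exact (map_one _).symm
  rw [hu]
  rfl

/-- `H²(X, 𝔾ₘ)` is detected at the generic points in dimension one with separably closed residue
fields at closed points. -/
theorem eq_zero_of_toGen (hdim : topologicalKrullDim X ≤ 1)
    (hcl : ∀ x : X, IsClosed ({x} : Set X) → IsSepClosed (X.residueField x)) (ξ : EtCoh.H X (EtCoh.Gm X) 2)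
    (h : ∀ η : Gen X, (ξ : Ext _ (EtCoh.Gm X) 2).comp
      (Ext.mk₀ (EtLim.GmPush (X.fromSpecStalk η.1))) (add_zero 2) = 0) : ξ = 0 := by
  classical
  letI := Fintype.ofFinite (Gen X)
  let u := toGen X
  have h0 : (ξ : Ext _ (EtCoh.Gm X) 2).comp (Ext.mk₀ u) (add_zero 2) = 0 := by
    rw [ext_eq_sum_components (fun η : Gen X => gmAt η.1) ((ξ : Ext _ (EtCoh.Gm X) 2).comp (Ext.mk₀ u) (add_zero 2))]
    refine Finset.sum_eq_zero fun η _ => ?_
    rw [Ext.comp_assoc_of_third_deg_zero (ξ : Ext _ (EtCoh.Gm X) 2), Ext.mk₀_comp_mk₀, biproduct.lift_π, h η,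
      Ext.zero_comp]
  haveI := subsingleton_H_closedPoints hcl (kernel u)
    (fun x hx => isClosed_of_not_mem_genericPoints hdim (supp_kernel_toGen hx)) 2 Nat.two_pos
  have hsupp : EtPBC.supp (cokernel (Abelian.factorThruCoimage u)) ⊆ (genericPoints X)ᶜ :=
    supp_cokernel_coimage u supp_coker_toGen
  haveI := subsingleton_H_closedPoints hcl (cokernel (Abelian.factorThruCoimage u))
    (fun x hx => isClosed_of_not_mem_genericPoints hdim (hsupp hx)) 1 Nat.one_pos
  have hT : (ShortComplex.mk (kernel.ι u) (cokernel.π _) (cokernel.condition _)).ShortExact :=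
    CohFin.cokerSeq_shortExact' (kernel.ι u)
  have hT' : (ShortComplex.mk (Abelian.factorThruCoimage u) (cokernel.π _) (cokernel.condition _)).ShortExact :=
    CohFin.cokerSeq_shortExact' (Abelian.factorThruCoimage u)
  rw [← Abelian.coimage.fac u, ← Ext.mk₀_comp_mk₀, ← Ext.comp_assoc_of_third_deg_zero] at h0
  obtain ⟨y, hy⟩ := Ext.covariant_sequence_exact₁ _ hT' _ h0 (n₀ := 1) rfl
  rw [Subsingleton.elim (α := EtCoh.H X (cokernel (Abelian.factorThruCoimage u)) 1) y 0, Ext.zero_comp] at hy
  obtain ⟨z, rfl⟩ := Ext.covariant_sequence_exact₂ _ hT ξ hy.symm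
  rw [Subsingleton.elim (α := EtCoh.H X (kernel u) 2) z 0]
  exact Ext.zero_comp _ _ _ _ _

end Groth.FieldPush
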