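import Groth.Agent.EtPbc.PointSupp
import Groth.Agent.Misc1.Kummer.Basic

/-!
# Primary torsion sheaves as colimits of their parts killed by powers
-/

set_option autoImplicit false
set_option linter.style.haveILetI false
set_option backward.isDefEq.respectTransparency.types false
set_option maxHeartbeats 1000000

universe u

open CategoryTheory CategoryTheory.Limits CategoryTheory.Abelian AlgebraicGeometry Opposite TopologicalSpace

namespace Groth.FieldPush.Primary

open Groth.EtaleBase Groth.EtaleBase.LocConst Groth.EtaleBase.SitePt Groth.EtaleDeep.Cons Groth.EtPbc.PointSupp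

variable {X : Scheme.{u}} (ℓ : ℕ) (F : EtCoh.Ab X)

/-- The part killed by `ℓ ^ a`. -/
noncomputable abbrev powPart (a : ℕ) : EtCoh.Ab X := kernel (ℓ ^ a • 𝟙 F)

/-- It is killed by `ℓ ^ a`. -/
theorem nsmul_id_powPart (a : ℕ) : ℓ ^ a • 𝟙 (powPart ℓ F a) = 0 := by
  rw [← cancel_mono (kernel.ι (ℓ ^ a • 𝟙 F)), Preadditive.nsmul_comp, Category.id_comp, zero_comp]
  exact (by rw [Preadditive.comp_nsmul, Category.comp_id] :
    ℓ ^ a • kernel.ι (ℓ ^ a • 𝟙 F) = kernel.ι (ℓ ^ a • 𝟙 F) ≫ (ℓ ^ a • 𝟙 F)).trans (kernel.condition _)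

theorem ι_comp_pow {a b : ℕ} (h : a ≤ b) : kernel.ι (ℓ ^ a • 𝟙 F) ≫ (ℓ ^ b • 𝟙 F) = 0 := by
  obtain ⟨c, rfl⟩ := Nat.exists_eq_add_of_le h
  rw [pow_add, mul_comm, mul_smul, Preadditive.comp_nsmul, kernel.condition, smul_zero]

/-- The system. -/
noncomputable def diag : ULift.{u} ℕ ⥤ EtCoh.Ab X where
  obj a := powPart ℓ F a.down
  map {a b} h := kernel.lift _ (kernel.ι _) (ι_comp_pow ℓ F (ULift.down_le.2 (leOfHom h)))
  map_id a := by rw [← cancel_mono (kernel.ι _), kernel.lift_ι, Category.id_comp]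
  map_comp f g := by
    rw [← cancel_mono (kernel.ι _), kernel.lift_ι, Category.assoc, kernel.lift_ι, kernel.lift_ι]

/-- The cocone. -/
noncomputable def cocone : Cocone (diag ℓ F) where
  pt := F
  ι :=
    { app := fun a => kernel.ι (ℓ ^ a.down • 𝟙 F)
      naturality := fun a b h => by
        refine Eq.trans ?_ (Category.comp_id _).symm
        exact kernel.lift_ι _ _ _ }

variable {F}

/-- A primary torsion sheaf is the colimit. -/
theorem nonempty_isColimit_cocone (hF : Dix.IsPrimaryTorsion ℓ F) : Nonempty (IsColimit (cocone ℓ F)) := by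
  let θ : colimit (diag ℓ F) ⟶ F := colimit.desc _ (cocone ℓ F)
  have hpres : ∀ x : X, PreservesColimitsOfShape (ULift.{u} ℕ) (EtCoh.stalk (geomPoint x)) := fun x =>
    have : PreservesColimitsOfSize.{u, u} (EtCoh.stalk (geomPoint x)) :=
      ((Scheme.pointSmallEtale (geomPoint x)).skyscraperSheafAdjunction
        (A := AddCommGrpCat.{u + 1})).leftAdjoint_preservesColimits
    inferInstance
  haveI : Epi θ := epi_of_stalk_surjective _ fun x y => by
    obtain ⟨U, t, σ, rfl⟩ := germ_surjective (geomPoint x) F y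
    obtain ⟨V, g, ⟨v, hv⟩, k, hk⟩ := hF U σ (fiberPoint (geomPoint x) t)
    obtain ⟨t', rfl, -⟩ := exists_fiber_lift (geomPoint x) g t v hv
    rw [← germ_res]
    let S := ShortComplex.mk (kernel.ι (ℓ ^ k • 𝟙 F)) (ℓ ^ k • 𝟙 F) (kernel.condition _)
    have hS : S.Exact := ShortComplex.exact_of_f_is_kernel S (kernelIsKernel _)
    have h0 : (ℓ ^ k • 𝟙 F : F ⟶ F).hom.app (op V) (F.obj.map g.op σ) = 0 := by
      have hev : ∀ m : ℕ, ((m • 𝟙 F : F ⟶ F).hom.app (op V)) (F.obj.map g.op σ) = m • (F.obj.map g.op σ) := fun m => by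
        induction m with
        | zero => simp
        | succ m ih => rw [succ_nsmul, succ_nsmul, ← ih]; rfl
      rw [hev, hk]
    obtain ⟨w, hw⟩ := (ShortComplex.ab_exact_iff _).1 (hS.map (EtCoh.stalk (geomPoint x)))
      (germ (geomPoint x) F V t' (F.obj.map g.op σ)) ((germ_map _ _ _ _ _).trans ((congrArg _ h0).trans (map_zero _)))
    refine ⟨(EtCoh.stalk (geomPoint x)).map (colimit.ι (diag ℓ F) ⟨k⟩) w, ?_⟩
    rw [← ConcreteCategory.comp_apply, ← Functor.map_comp,
      show colimit.ι (diag ℓ F) ⟨k⟩ ≫ θ = (cocone ℓ F).ι.app ⟨k⟩ from colimit.ι_desc _ _]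
    exact hw
  haveI : Mono θ := mono_of_stalk_injective _ fun x => by
    rw [injective_iff_map_eq_zero]
    intro z hz
    haveI := hpres x
    obtain ⟨T, w, rfl⟩ := Types.jointly_surjective _
      (isColimitOfPreserves (EtCoh.stalk (geomPoint x) ⋙ CategoryTheory.forget AddCommGrpCat.{u + 1})
        (colimit.isColimit (diag ℓ F))) z
    suffices ∀ w : (EtCoh.stalk (geomPoint x)).obj ((diag ℓ F).obj T),
        (EtCoh.stalk (geomPoint x)).map θ ((EtCoh.stalk (geomPoint x)).map (colimit.ι (diag ℓ F) T) w) = 0 →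
          (EtCoh.stalk (geomPoint x)).map (colimit.ι (diag ℓ F) T) w = 0 from this w hz
    intro w hz
    rw [← ConcreteCategory.comp_apply, ← Functor.map_comp,
      show colimit.ι (diag ℓ F) T ≫ θ = (cocone ℓ F).ι.app T from colimit.ι_desc _ _] at hz
    have : Mono ((EtCoh.stalk (geomPoint x)).map ((cocone ℓ F).ι.app T)) :=
      inferInstanceAs (Mono ((EtCoh.stalk (geomPoint x)).map (kernel.ι (ℓ ^ T.down • 𝟙 F))))
    rw [(AddCommGrpCat.mono_iff_injective _).1 this (hz.trans (map_zero _).symm), map_zero]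
  haveI : IsIso θ := isIso_of_mono_of_epi _
  haveI : IsIso ((colimit.isColimit (diag ℓ F)).desc (cocone ℓ F)) := ‹IsIso θ›
  exact ⟨IsColimit.ofPointIso (t := cocone ℓ F) (colimit.isColimit (diag ℓ F))⟩

/-- Subsheaves have smaller support. -/
theorem supp_powPart (a : ℕ) : EtPBC.supp (powPart ℓ F a) ⊆ EtPBC.supp F := by
  rw [supp_subset_iff]
  intro Ω _ _ ξ hξ
  haveI := AddCommGrpCat.subsingleton_of_isZero ((supp_subset_iff F _).1 subset_rfl Ω ‹_› ‹_› ξ hξ)
  exact @AddCommGrpCat.isZero_of_subsingleton _ (subsingleton_of_forall_eq 0 fun y =>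
    mono_stalk_injective ξ (kernel.ι (ℓ ^ a • 𝟙 F)) (Subsingleton.elim _ _))

/-- Cohomology of a primary torsion sheaf vanishes if that of its parts does. -/
theorem subsingleton_H_of_powParts [AlgebraicGeometry.IsNoetherian X] (hF : Dix.IsPrimaryTorsion ℓ F) (q : ℕ)
    (h : ∀ a : ℕ, Subsingleton (EtCoh.H X (powPart ℓ F a) q)) : Subsingleton (EtCoh.H X F q) := by
  refine subsingleton_of_forall_eq 0 fun z => ?_
  obtain ⟨hc⟩ := nonempty_isColimit_cocone ℓ hF
  haveI := Groth.FlatMor2.ColimCoh.Etale.preservesColimitsOfShape_HF_small (X := X) q (ULift.{u} ℕ)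
  obtain ⟨T, y, rfl⟩ := Types.jointly_surjective _
    (isColimitOfPreserves (EtCoh.HF X q ⋙ CategoryTheory.forget AddCommGrpCat.{u + 1}) hc) z
  suffices ∀ y : EtCoh.H X (powPart ℓ F T.down) q,
      ((EtCoh.HF X q).map ((cocone ℓ F).ι.app T) y : EtCoh.H X F q) = 0 from this y
  intro y
  haveI := h T.down
  rw [Subsingleton.elim y 0]
  exact map_zero ((EtCoh.HF X q).map ((cocone ℓ F).ι.app T)).hom

end Groth.FieldPush.Primary
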