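import Groth.Agent.EtPbc.CdKilled
import Groth.Agent.EtPbc.GmGenericKernel
import Groth.Agent.EtPbc.PrimaryColim
import Groth.Agent.EtaleBase.GmPic.LowDegree

/-!
# Dévissage along a dimension function
-/

set_option autoImplicit false
set_option linter.style.haveILetI false
set_option backward.isDefEq.respectTransparency.types false
set_option maxHeartbeats 1000000

universe u

open CategoryTheory CategoryTheory.Limits CategoryTheory.Abelian AlgebraicGeometry Opposite TopologicalSpace

namespace Groth.FieldPush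

open Groth.EtaleBase Groth.EtaleBase.LocConst Groth.EtaleBase.SitePt Groth.EtaleDeep.Cons Groth.EtPbc.PointSupp

/-- Cohomology of a direct image from cohomology of the higher direct images. -/
theorem subsingleton_H_push_of_Rpush {S X : Scheme.{u}} (i : S ⟶ X) [PreservesFiniteLimits (EtCoh.pull i)] :
    ∀ (n : ℕ) (G : EtCoh.Ab S),
      (∀ p j, 0 < p → j + p = n → Subsingleton (EtCoh.H X ((EtCoh.Rpush i p).obj G) j)) →
      Subsingleton (EtCoh.H S G (n + 1)) → Subsingleton (EtCoh.H X ((EtCoh.push i).obj G) (n + 1)) := by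
  intro n
  induction n with
  | zero =>
    intro G _ hG
    exact (GmPic.HofPush_one_injective i G).subsingleton
  | succ n ih =>
    intro G hR hG
    haveI : (EtCoh.push i).Additive := Adjunction.right_adjoint_additive (EtCoh.pullPushAdj i)
    let T : ShortComplex (EtCoh.Ab S) :=
      ShortComplex.mk (Injective.ι G) (cokernel.π (Injective.ι G)) (cokernel.condition _)
    have hT : T.ShortExact := CohFin.cokerSeq_shortExact' (Injective.ι G)
    have hac := CohFin.rightAcyclic_of_injective (F := EtCoh.push i) T.X₂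
    let g : (EtCoh.push i).obj T.X₂ ⟶ (EtCoh.push i).obj T.X₃ := (EtCoh.push i).map T.g
    haveI : Subsingleton (EtCoh.H S T.X₃ (n + 1)) := by
      refine subsingleton_of_forall_eq 0 fun x => ?_
      obtain ⟨y, rfl⟩ := Ext.covariant_sequence_exact₃ _ hT x (show n + 1 + 1 = n + 1 + 1 from rfl)
        (Subsingleton.elim (α := EtCoh.H S G (n + 1 + 1)) _ _)
      rw [Ext.eq_zero_of_injective (I := Injective.under G) y]
      exact Ext.zero_comp _ _ _ _ _
    haveI := ih T.X₃ (fun p j hp hpj => by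
      obtain ⟨p, rfl⟩ := Nat.exists_eq_succ_of_ne_zero hp.ne'
      obtain ⟨e⟩ := CohFin.nonempty_rightDerived_shift (F := EtCoh.push i) p T hT hac
      haveI := hR (p + 2) j (by omega) (by omega)
      exact @Equiv.subsingleton _ _ ((EtCoh.HF X j).mapIso e).symm.addCommGroupIsoToAddEquiv.toEquiv
        (by assumption)) inferInstance
    obtain ⟨e₂⟩ := CohFin.nonempty_rightDerived_one_iso_of_injective (F := EtCoh.push i) hT
    let e₃ : cokernel (Abelian.factorThruCoimage g) ≅ cokernel g :=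
      (cokernelEpiComp (Abelian.coimage.π g) (Abelian.factorThruCoimage g)).symm ≪≫
        cokernelIsoOfEq (Abelian.coimage.fac g)
    haveI : Subsingleton (EtCoh.H X (cokernel (Abelian.factorThruCoimage g)) n) := by
      haveI := hR 1 n Nat.one_pos rfl
      exact @Equiv.subsingleton _ _ ((EtCoh.HF X n).mapIso (e₃ ≪≫ e₂.symm)).addCommGroupIsoToAddEquiv.toEquiv
        (by assumption)
    haveI : Subsingleton (EtCoh.H X (cokernel (kernel.ι g)) (n + 1)) := by
      refine subsingleton_of_forall_eq 0 fun x => ?_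
      have hU : (ShortComplex.mk (Abelian.factorThruCoimage g) (cokernel.π _) (cokernel.condition _)).ShortExact :=
        CohFin.cokerSeq_shortExact' (Abelian.factorThruCoimage g)
      obtain ⟨y, rfl⟩ := Ext.covariant_sequence_exact₁ _ hU x
        (Subsingleton.elim (α := EtCoh.H X ((EtCoh.push i).obj T.X₃) (n + 1)) _ _) (n₀ := n) rfl
      rw [Subsingleton.elim (α := EtCoh.H X (cokernel (Abelian.factorThruCoimage g)) n) y 0]
      exact Ext.zero_comp _ _ _ _ _
    haveI : Injective ((EtCoh.push i).obj T.X₂) :=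
      Injective.injective_of_adjoint (EtCoh.pullPushAdj i) (J := T.X₂)
    haveI : Subsingleton (EtCoh.H X (kernel g) (n + 1 + 1)) := by
      refine subsingleton_of_forall_eq 0 fun x => ?_
      have hU : (ShortComplex.mk (kernel.ι g) (cokernel.π _) (cokernel.condition _)).ShortExact :=
        CohFin.cokerSeq_shortExact' (kernel.ι g)
      obtain ⟨y, rfl⟩ := Ext.covariant_sequence_exact₁ _ hU x
        (Ext.eq_zero_of_injective (I := (EtCoh.push i).obj T.X₂) _) (n₀ := n + 1) rfl
      rw [Subsingleton.elim (α := EtCoh.H X (cokernel (kernel.ι g)) (n + 1)) y 0]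
      exact Ext.zero_comp _ _ _ _ _
    obtain ⟨e₁⟩ : Nonempty ((EtCoh.push i).obj G ≅ kernel g) :=
      ⟨((isLimitForkMapOfIsLimit' (EtCoh.push i) T.zero hT.fIsKernel).conePointUniqueUpToIso
        (limit.isLimit _))⟩
    exact @Equiv.subsingleton _ _ ((EtCoh.HF X (n + 1 + 1)).mapIso e₁).addCommGroupIsoToAddEquiv.toEquiv
      (by assumption)

variable {X : Scheme.{u}}

/-- Subsheaves have smaller support. -/
theorem supp_kernel_subset {A B : EtCoh.Ab X} (φ : A ⟶ B) : EtPBC.supp (kernel φ) ⊆ EtPBC.supp A := by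
  rw [supp_subset_iff]
  intro Ω _ _ ξ hξ
  haveI := AddCommGrpCat.subsingleton_of_isZero ((supp_subset_iff A _).1 subset_rfl Ω ‹_› ‹_› ξ hξ)
  exact @AddCommGrpCat.isZero_of_subsingleton _ (subsingleton_of_forall_eq 0 fun y =>
    mono_stalk_injective ξ (kernel.ι φ) (Subsingleton.elim _ _))

variable (T : Finset X) (hT : ∀ x ∈ T, ∀ y ∈ T, x ⤳ y → x = y)

/-- The sum of the direct images of the restrictions to the points of `T`. -/
noncomputable abbrev ptSum (F : EtCoh.Ab X) : EtCoh.Ab X :=
  ⨁ fun η : ↥T => (EtCoh.push (X.fromSpecResidueField η.1)).obj ((EtCoh.pull (X.fromSpecResidueField η.1)).obj F)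

/-- The map to it. -/
noncomputable abbrev toPtSum (F : EtCoh.Ab X) : F ⟶ ptSum T F :=
  biproduct.lift fun η : ↥T => (EtCoh.pullPushAdj (X.fromSpecResidueField η.1)).unit.app F

/-- Sums vanish when all components do. -/
theorem stalk_ptSum_eq_zero (F : EtCoh.Ab X) {Ω : Type u} [Field Ω] [IsSepClosed Ω]
    (ξ : Spec (CommRingCat.of Ω) ⟶ X) (d : (EtCoh.stalk ξ).obj (ptSum T F))
    (hd : ∀ η : ↥T, (EtCoh.stalk ξ).map (biproduct.π (fun η : ↥T =>
      (EtCoh.push (X.fromSpecResidueField η.1)).obj ((EtCoh.pull (X.fromSpecResidueField η.1)).obj F)) η) d = 0) :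
    d = 0 := by
  classical
  let Φ := fun η : ↥T =>
    (EtCoh.push (X.fromSpecResidueField η.1)).obj ((EtCoh.pull (X.fromSpecResidueField η.1)).obj F)
  have h0 : d = (EtCoh.stalk ξ).map (∑ η, biproduct.π Φ η ≫ biproduct.ι Φ η) d := by
    rw [show (∑ η, biproduct.π Φ η ≫ biproduct.ι Φ η) = 𝟙 _ from
      IsBilimit.total (biproduct.isBilimit Φ), CategoryTheory.Functor.map_id]
    rfl
  rw [h0, Functor.map_sum]
  generalize (Finset.univ : Finset ↥T) = U
  induction U using Finset.induction with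
  | empty => rfl
  | insert η U hη ih =>
    rw [Finset.sum_insert hη]
    refine (congrArg₂ (· + ·) ?_ ih).trans (add_zero 0)
    rw [Functor.map_comp, ConcreteCategory.comp_apply, hd, map_zero]

include hT in
/-- The map is bijective on stalks over points of `T`. -/
theorem stalk_toPtSum_bijective (F : EtCoh.Ab X) {Ω : Type u} [Field Ω] [IsSepClosed Ω]
    (ξ : Spec (CommRingCat.of Ω) ⟶ X) (hξ : ξ.base default ∈ T) :
    Function.Bijective ((EtCoh.stalk ξ).map (toPtSum T F)) := by
  classical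
  let xf := Scheme.SpecToEquivOfField Ω X ξ
  have hfac : Spec.map xf.2 ≫ X.fromSpecResidueField xf.1 = ξ := (Scheme.SpecToEquivOfField Ω X).left_inv ξ
  have h1 : ξ.base default = xf.1 := by
    rw [← hfac, Scheme.Hom.comp_apply]
    exact Scheme.fromSpecResidueField_apply _ _
  let η₀ : ↥T := ⟨xf.1, h1 ▸ hξ⟩
  let Φ := fun η : ↥T =>
    (EtCoh.push (X.fromSpecResidueField η.1)).obj ((EtCoh.pull (X.fromSpecResidueField η.1)).obj F)
  have hπ : ∀ η a, (EtCoh.stalk ξ).map (biproduct.π Φ η) ((EtCoh.stalk ξ).map (toPtSum T F) a) =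
      (EtCoh.stalk ξ).map ((EtCoh.pullPushAdj (X.fromSpecResidueField η.1)).unit.app F) a := fun η a => by
    rw [← ConcreteCategory.comp_apply, ← Functor.map_comp, biproduct.lift_π]
  have hb : Function.Bijective
      ((EtCoh.stalk ξ).map ((EtCoh.pullPushAdj (X.fromSpecResidueField η₀.1)).unit.app F)) := by
    have := stalk_unit_bijective (X.fromSpecResidueField xf.1) (Spec.map xf.2) F
    rwa [hfac] at this
  have hz : ∀ η, η ≠ η₀ → ∀ y : (EtCoh.stalk ξ).obj (Φ η), y = 0 := fun η hη =>
    stalk_push_eq_zero (X.fromSpecResidueField η.1) _ ξ (fun h => hη (by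
      rw [Scheme.range_fromSpecResidueField, h1] at h
      exact Subtype.ext (hT _ η.2 _ η₀.2 (specializes_iff_mem_closure.2 h))))
  constructor
  · intro a b h
    exact hb.1 (by rw [← hπ, ← hπ, h])
  · intro y
    obtain ⟨a, ha⟩ := hb.2 ((EtCoh.stalk ξ).map (biproduct.π Φ η₀) y)
    refine ⟨a, sub_eq_zero.1 (stalk_ptSum_eq_zero T F ξ _ fun η => ?_)⟩
    by_cases h : η = η₀
    · subst h
      rw [map_sub, hπ, ha, sub_self]
    · exact hz η h _

include hT in
/-- Support of the kernel. -/
theorem supp_kernel_toPtSum (F : EtCoh.Ab X) : EtPBC.supp (kernel (toPtSum T F)) ⊆ EtPBC.supp F \ T := by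
  rw [supp_subset_iff]
  intro Ω _ _ ξ hξ
  by_cases hξT : ξ.base default ∈ T
  · refine @AddCommGrpCat.isZero_of_subsingleton _ (subsingleton_of_forall_eq 0 fun y => ?_)
    refine mono_stalk_injective ξ (kernel.ι (toPtSum T F)) ((stalk_toPtSum_bijective T hT F ξ hξT).1 ?_)
    rw [← ConcreteCategory.comp_apply, ← Functor.map_comp, kernel.condition, Functor.map_zero, map_zero, map_zero]
    rfl
  · refine @AddCommGrpCat.isZero_of_subsingleton _ (subsingleton_of_forall_eq 0 fun y => ?_)
    have hz := (supp_subset_iff F (EtPBC.supp F)).1 subset_rfl Ω ‹_› ‹_› ξ fun h => hξ ⟨h, hξT⟩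
    haveI := AddCommGrpCat.subsingleton_of_isZero hz
    exact mono_stalk_injective ξ (kernel.ι (toPtSum T F)) (Subsingleton.elim _ _)

include hT in
/-- Support of the cokernel. -/
theorem supp_cokernel_toPtSum (F : EtCoh.Ab X) :
    EtPBC.supp (cokernel (toPtSum T F)) ⊆ (⋃ x ∈ T, closure {x}) \ T := by
  rw [supp_subset_iff]
  intro Ω _ _ ξ hξ
  refine @AddCommGrpCat.isZero_of_subsingleton _ (subsingleton_of_forall_eq 0 fun y => ?_)
  obtain ⟨z, rfl⟩ := stalk_surjective_of_epi ξ (cokernel.π (toPtSum T F)) y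
  by_cases hξT : ξ.base default ∈ T
  · obtain ⟨a, rfl⟩ := (stalk_toPtSum_bijective T hT F ξ hξT).2 z
    rw [← ConcreteCategory.comp_apply, ← Functor.map_comp, cokernel.condition, Functor.map_zero]
    rfl
  · rw [stalk_ptSum_eq_zero T F ξ z fun η => stalk_push_eq_zero (X.fromSpecResidueField η.1) _ ξ (fun h => ?_) _,
      map_zero]
    rw [Scheme.range_fromSpecResidueField] at h
    exact hξ ⟨Set.mem_iUnion₂.2 ⟨η.1, η.2, h⟩, hξT⟩

/-- Cokernels of sheaves killed by `n` are killed by `n`. -/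
theorem nsmul_id_cokernel {C : Type*} [Category C] [Abelian C] {A B : C} (φ : A ⟶ B) {n : ℕ}
    (h : n • 𝟙 B = 0) : n • 𝟙 (cokernel φ) = 0 := by
  rw [← cancel_epi (cokernel.π φ), comp_zero, Preadditive.comp_nsmul, Category.comp_id,
    show n • cokernel.π φ = (n • 𝟙 B) ≫ cokernel.π φ by rw [Preadditive.nsmul_comp, Category.id_comp],
    h, zero_comp]

/-- Kernels of sheaves killed by `n` are killed by `n`. -/
theorem nsmul_id_kernel {C : Type*} [Category C] [Abelian C] {A B : C} (φ : A ⟶ B) {n : ℕ}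
    (h : n • 𝟙 A = 0) : n • 𝟙 (kernel φ) = 0 := by
  rw [← cancel_mono (kernel.ι φ), zero_comp, Preadditive.nsmul_comp, Category.id_comp,
    show n • kernel.ι φ = kernel.ι φ ≫ (n • 𝟙 A) by rw [Preadditive.comp_nsmul, Category.comp_id],
    h, comp_zero]

/-- The dévissage. -/
theorem subsingleton_H_dimFun [AlgebraicGeometry.IsNoetherian X] {n : ℕ} (φ : X → ℕ)
    (hφ : ∀ x y : X, x ⤳ y → x ≠ y → φ y < φ x)
    (hfield : ∀ (x : X) (G : EtCoh.Ab (Spec (X.residueField x))), n • 𝟙 G = 0 → ∀ q, φ x < q →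
      Subsingleton (EtCoh.H (Spec (X.residueField x)) G q))
    (hstalk : ∀ (x : X) (G : EtCoh.Ab (Spec (X.residueField x))), n • 𝟙 G = 0 → ∀ p, 0 < p →
      EtPBC.supp ((EtCoh.Rpush (X.fromSpecResidueField x) p).obj G) ⊆ {y | φ y + p < φ x}) :
    ∀ (m : ℕ) (F : EtCoh.Ab X), n • 𝟙 F = 0 → EtPBC.supp F ⊆ {y | φ y < m} → ∀ q, m ≤ q →
      Subsingleton (EtCoh.H X F q) := by
  intro m
  induction m using Nat.strong_induction_on with
  | _ m ih =>
  intro F hF hsupp q hq
  obtain _ | m := m
  · have hz : IsZero F := isZero_of_supp_empty (hsupp.trans fun y hy => absurd (show φ y < 0 from hy) (Nat.not_lt_zero _))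
    exact AddCommGrpCat.subsingleton_of_isZero (Functor.map_isZero (EtCoh.HF X q) hz)
  refine subsingleton_H_of_parts (fun y => φ y < m + 1) F (fun x hx => hsupp hx) q fun T₁ => ?_
  classical
  let A := closP (fun y => φ y < m + 1) T₁
  let G := suppPart A F
  have hG : n • 𝟙 G = 0 := nsmul_id_kernel _ hF
  let T : Finset X := (T₁.image Subtype.val).filter fun x => φ x = m
  have hT : ∀ x ∈ T, ∀ y ∈ T, x ⤳ y → x = y := fun x hx y hy h => by
    by_contra hne
    have := hφ x y h hne
    rw [(Finset.mem_filter.1 hx).2, (Finset.mem_filter.1 hy).2] at this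
    exact lt_irrefl _ this
  have hlt : ∀ y ∈ (A : Set X), y ∉ T → φ y < m := fun y hy hyT => by
    obtain ⟨x, hx, hxy⟩ := Set.mem_iUnion₂.1 hy
    have hxm : φ x.1 ≤ m := Nat.lt_succ_iff.1 x.2
    by_cases he : x.1 = y
    · refine lt_of_le_of_ne (he ▸ hxm) fun h => hyT (Finset.mem_filter.2 ⟨Finset.mem_image.2 ⟨x, hx, he⟩, h⟩)
    · exact lt_of_lt_of_le (hφ x.1 y (specializes_iff_mem_closure.2 hxy) he) hxm
  let u := toPtSum T G
  have hS : ∀ η : ↥T, n • 𝟙 ((EtCoh.pull (X.fromSpecResidueField η.1)).obj G) = 0 := fun η => by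
    haveI : (EtCoh.pull (X.fromSpecResidueField η.1)).Additive :=
      Adjunction.left_adjoint_additive (EtCoh.pullPushAdj _)
    exact map_nsmul_id_eq_zero _ hG
  have hsum : n • 𝟙 (ptSum T G) = 0 := by
    refine biproduct.hom_ext _ _ fun η => ?_
    haveI : (EtCoh.push (X.fromSpecResidueField η.1)).Additive :=
      Adjunction.right_adjoint_additive (EtCoh.pullPushAdj _)
    rw [zero_comp, Preadditive.nsmul_comp, Category.id_comp,
      ← Category.comp_id (biproduct.π _ η), ← Preadditive.comp_nsmul,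
      map_nsmul_id_eq_zero (EtCoh.push (X.fromSpecResidueField η.1)) (hS η), comp_zero]
  have hK : EtPBC.supp (kernel u) ⊆ {y | φ y < m} := fun y hy =>
    hlt y (supp_suppPart A F (supp_kernel_toPtSum T hT G hy).1) (supp_kernel_toPtSum T hT G hy).2
  have hC : EtPBC.supp (cokernel (Abelian.factorThruCoimage u)) ⊆ {y | φ y < m} := fun y hy => by
    have h := supp_cokernel_coimage u (supp_cokernel_toPtSum T hT G) hy
    refine hlt y ?_ h.2
    obtain ⟨x, hx, hxy⟩ := Set.mem_iUnion₂.1 h.1
    obtain ⟨x', hx', rfl⟩ := Finset.mem_image.1 (Finset.mem_filter.1 hx).1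
    exact Set.mem_iUnion₂.2 ⟨x', hx', hxy⟩
  have hSH : Subsingleton (EtCoh.H X (ptSum T G) q) := by
    refine subsingleton_of_forall_eq 0 fun z => ?_
    rw [ext_eq_sum_components _ z]
    refine Finset.sum_eq_zero fun η _ => ?_
    haveI := pull_preservesFiniteLimits (X.fromSpecResidueField η.1)
    have hηm : φ η.1 = m := (Finset.mem_filter.1 η.2).2
    obtain ⟨r, rfl⟩ : ∃ r, q = r + 1 := ⟨q - 1, by omega⟩
    haveI : Subsingleton (EtCoh.H X ((EtCoh.push (X.fromSpecResidueField η.1)).obj
        ((EtCoh.pull (X.fromSpecResidueField η.1)).obj G)) (r + 1)) := by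
      refine subsingleton_H_push_of_Rpush _ r _ (fun p j hp hpj => ?_)
        (hfield η.1 _ (hS η) (r + 1) (by omega))
      refine ih (m - p) (by omega) _ ?_ (fun y hy => ?_) j (by omega)
      · exact map_nsmul_id_eq_zero (EtCoh.Rpush (X.fromSpecResidueField η.1) p) (hS η)
      · have := hstalk η.1 _ (hS η) p hp hy
        show φ y < m - p
        have h' : φ y + p < φ η.1 := this
        omega
    rw [Subsingleton.elim (α := EtCoh.H X ((EtCoh.push (X.fromSpecResidueField η.1)).obj
        ((EtCoh.pull (X.fromSpecResidueField η.1)).obj G)) (r + 1)) (z.comp _ (add_zero (r + 1))) 0]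
    exact Ext.zero_comp _ _ _ _ _
  haveI := ih m (Nat.lt_succ_self m) (kernel u) (nsmul_id_kernel u hG) hK q (by omega)
  obtain ⟨r, rfl⟩ : ∃ r, q = r + 1 := ⟨q - 1, by omega⟩
  haveI := ih m (Nat.lt_succ_self m) (cokernel (Abelian.factorThruCoimage u)) (nsmul_id_cokernel _ hsum) hC r
    (by omega)
  haveI : Subsingleton (EtCoh.H X (cokernel (kernel.ι u)) (r + 1)) := by
    refine subsingleton_of_forall_eq 0 fun x => ?_
    have hU : (ShortComplex.mk (Abelian.factorThruCoimage u) (cokernel.π _) (cokernel.condition _)).ShortExact :=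
      CohFin.cokerSeq_shortExact' (Abelian.factorThruCoimage u)
    obtain ⟨y, rfl⟩ := Ext.covariant_sequence_exact₁ _ hU x
      (Subsingleton.elim (α := EtCoh.H X (ptSum T G) (r + 1)) _ _) (n₀ := r) rfl
    rw [Subsingleton.elim (α := EtCoh.H X (cokernel (Abelian.factorThruCoimage u)) r) y 0]
    exact Ext.zero_comp _ _ _ _ _
  refine subsingleton_of_forall_eq 0 fun x => ?_
  have hU : (ShortComplex.mk (kernel.ι u) (cokernel.π _) (cokernel.condition _)).ShortExact :=
    CohFin.cokerSeq_shortExact' (kernel.ι u)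
  obtain ⟨y, rfl⟩ := Ext.covariant_sequence_exact₂ _ hU x
    (Subsingleton.elim (α := EtCoh.H X (cokernel (kernel.ι u)) (r + 1)) _ _)
  rw [Subsingleton.elim (α := EtCoh.H X (kernel u) (r + 1)) y 0]
  exact Ext.zero_comp _ _ _ _ _

end Groth.FieldPush
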