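import Groth.Agent.EtPbc.DimFunDevissage
import Groth.Agent.EtaleBase.Limit.StalkPush
import Groth.Agent.AlgSpEt.StrictHens
import Groth.Agent.S0540
import Groth.Agent.S2817
import Groth.Prelude.Def_Cyc

/-!
# Stalks of direct images from points at their specializations
-/

set_option autoImplicit false
set_option linter.style.haveILetI false
set_option backward.isDefEq.respectTransparency.types false
set_option maxHeartbeats 1000000
set_option maxRecDepth 4000

universe u

open CategoryTheory CategoryTheory.Limits CategoryTheory.Abelian AlgebraicGeometry Opposite TopologicalSpace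
open scoped TensorProduct

namespace Groth.FieldPush

open Groth.EtaleBase Groth.EtaleBase.SitePt Groth.EtPbc.PointSupp

/-- Transport of vanishing for sheaves killed by `n` along isomorphisms. -/
theorem subsingleton_H_of_iso {Z W : Scheme.{u}} (e : Z ≅ W) {n : ℕ} {q : ℕ}
    (h : ∀ G : EtCoh.Ab W, n • 𝟙 G = 0 → Subsingleton (EtCoh.H W G q))
    (F : EtCoh.Ab Z) (hF : n • 𝟙 F = 0) : Subsingleton (EtCoh.H Z F q) := by
  haveI := pull_preservesFiniteLimits e.hom
  haveI : (EtCoh.push e.hom).Additive := Adjunction.right_adjoint_additive (EtCoh.pullPushAdj e.hom)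
  haveI := h _ (map_nsmul_id_eq_zero (EtCoh.push e.hom) hF)
  exact (InjCoh.HofPush_bijective e.hom F (fun p hp => isZero_Rpush e.hom F p hp) q).2.subsingleton

variable {X : Scheme.{u}}

/-- Off the closure of the point the higher direct images vanish. -/
theorem isZero_stalk_Rpush_not_specializes [QuasiSeparatedSpace X] (x : X)
    (G : EtCoh.Ab (Spec (X.residueField x))) {Ω : Type u} [Field Ω] [IsSepClosed Ω]
    (ξ : Spec (CommRingCat.of Ω) ⟶ X) (hx : ¬ x ⤳ ξ.base default) (p : ℕ) :
    IsZero ((EtCoh.stalk ξ).obj ((EtCoh.Rpush (X.fromSpecResidueField x) p).obj G)) := by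
  haveI : QuasiCompact (X.fromSpecResidueField x) := quasiCompact _
  let b : Spec (EtBase.etaleLocalRing ξ) ⟶ Spec (X.presheaf.stalk (ξ default)) :=
    Spec.map (Groth.AlgSpEt.StrictLocal.toEtale ξ)
  let m := X.fromSpecStalk (ξ default)
  obtain ⟨α⟩ := EtLimit.nonempty_stalk_Rpush_iso (X.fromSpecResidueField x) ξ (b ≫ m) (𝟙 _)
    (Category.id_comp _) p
  haveI : IsEmpty ↥(pullback (X.fromSpecResidueField x) (b ≫ m)) := ⟨fun z => hx (by
    have h1 : (X.fromSpecResidueField x).base ((pullback.fst (X.fromSpecResidueField x) (b ≫ m)).base z) = x :=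
      Scheme.fromSpecResidueField_apply _ _
    have h2 := congrArg (fun f : _ ⟶ X => f.base z) (pullback.condition (f := X.fromSpecResidueField x) (g := b ≫ m))
    have h3 : m.base (b.base ((pullback.snd (X.fromSpecResidueField x) (b ≫ m)).base z)) = x := h2.symm.trans h1
    rw [← h3]
    exact (X.range_fromSpecStalk (x := ξ default)).subset ⟨_, rfl⟩)⟩
  refine IsZero.of_iso ?_ (α.app G)
  refine Functor.map_isZero (EtCoh.HF _ p) ?_
  rw [IsZero.iff_id_eq_zero]
  exact stalkAt_jointlyReflectIsomorphisms.jointlyFaithful.map_injective fun v => (IsEmpty.false v).elim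

/-- Primes of a strict henselization over one prime are incomparable. -/
theorem eq_of_le_of_comap_eq {O R : Type u} [CommRing O] [IsLocalRing O] [IsNoetherianRing O]
    [CommRing R] [IsLocalRing R] [Algebra O R] [IsLocalHom (algebraMap O R)] [Hensel.IsStrictHenselization O R]
    (p : Ideal O) [p.IsPrime] (Q Q' : PrimeSpectrum R) (hQ : Q.asIdeal.comap (algebraMap O R) = p)
    (hQ' : Q'.asIdeal.comap (algebraMap O R) = p) (h : Q ≤ Q') : Q = Q' := by
  obtain ⟨N, K, _, _, -, ⟨e⟩⟩ := Groth.Agent.S2817.result O R p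
  haveI : IsArtinianRing (p.Fiber R) := Function.Surjective.isArtinianRing
    (f := e.symm.toAlgHom.toRingHom) e.symm.surjective
  let E := PrimeSpectrum.preimageOrderIsoFiber O R ⟨p, ‹_›⟩
  let q : ↑(PrimeSpectrum.comap (algebraMap O R) ⁻¹' {(⟨p, ‹_›⟩ : PrimeSpectrum O)}) := ⟨Q, PrimeSpectrum.ext hQ⟩
  let q' : ↑(PrimeSpectrum.comap (algebraMap O R) ⁻¹' {(⟨p, ‹_›⟩ : PrimeSpectrum O)}) := ⟨Q', PrimeSpectrum.ext hQ'⟩
  have hle : E q ≤ E q' := E.monotone h
  haveI : (E q).asIdeal.IsMaximal := inferInstance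
  have : E q = E q' := PrimeSpectrum.ext
    (Ideal.IsMaximal.eq_of_le inferInstance (E q').2.ne_top hle)
  exact congrArg Subtype.val (E.injective this)

/-- At a specialization the higher direct images are computed on the fields of the strict
henselization over the point. -/
theorem isZero_stalk_Rpush_fields [AlgebraicGeometry.IsNoetherian X] (x : X) {n : ℕ}
    (G : EtCoh.Ab (Spec (X.residueField x))) (hG : n • 𝟙 G = 0) {Ω : Type u} [Field Ω] [IsSepClosed Ω]
    (ξ : Spec (CommRingCat.of Ω) ⟶ X) (hxy : x ⤳ ξ.base default) (p : ℕ)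
    (h : ∀ P ∈ ((RingHom.ker (Cyc.specMap (ξ default) x hxy)).map
        (Groth.AlgSpEt.StrictLocal.toEtale ξ).hom).minimalPrimes,
      ∀ G' : EtCoh.Ab (Spec (CommRingCat.of (FractionRing (EtBase.etaleLocalRing ξ ⧸ P)))), n • 𝟙 G' = 0 →
        Subsingleton (EtCoh.H _ G' p)) :
    IsZero ((EtCoh.stalk ξ).obj ((EtCoh.Rpush (X.fromSpecResidueField x) p).obj G)) := by
  classical
  let O := X.presheaf.stalk (ξ default)
  let R := EtBase.etaleLocalRing ξ
  let g : O ⟶ R := Groth.AlgSpEt.StrictLocal.toEtale ξ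
  let φ : O ⟶ X.residueField x := X.presheaf.stalkSpecializes hxy ≫ X.residue x
  let 𝔭 := RingHom.ker φ.hom
  haveI : 𝔭.IsPrime := RingHom.ker_isPrime φ.hom
  letI : Algebra O R := g.hom.toAlgebra
  obtain ⟨hloc, hsh⟩ := Groth.AlgSpEt.StrictHens.isStrictHenselization ξ
  haveI := hloc
  haveI := hsh
  haveI : IsNoetherianRing R := (Groth.Agent.S0540.result O R).1 inferInstance
  let a : Spec (X.residueField x) ⟶ Spec O := Spec.map φ
  let b : Spec R ⟶ Spec O := Spec.map g
  let m := X.fromSpecStalk (ξ default)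
  have ham : a ≫ m = X.fromSpecResidueField x := by
    show Spec.map (X.presheaf.stalkSpecializes hxy ≫ X.residue x) ≫ X.fromSpecStalk (ξ default) = _
    rw [Spec.map_comp, Category.assoc, Scheme.SpecMap_stalkSpecializes_fromSpecStalk]
    rfl
  haveI : IsPreimmersion (a ≫ m) := ham ▸ inferInstance
  haveI : IsPreimmersion a := IsPreimmersion.of_comp a m
  have hφ : ∀ c : X.residueField x, ∃ r u : O, φ r ≠ 0 ∧ φ r * c = φ u := fun c => by
    have hs := ((IsPreimmersion.SpecMap_iff φ).1 ‹IsPreimmersion a›).2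
    obtain ⟨u, r, c', hc', hr, e⟩ :=
      (RingHom.surjective_localRingHom_iff (IsLocalRing.maximalIdeal (X.residueField x))).1
        (hs (IsLocalRing.maximalIdeal (X.residueField x)) inferInstance) c
    exact ⟨r, u, (IsLocalRing.notMem_maximalIdeal.1 hr).ne_zero,
      mul_left_cancel₀ (IsLocalRing.notMem_maximalIdeal.1 hc').ne_zero (by rw [← mul_assoc]; exact e)⟩
  letI : Algebra O (X.residueField x) := φ.hom.toAlgebra
  -- the coordinate ring of the fibre
  let T := X.residueField x ⊗[O] R
  have hT : ∀ t : T, ∃ (r : O) (u : R), φ r ≠ 0 ∧ algebraMap O T r * t = 1 ⊗ₜ u := by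
    intro t
    induction t using TensorProduct.induction_on with
    | zero => exact ⟨1, 0, by simp, by simp⟩
    | tmul c v =>
      obtain ⟨r, u, hr, e⟩ := hφ c
      refine ⟨r, u • v, hr, ?_⟩
      rw [Algebra.TensorProduct.algebraMap_apply, Algebra.TensorProduct.tmul_mul_tmul, one_mul,
        show algebraMap O (X.residueField x) r * c = u • (1 : X.residueField x) by
          rw [Algebra.smul_def, mul_one]; exact e, TensorProduct.smul_tmul]
    | add t₁ t₂ h₁ h₂ =>
      obtain ⟨r₁, u₁, hr₁, e₁⟩ := h₁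
      obtain ⟨r₂, u₂, hr₂, e₂⟩ := h₂
      refine ⟨r₁ * r₂, algebraMap O R r₂ * u₁ + algebraMap O R r₁ * u₂, by rw [map_mul]; exact mul_ne_zero hr₁ hr₂, ?_⟩
      have h' : ∀ r : O, ((1 : X.residueField x) ⊗ₜ[O] algebraMap O R r : T) = algebraMap O T r := fun r => by
        rw [Algebra.algebraMap_eq_smul_one (A := R), TensorProduct.tmul_smul, Algebra.algebraMap_eq_smul_one (A := T)]
        rfl
      rw [TensorProduct.tmul_add, ← one_mul (1 : X.residueField x), ← Algebra.TensorProduct.tmul_mul_tmul,
        ← Algebra.TensorProduct.tmul_mul_tmul, h', h', ← e₁, ← e₂, map_mul]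
      ring
  haveI : IsNoetherianRing T := by
    rw [isNoetherianRing_iff_ideal_fg]
    intro J
    let i := (Algebra.TensorProduct.includeRight : R →ₐ[O] T).toRingHom
    obtain ⟨s, hs⟩ := IsNoetherian.noetherian (J.comap i)
    refine ⟨s.image i, le_antisymm (Ideal.span_le.2 fun y hy => ?_) fun t ht => ?_⟩
    · obtain ⟨z, hz, rfl⟩ := Finset.mem_image.1 hy
      exact (hs ▸ Ideal.subset_span hz : z ∈ J.comap i)
    · obtain ⟨r, u, hr, e⟩ := hT t
      have hu : u ∈ J.comap i := show (1 : X.residueField x) ⊗ₜ u ∈ J by rw [← e]; exact J.mul_mem_left _ ht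
      rw [← hs] at hu
      have h1 : i u ∈ Ideal.span (↑(s.image i) : Set T) := by
        rw [Finset.coe_image, ← Ideal.map_span]
        exact Ideal.mem_map_of_mem i hu
      have hru : IsUnit (algebraMap O T r) := by
        rw [Algebra.TensorProduct.algebraMap_apply]
        exact (IsUnit.mk0 _ hr).map (Algebra.TensorProduct.includeLeftRingHom : X.residueField x →+* T)
      exact (Ideal.unit_mul_mem_iff_mem _ hru).1 (e ▸ h1)
  let Z := pullback a b
  haveI : AlgebraicGeometry.IsNoetherian Z := by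
    haveI : IsNoetherianRing (CommRingCat.of T) := inferInstanceAs (IsNoetherianRing T)
    let eZ : Z ⟶ Spec (CommRingCat.of T) := (pullbackSpecIso O (X.residueField x) R).hom
    haveI : IsIso eZ := inferInstanceAs (IsIso (pullbackSpecIso O (X.residueField x) R).hom)
    haveI : IsLocallyNoetherian Z := LocallyOfFiniteType.isLocallyNoetherian eZ
    haveI : CompactSpace Z := QuasiCompact.compactSpace_of_compactSpace eZ
    exact {}
  let s : Z ⟶ Spec R := pullback.snd a b
  have hcomap : ∀ z : Z, (s.base z).asIdeal.comap (algebraMap O R) = 𝔭 := fun z => by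
    have h1 := congrArg (fun f : _ ⟶ Spec O => f.base z) (pullback.condition (f := a) (g := b))
    have h2 : (b.base (s.base z)).asIdeal = (a.base ((pullback.fst a b).base z)).asIdeal :=
      congrArg PrimeSpectrum.asIdeal h1.symm
    refine h2.trans ?_
    rw [Subsingleton.elim (α := PrimeSpectrum (X.residueField x)) ((pullback.fst a b).base z) ⊥]
    exact (RingHom.ker_eq_comap_bot φ.hom).symm
  have hgen : ∀ z : Z, z ∈ genericPoints Z := fun z => by
    refine ⟨isIrreducible_singleton.closure, fun t ht hle => ?_⟩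
    obtain ⟨g', hg'⟩ := QuasiSober.sober ht.closure isClosed_closure
    have h1 : g' ⤳ z := hg'.specializes (subset_closure (hle (subset_closure rfl)))
    have h2 : s.base g' ⤳ s.base z := h1.map s.continuous
    have h3 := eq_of_le_of_comap_eq 𝔭 (s.base g') (s.base z) (hcomap g') (hcomap z)
      ((PrimeSpectrum.le_iff_specializes _ _).2 h2)
    rw [← s.isEmbedding.injective h3, hg'.def]
    exact subset_closure
  obtain ⟨α⟩ := EtLimit.nonempty_stalk_Rpush_iso (X.fromSpecResidueField x) ξ (b ≫ m) (𝟙 _)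
    (Category.id_comp _) p
  refine IsZero.of_iso ?_ (α.app G)
  haveI : QuasiSeparatedSpace X := inferInstance
  haveI : (EtCoh.pull (pullback.fst (X.fromSpecResidueField x) (b ≫ m))).Additive :=
    Adjunction.left_adjoint_additive (EtCoh.pullPushAdj _)
  have hP : IsPullback (pullback.fst a b) (pullback.snd a b) (X.fromSpecResidueField x) (b ≫ m) := by
    rw [← ham]
    exact IsPullback.of_isLimit (pullbackIsPullbackOfCompMono a b m)
  suffices key : ∀ F : EtCoh.Ab Z, n • 𝟙 F = 0 → Subsingleton (EtCoh.H Z F p) by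
    haveI := subsingleton_H_of_iso hP.isoPullback.symm key _
      (map_nsmul_id_eq_zero (EtCoh.pull (pullback.fst (X.fromSpecResidueField x) (b ≫ m))) hG)
    exact AddCommGrpCat.isZero_of_subsingleton (AddCommGrpCat.of (EtCoh.H (pullback (X.fromSpecResidueField x) (b ≫ m))
      ((EtCoh.pull (pullback.fst (X.fromSpecResidueField x) (b ≫ m))).obj G) p))
  intro F hF
  refine subsingleton_H_of_all_generic hgen F p fun η => ?_
  haveI := pull_preservesFiniteLimits (Z.fromSpecResidueField η.1)
  haveI : IsClosedImmersion (Z.fromSpecResidueField η.1) := by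
    refine IsClosedImmersion.of_isPreimmersion _ ?_
    rw [Scheme.range_fromSpecResidueField]
    refine closure_eq_iff_isClosed.1 (Set.Subset.antisymm (fun w hw => ?_) subset_closure)
    exact (eq_of_specializes_genericPoints (hgen w) (specializes_iff_mem_closure.2 hw)).symm
  haveI : (EtCoh.pull (Z.fromSpecResidueField η.1)).Additive := Adjunction.left_adjoint_additive (EtCoh.pullPushAdj _)
  let Q := s.base η.1
  have hmin : Q.asIdeal ∈ (𝔭.map (algebraMap O R)).minimalPrimes := by
    refine ⟨⟨Q.2, Ideal.map_le_iff_le_comap.2 (hcomap η.1).ge⟩, fun J hJ hJQ => ?_⟩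
    have hJc : J.comap (algebraMap O R) = 𝔭 :=
      le_antisymm ((Ideal.comap_mono hJQ).trans (hcomap η.1).le) (Ideal.map_le_iff_le_comap.1 hJ.2)
    exact (congrArg PrimeSpectrum.asIdeal
      (eq_of_le_of_comap_eq 𝔭 ⟨J, hJ.1⟩ Q hJc (hcomap η.1) hJQ)).ge
  have hf : Function.Surjective (s.residueFieldMap η.1).hom := fun y => by
    obtain ⟨c, rfl⟩ := Z.residue_surjective η.1 y
    obtain ⟨d, rfl⟩ := s.stalkMap_surjective η.1 c
    exact ⟨(Spec R).residue _ d, ConcreteCategory.congr_hom (Scheme.residue_residueFieldMap s η.1) d⟩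
  let e₁ : Z.residueField η.1 ≃+* Q.asIdeal.ResidueField :=
    (RingEquiv.ofBijective (s.residueFieldMap η.1).hom ⟨(s.residueFieldMap η.1).hom.injective, hf⟩).symm.trans
      (Scheme.Spec.residueFieldIso R Q).commRingCatIsoToRingEquiv
  let e₂ : Q.asIdeal.ResidueField ≃+* FractionRing (R ⧸ Q.asIdeal) :=
    (IsLocalization.algEquiv (nonZeroDivisors (R ⧸ Q.asIdeal)) Q.asIdeal.ResidueField
      (FractionRing (R ⧸ Q.asIdeal))).toRingEquiv
  haveI : Subsingleton (EtCoh.H (Spec (Z.residueField η.1)) ((EtCoh.pull (Z.fromSpecResidueField η.1)).obj F) p) :=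
    subsingleton_H_of_iso (Scheme.Spec.mapIso (e₁.trans e₂).toCommRingCatIso.op).symm
      (h Q.asIdeal hmin) _ (map_nsmul_id_eq_zero _ hF)
  exact (InjCoh.HofPush_bijective (Z.fromSpecResidueField η.1) _
    (fun r hr => isZero_Rpush (Z.fromSpecResidueField η.1) _ r hr) p).1.subsingleton

end Groth.FieldPush
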