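import Groth.Agent.EtPbc.LerayVanish
import Groth.Agent.EtPbc.TorsionCurve
import Groth.Agent.EtaleBase.HpullUnivHomeo
import Groth.Agent.S0538
import Groth.Agent.EtPbc.StalkPointFields
import Mathlib.FieldTheory.RatFunc.AsPolynomial
import Mathlib.FieldTheory.PurelyInseparable.PerfectClosure
import Mathlib.RingTheory.AlgebraicIndependent.TranscendenceBasis

/-!
# Cohomological dimension of transcendental field extensions
-/

set_option autoImplicit false
set_option linter.style.haveILetI false
set_option backward.isDefEq.respectTransparency.types false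
set_option maxHeartbeats 1000000

universe u

open CategoryTheory CategoryTheory.Limits CategoryTheory.Abelian AlgebraicGeometry Opposite TopologicalSpace
open scoped TensorProduct

namespace Groth.FieldPush

open Groth.EtaleBase

/-- Sheaves killed by `n` have no cohomology above degree `e`. -/
def CdK (n : ℕ) (K : Type u) [Field K] (e : ℕ) : Prop :=
  ∀ G : EtCoh.Ab (Spec (CommRingCat.of K)), n • 𝟙 G = 0 → ∀ q, e < q →
    Subsingleton (EtCoh.H (Spec (CommRingCat.of K)) G q)

/-- Integral morphisms do not increase the cohomological dimension. -/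
theorem subsingleton_H_integral {Z W : Scheme.{u}} (g : Z ⟶ W) [IsIntegralHom g] {n q : ℕ}
    (h : ∀ G : EtCoh.Ab W, n • 𝟙 G = 0 → Subsingleton (EtCoh.H W G q))
    (G : EtCoh.Ab Z) (hG : n • 𝟙 G = 0) : Subsingleton (EtCoh.H Z G q) := by
  haveI := pull_preservesFiniteLimits g
  haveI : (EtCoh.push g).Additive := Adjunction.right_adjoint_additive (EtCoh.pullPushAdj g)
  haveI := h _ (map_nsmul_id_eq_zero (EtCoh.push g) hG)
  exact (InjCoh.HofPush_bijective g G (fun p hp => Groth.EtaleBase.isZero_Rpush g G p hp) q).2.subsingleton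

/-- Algebraic extensions do not increase the cohomological dimension. -/
theorem CdK.of_algebraic {n e : ℕ} (K L : Type u) [Field K] [Field L] [Algebra K L] [Algebra.IsAlgebraic K L]
    (h : CdK n K e) : CdK n L e := fun G hG q hq => by
  haveI : IsIntegralHom (Spec.map (CommRingCat.ofHom (algebraMap K L))) :=
    IsIntegralHom.SpecMap_iff.2 (algebraMap_isIntegral_iff.2 inferInstance)
  exact subsingleton_H_integral (Spec.map (CommRingCat.ofHom (algebraMap K L))) (fun G' hG' => h G' hG' q hq) G hG

/-- Sheaves killed by a positive integer are torsion. -/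
theorem isTorsion_of_nsmul {X : Scheme.{u}} {G : EtCoh.Ab X} {n : ℕ} (hn : 0 < n) (hG : n • 𝟙 G = 0) :
    EtCoh.IsTorsion G := fun U s x => by
  obtain ⟨V, g, hv, k, hk⟩ := Groth.Misc1.Kummer.isPrimaryTorsion_of_nsmul_id hG U s x
  exact ⟨V, g, hv, isOfFinAddOrder_iff_nsmul_eq_zero.2 ⟨n ^ k, pow_pos hn k, hk⟩⟩

/-- Fields of transcendence degree at most one over a separably closed field. -/
theorem cdK_of_sepClosed {n : ℕ} (hn : 0 < n) (k L : Type u) [Field k] [IsSepClosed k] [Field L] [Algebra k L]
    (htr : Algebra.trdeg k L ≤ 1) : CdK n L 1 := by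
  intro G hG q hq
  let A := AlgebraicClosure L
  let E := perfectClosure L A
  let C := algebraicClosure k A
  haveI : IsAlgClosed C := (algebraicClosure.isAlgClosure k A).isAlgClosed
  haveI : Algebra.IsAlgebraic k C := (algebraicClosure.isAlgClosure k A).isAlgebraic
  haveI : IsPurelyInseparable k C := inferInstance
  have hCE : ∀ c : C, (c : A) ∈ E := fun c => by
    obtain ⟨m, y, hy⟩ := IsPurelyInseparable.pow_mem k (ringExpChar k) c
    haveI : ExpChar L (ringExpChar k) := expChar_of_injective_algebraMap (algebraMap k L).injective _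
    refine mem_perfectClosure_iff.2 ⟨m, algebraMap k L y, ?_⟩
    rw [show ringExpChar L = ringExpChar k from ringExpChar.eq L (ringExpChar k),
      ← IsScalarTower.algebraMap_apply]
    exact congrArg (Subtype.val : C → A) hy
  let φ : C →+* E :=
    { toFun := fun c => ⟨c, hCE c⟩
      map_one' := rfl, map_mul' := fun _ _ => rfl, map_zero' := rfl, map_add' := fun _ _ => rfl }
  letI : Algebra C E := φ.toAlgebra
  haveI : IsScalarTower k C E := IsScalarTower.of_algebraMap_eq fun _ => rfl
  have hE : Algebra.trdeg C E ≤ 1 := by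
    rw [← (trdeg_add_eq k C (A := E)).trans (trdeg_add_eq k L (A := E)).symm |>.trans
      (by rw [trdeg_eq_zero (R := L) (A := E), add_zero] : _ = Algebra.trdeg k L)] at htr
    exact le_trans (self_le_add_left _ _) htr
  let g := Spec.map (CommRingCat.ofHom (algebraMap L E))
  haveI : IsIntegralHom g := IsIntegralHom.SpecMap_iff.2 (algebraMap_isIntegral_iff.2 inferInstance)
  haveI : UniversallyInjective g := by
    refine ((tfae_universallyInjective g).out 0 1).2 ?_
    intro K _ g₁ g₂ h
    have h' : Spec.map (CommRingCat.ofHom (algebraMap L E) ≫ Spec.preimage g₁) =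
        Spec.map (CommRingCat.ofHom (algebraMap L E) ≫ Spec.preimage g₂) := by
      rw [Spec.map_comp, Spec.map_comp, Spec.map_preimage, Spec.map_preimage]; exact h
    have h2 := congrArg CommRingCat.Hom.hom (Spec.map_injective h')
    rw [← Spec.map_preimage g₁, ← Spec.map_preimage g₂]
    exact congrArg Spec.map (CommRingCat.hom_ext (IsPurelyInseparable.injective_comp_algebraMap L E K h2))
  haveI : Surjective g := ⟨fun x => ⟨default, Subsingleton.elim (α := PrimeSpectrum L) _ _⟩⟩
  haveI := pull_preservesFiniteLimits g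
  haveI : (EtCoh.pull g).Additive := Adjunction.left_adjoint_additive (EtCoh.pullPushAdj g)
  obtain ⟨p, rfl⟩ : ∃ p, q = p + 2 := ⟨q - 2, by omega⟩
  haveI := subsingleton_H_field (K := E) C hE _ (isTorsion_of_nsmul hn (map_nsmul_id_eq_zero (EtCoh.pull g) hG)) p
  exact (InjCoh.Hpull_bijective_univHomeo g G (p + 2)).1.subsingleton

open Polynomial in
/-- Rational functions tensored with an extension field form a domain. -/
theorem isDomain_ratFunc_tensor (K R : Type u) [Field K] [Field R] [Algebra K R] :
    IsDomain (RatFunc K ⊗[K] R) := by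
  classical
  let m : RatFunc K →+* RatFunc R := IsFractionRing.map (A := K[X]) (B := R[X]) (K := RatFunc K) (L := RatFunc R)
    (j := Polynomial.mapRingHom (algebraMap K R)) (Polynomial.map_injective _ (algebraMap K R).injective)
  have hm : ∀ q : K[X], m (algebraMap K[X] (RatFunc K) q) = algebraMap R[X] (RatFunc R) (q.map (algebraMap K R)) :=
    fun q => IsLocalization.map_eq _ q
  letI : Algebra K (RatFunc R) := ((algebraMap R (RatFunc R)).comp (algebraMap K R)).toAlgebra
  have hmc : ∀ c : K, m (algebraMap K (RatFunc K) c) = algebraMap R (RatFunc R) (algebraMap K R c) := fun c => by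
    rw [IsScalarTower.algebraMap_apply K K[X] (RatFunc K), hm, Polynomial.algebraMap_apply,
      Algebra.algebraMap_self, RingHom.id_apply, Polynomial.map_C,
      IsScalarTower.algebraMap_apply R R[X] (RatFunc R), Polynomial.algebraMap_apply, Algebra.algebraMap_self,
      RingHom.id_apply]
  let mA : RatFunc K →ₐ[K] RatFunc R := { m with commutes' := hmc }
  let rA : R →ₐ[K] RatFunc R := { algebraMap R (RatFunc R) with commutes' := fun _ => rfl }
  let ι : RatFunc K ⊗[K] R →ₐ[K] RatFunc R := Algebra.TensorProduct.lift mA rA fun _ _ => Commute.all _ _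
  suffices hinj : Function.Injective ι from hinj.isDomain ι.toRingHom
  let j : R ⊗[K] K[X] →ₐ[K] RatFunc K ⊗[K] R :=
    ((Algebra.TensorProduct.map (IsScalarTower.toAlgHom K K[X] (RatFunc K)) (AlgHom.id K R)).comp
      (Algebra.TensorProduct.comm K R K[X]).toAlgHom)
  have hj : ∀ u, ι (j u) = algebraMap R[X] (RatFunc R) ((polyEquivTensor K R).symm u) := fun u => by
    induction u using TensorProduct.induction_on with
    | zero => simp
    | tmul r q =>
      simp only [j, AlgHom.comp_apply, AlgEquiv.toAlgHom_eq_coe, AlgHom.coe_coe,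
        Algebra.TensorProduct.comm_tmul, Algebra.TensorProduct.map_tmul, AlgHom.id_apply,
        IsScalarTower.coe_toAlgHom', ι, Algebra.TensorProduct.lift_tmul, polyEquivTensor_symm_apply_tmul_eq_smul]
      show m (algebraMap K[X] (RatFunc K) q) * algebraMap R (RatFunc R) r = _
      rw [hm, IsScalarTower.algebraMap_apply R R[X] (RatFunc R), ← map_mul, Algebra.smul_def, mul_comm]
    | add a b ha hb => rw [map_add, map_add, ha, hb, map_add, map_add]
  have hfrac : ∀ t : RatFunc K ⊗[K] R, ∃ (d : K[X]) (u : R ⊗[K] K[X]), d ≠ 0 ∧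
      (algebraMap K[X] (RatFunc K) d ⊗ₜ[K] (1 : R)) * t = j u := fun t => by
    induction t using TensorProduct.induction_on with
    | zero => exact ⟨1, 0, one_ne_zero, by simp⟩
    | tmul q r =>
      obtain ⟨a, d, hd, rfl⟩ := IsFractionRing.div_surjective (A := K[X]) q
      refine ⟨d, r ⊗ₜ a, nonZeroDivisors.ne_zero hd, ?_⟩
      rw [Algebra.TensorProduct.tmul_mul_tmul, one_mul,
        mul_div_cancel₀ _ (by simpa using nonZeroDivisors.ne_zero hd)]
      simp [j]
    | add t₁ t₂ h₁ h₂ =>
      obtain ⟨d₁, u₁, hd₁, e₁⟩ := h₁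
      obtain ⟨d₂, u₂, hd₂, e₂⟩ := h₂
      refine ⟨d₁ * d₂, ((1 : R) ⊗ₜ d₂) * u₁ + ((1 : R) ⊗ₜ d₁) * u₂, mul_ne_zero hd₁ hd₂, ?_⟩
      have h1 : ∀ d : K[X], j ((1 : R) ⊗ₜ d) = algebraMap K[X] (RatFunc K) d ⊗ₜ[K] (1 : R) := fun d => by simp [j]
      simp only [map_add, map_mul, h1]
      rw [← e₁, ← e₂, ← one_mul (1 : R), ← Algebra.TensorProduct.tmul_mul_tmul, one_mul]
      ring
  rw [injective_iff_map_eq_zero]
  intro t ht
  obtain ⟨d, u, hd, e⟩ := hfrac t
  have hu : u = 0 := by
    have h0 : ι (j u) = 0 := by rw [← e, map_mul, ht, mul_zero]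
    rw [hj, map_eq_zero_iff _ (IsFractionRing.injective R[X] (RatFunc R)), EmbeddingLike.map_eq_zero_iff] at h0
    exact h0
  rw [hu, map_zero] at e
  refine ((IsUnit.mk0 _ ?_).map (Algebra.TensorProduct.includeLeftRingHom : RatFunc K →+* RatFunc K ⊗[K] R)).mul_right_eq_zero.1 e
  simpa using hd

open Polynomial in
/-- Rational functions raise the cohomological dimension by at most one. -/
theorem CdK.ratFunc {n e : ℕ} (hn : 0 < n) (K : Type u) [Field K] (h : CdK n K e) :
    CdK n (RatFunc K) (e + 1) := by
  intro G hG q hq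
  let f : Spec (CommRingCat.of (RatFunc K)) ⟶ Spec (CommRingCat.of K) :=
    Spec.map (CommRingCat.ofHom (algebraMap K (RatFunc K)))
  haveI : QuasiCompact f := inferInstance
  haveI : QuasiSeparated f := inferInstance
  haveI := pull_preservesFiniteLimits f
  haveI : (EtCoh.push f).Additive := Adjunction.right_adjoint_additive (EtCoh.pullPushAdj f)
  have htr : Algebra.trdeg K (RatFunc K) = 1 := by
    haveI : Algebra.IsAlgebraic K[X] (RatFunc K) := IsLocalization.isAlgebraic (RatFunc K) (nonZeroDivisors K[X])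
    rw [← trdeg_add_eq K K[X] (A := RatFunc K), trdeg_eq_zero (R := K[X]) (A := RatFunc K), add_zero,
      Polynomial.trdeg_of_isDomain]
  have hR : ∀ p, 2 ≤ p → IsZero ((EtCoh.Rpush f p).obj G) := fun p hp => by
    rw [IsZero.iff_id_eq_zero]
    refine stalkAt_jointlyReflectIsomorphisms.jointlyFaithful.map_injective fun s => ?_
    suffices hz : IsZero ((EtCoh.stalk (geomPoint s)).obj ((EtCoh.Rpush f p).obj G)) from hz.eq_of_src _ _
    let ξ := geomPoint s
    let R := EtBase.etaleLocalRing ξ
    let σ : Spec R ⟶ Spec (CommRingCat.of K) :=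
      Spec.map (Groth.AlgSpEt.StrictLocal.toEtale ξ) ≫ (Spec (CommRingCat.of K)).fromSpecStalk (ξ default)
    obtain ⟨α⟩ := EtLimit.nonempty_stalk_Rpush_iso f ξ σ (𝟙 _) (Category.id_comp _) p
    let O := (Spec (CommRingCat.of K)).presheaf.stalk (ξ default)
    let g : O ⟶ R := Groth.AlgSpEt.StrictLocal.toEtale ξ
    letI : Algebra O R := g.hom.toAlgebra
    obtain ⟨hloc, hsh⟩ := Groth.AlgSpEt.StrictHens.isStrictHenselization ξ
    haveI := hloc
    haveI := hsh
    have hO : IsField O := isField_stalk_of_closure_mem_irreducibleComponents (Spec (CommRingCat.of K)) _ (by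
      haveI : Subsingleton ↥(Spec (CommRingCat.of K)) := inferInstanceAs (Subsingleton (PrimeSpectrum K))
      exact ⟨isIrreducible_singleton.closure, fun t _ _ a _ => subset_closure (Subsingleton.elim a _)⟩)
    have hRf : IsField R := by
      rw [IsLocalRing.isField_iff_maximalIdeal_eq, ← Groth.Agent.S0538.result O R,
        IsLocalRing.isField_iff_maximalIdeal_eq.1 hO, Ideal.map_bot]
    letI : Field R := hRf.toField
    haveI : Algebra.IsIntegral O R := by
      obtain ⟨-, hsep⟩ := hsh.isSepClosure
      refine ⟨fun r => ?_⟩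
      obtain ⟨P, hP, hPr⟩ := Algebra.IsIntegral.isIntegral (R := IsLocalRing.ResidueField O)
        (IsLocalRing.residue R r)
      obtain ⟨Q, rfl, -, hQ⟩ := Polynomial.lifts_and_degree_eq_and_monic
        (Polynomial.map_surjective _ IsLocalRing.residue_surjective P : P ∈ Polynomial.lifts _) hP
      refine ⟨Q, hQ, ?_⟩
      apply (IsLocalRing.residue R).injective
      rw [map_zero, ← hPr, Polynomial.eval₂_map, Polynomial.hom_eval₂]
      rfl
    let ψ : CommRingCat.of K ⟶ R := Spec.preimage σ
    letI : Algebra K R := ψ.hom.toAlgebra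
    haveI : Algebra.IsIntegral K R := by
      let χ : CommRingCat.of K ⟶ O := Spec.preimage ((Spec (CommRingCat.of K)).fromSpecStalk (ξ default))
      have hψ : ψ = χ ≫ g := Spec.map_injective (by rw [Spec.map_preimage, Spec.map_comp, Spec.map_preimage])
      letI : Algebra K O := χ.hom.toAlgebra
      haveI : IsScalarTower K O R := IsScalarTower.of_algebraMap_eq fun c => by
        show ψ c = g (χ c)
        rw [hψ]; rfl
      haveI : Algebra.IsIntegral K O := by
        let x₀ : PrimeSpectrum K := ξ default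
        have hχ : χ = StructureSheaf.toStalk (CommRingCat.of K) x₀ := Spec.map_injective (by
          rw [Spec.map_preimage]; exact Spec.fromSpecStalk_eq' (R := CommRingCat.of K) x₀)
        have hb : Function.Surjective (StructureSheaf.toStalk K x₀) :=
          (IsField.localization_map_bijective (R := K)
            (Rₘ := (Spec.structureSheaf K).presheaf.stalk x₀) (M := x₀.asIdeal.primeCompl)
            (fun h0 => h0 x₀.asIdeal.zero_mem) (Field.toIsField K)).2
        refine ⟨fun o => ?_⟩
        obtain ⟨c, rfl⟩ := hb o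
        rw [show StructureSheaf.toStalk K x₀ c = χ c by rw [hχ]; rfl]
        exact isIntegral_algebraMap
      exact Algebra.IsIntegral.trans O
    haveI := isDomain_ratFunc_tensor K R
    have hA : IsField (RatFunc K ⊗[K] R) :=
      isField_of_isIntegral_of_isField' (R := RatFunc K) (Field.toIsField _)
    letI : Field (RatFunc K ⊗[K] R) := hA.toField
    letI : Algebra R (RatFunc K ⊗[K] R) := Algebra.TensorProduct.rightAlgebra
    haveI : IsScalarTower K R (RatFunc K ⊗[K] R) := IsScalarTower.of_algebraMap_eq fun c => by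
      show algebraMap K (RatFunc K ⊗[K] R) c = (1 : RatFunc K) ⊗ₜ algebraMap K R c
      rw [Algebra.algebraMap_eq_smul_one, Algebra.algebraMap_eq_smul_one, TensorProduct.tmul_smul]
      rfl
    have hAtr : Algebra.trdeg R (RatFunc K ⊗[K] R) ≤ 1 := by
      have e1 := trdeg_add_eq K R (A := RatFunc K ⊗[K] R)
      have e2 := trdeg_add_eq K (RatFunc K) (A := RatFunc K ⊗[K] R)
      rw [trdeg_eq_zero (R := RatFunc K) (A := RatFunc K ⊗[K] R), add_zero, htr] at e2
      exact le_trans (self_le_add_left _ _) (e1.trans e2.symm).le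
    haveI : IsSepClosed R := by
      obtain ⟨hh, hs⟩ := EtLocalRing.isStrictlyHenselian ξ
      exact @isSepClosed_of_ringEquiv _ R _ _ hs (RingEquiv.ofBijective (IsLocalRing.residue R)
        ⟨(IsLocalRing.residue R).injective, IsLocalRing.residue_surjective⟩).symm
    haveI : (EtCoh.pull (pullback.fst f σ)).Additive := Adjunction.left_adjoint_additive (EtCoh.pullPushAdj _)
    have hσ : σ = Spec.map (CommRingCat.ofHom (algebraMap K R)) := (Spec.map_preimage σ).symm
    let eZ : pullback f σ ≅ Spec (CommRingCat.of (RatFunc K ⊗[K] R)) :=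
      pullback.congrHom rfl hσ ≪≫ pullbackSpecIso K (RatFunc K) R
    haveI := subsingleton_H_of_iso (q := p) eZ
      (fun G' hG' => cdK_of_sepClosed hn R (RatFunc K ⊗[K] R) hAtr G' hG' p (by omega))
      _ (map_nsmul_id_eq_zero (EtCoh.pull (pullback.fst f σ)) hG)
    exact IsZero.of_iso (AddCommGrpCat.isZero_of_subsingleton (AddCommGrpCat.of (EtCoh.H _
      ((EtCoh.pull (pullback.fst f σ)).obj G) p))) (α.app G)
  obtain ⟨r, rfl⟩ : ∃ r, q = r + 1 := ⟨q - 1, by omega⟩
  refine subsingleton_H_of_Rpush_all f r G (h _ (map_nsmul_id_eq_zero _ hG) (r + 1) (by omega)) fun p j hp hpj => ?_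
  obtain rfl | hp2 : p = 1 ∨ 2 ≤ p := by omega
  · exact h _ (map_nsmul_id_eq_zero (EtCoh.Rpush f 1) hG) j (by omega)
  · exact AddCommGrpCat.subsingleton_of_isZero (Functor.map_isZero (EtCoh.HF _ j) (hR p hp2))

/-- The bound by the transcendence degree. -/
theorem CdK.trdeg_le {n : ℕ} (hn : 0 < n) : ∀ (t : ℕ) (e : ℕ) (K L : Type u) [Field K] [Field L] [Algebra K L],
    Algebra.trdeg K L ≤ t → CdK n K e → CdK n L (e + t) := by
  intro t
  induction t with
  | zero =>
    intro e K L _ _ _ htr h
    haveI : Algebra.IsAlgebraic K L := trdeg_eq_zero_iff.1 (le_antisymm (by simpa using htr) bot_le)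
    exact h.of_algebraic K L
  | succ t ih =>
    intro e K L _ _ _ htr h
    by_cases halg : Algebra.IsAlgebraic K L
    · intro G hG q hq
      exact h.of_algebraic K L G hG q (by omega)
    obtain ⟨x, hx⟩ := not_forall.1 fun hall => halg ⟨hall⟩
    let K' := IntermediateField.adjoin K {x}
    have eK := RatFunc.algEquivOfTranscendental x hx
    letI : Algebra (RatFunc K) K' := eK.toAlgHom.toRingHom.toAlgebra
    haveI : Algebra.IsAlgebraic (RatFunc K) K' :=
      ⟨fun y => by
        obtain ⟨z, rfl⟩ := eK.surjective y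
        exact isAlgebraic_algebraMap (R := RatFunc K) (A := K') z⟩
    have h' : CdK n K' (e + 1) := (h.ratFunc hn K).of_algebraic (RatFunc K) K'
    have htr' : Algebra.trdeg K' L ≤ t := by
      have h1 : 1 ≤ Algebra.trdeg K K' := by
        rw [Cardinal.one_le_iff_ne_zero, ne_eq, trdeg_eq_zero_iff]
        intro hK'
        exact hx ((isAlgebraic_algebraMap_iff (algebraMap K' L).injective).2
          (hK'.isAlgebraic ⟨x, IntermediateField.mem_adjoin_simple_self K x⟩))
      have h2 := trdeg_add_eq K K' (A := L)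
      have h3 : 1 + Algebra.trdeg K' L ≤ (t + 1 : ℕ) := le_trans (add_le_add_left h1 _) (h2.le.trans htr)
      obtain ⟨j, hj⟩ := Cardinal.lt_aleph0.1 (lt_of_le_of_lt (le_trans (self_le_add_left _ _) h3) Cardinal.natCast_lt_aleph0)
      rw [hj] at h3 ⊢
      have : 1 + j ≤ t + 1 := by exact_mod_cast h3
      exact_mod_cast (show j ≤ t by omega)
    intro G hG q hq
    exact ih (e + 1) K' L htr' h' G hG q (by omega)

/-- Torsion sheaves are handled by the sheaves killed by positive integers. -/
theorem subsingleton_H_torsion_of_killed {X : Scheme.{u}} [CompactSpace X] [QuasiSeparatedSpace X]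
    {F : EtCoh.Ab X} (hF : EtCoh.IsTorsion F) (q : ℕ)
    (h : ∀ (N : ℕ) (C : EtCoh.Ab X), 0 < N → N • 𝟙 C = 0 → Subsingleton (EtCoh.H X C q)) :
    Subsingleton (EtCoh.H X F q) := by
  refine subsingleton_of_forall_eq 0 fun x => ?_
  obtain ⟨hc⟩ := Groth.EtaleDeep.Cons.nonempty_isColimit_presCocone hF
  haveI := Groth.FlatMor2.ColimCoh.Etale.preservesColimitsOfShape_HF X (Groth.EtaleDeep.Cons.PresCat F) q
  obtain ⟨P, y, rfl⟩ := Types.jointly_surjective _
    (isColimitOfPreserves (EtCoh.HF X q ⋙ CategoryTheory.forget AddCommGrpCat.{u + 1}) hc) x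
  obtain ⟨N, hN, hid⟩ := Groth.EtPbc.Torsion.exists_nsmul_id_presDiag P
  suffices ∀ y : EtCoh.H X ((Groth.EtaleDeep.Cons.presDiag F).obj P) q,
      ((EtCoh.HF X q).map ((Groth.EtaleDeep.Cons.presCocone F).ι.app P) y : EtCoh.H X F q) = 0 from this y
  intro y
  haveI := h N _ hN hid
  rw [Subsingleton.elim y 0]
  exact map_zero ((EtCoh.HF X q).map ((Groth.EtaleDeep.Cons.presCocone F).ι.app P)).hom

end Groth.FieldPush
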