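import Groth.Agent.GaloisBrauer.FieldTrace
import Groth.Agent.GaloisBrauer.FieldKill
import Groth.Agent.GaloisBrauer.FieldDevissage
import Groth.Agent.EtaleBase.GmPic.LowDegree
import Groth.Agent.EtaleBase.LocConstOps

/-!
# `H¹` of a field with torsion-free constant coefficients
-/

set_option autoImplicit false
set_option backward.isDefEq.respectTransparency.types false
set_option linter.style.haveILetI false

universe u

open CategoryTheory CategoryTheory.Limits CategoryTheory.Abelian AlgebraicGeometry Opposite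

namespace Groth.FieldPush

open Groth.GaloisBrauer.FieldTrace Groth.EtaleBase

variable {K : Type u} [Field K] (M : Type) [AddCommGroup M]

/-- Constant sections. -/
noncomputable def cst (U : (Spec (CommRingCat.of K)).Etale) :
    ULift.{u + 1} M →+ (EtCoh.const (Spec (CommRingCat.of K)) M).obj.obj (op U) :=
  ((toSheafify (Spec (CommRingCat.of K)).smallEtaleTopology
    ((Functor.const _).obj (AddCommGrpCat.of (ULift.{u + 1} M)))).app (op U)).hom

theorem map_cst {U V : (Spec (CommRingCat.of K)).Etale} (g : V ⟶ U) (m : ULift.{u + 1} M) :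
    (EtCoh.const (Spec (CommRingCat.of K)) M).obj.map g.op (cst M U m) = cst M V m :=
  (NatTrans.naturality_apply (toSheafify (Spec (CommRingCat.of K)).smallEtaleTopology
    ((Functor.const _).obj (AddCommGrpCat.of (ULift.{u + 1} M)))) g.op m).symm

/-- Constant sections over a nonempty object determine the constant. -/
theorem cst_injective (U : (Spec (CommRingCat.of K)).Etale) (v : U.left) : Function.Injective (cst M U) := by
  intro a b h
  have hmem := Presheaf.equalizerSieve_mem (Spec (CommRingCat.of K)).smallEtaleTopology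
    (toSheafify (Spec (CommRingCat.of K)).smallEtaleTopology
      ((Functor.const _).obj (AddCommGrpCat.of (ULift.{u + 1} M)))) (X := op U) a b h
  rw [mem_topology_iff] at hmem
  obtain ⟨V, g, w, hg, -⟩ := hmem v
  exact hg

/-- Sections of a constant sheaf over a field point are constant. -/
theorem exists_cst (N : Type u) [Field N] [Algebra K N] [FiniteDimensional K N] [Algebra.IsSeparable K N]
    (s : (EtCoh.const (Spec (CommRingCat.of K)) M).obj.obj (op (obj K N))) : ∃ m, cst M _ m = s := by
  have hmem := Presheaf.imageSieve_mem (Spec (CommRingCat.of K)).smallEtaleTopology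
    (toSheafify (Spec (CommRingCat.of K)).smallEtaleTopology
      ((Functor.const _).obj (AddCommGrpCat.of (ULift.{u + 1} M)))) (U := op (obj K N)) s
  rw [mem_topology_iff] at hmem
  obtain ⟨V, g, v, ⟨m, hm⟩, -⟩ := hmem (default : PrimeSpectrum N)
  refine ⟨m, map_injective _ g v ?_⟩
  rw [map_cst]
  exact hm

/-- `H¹(Spec K, M) = 0` for torsion-free `M`. -/
theorem subsingleton_H_one_const [IsAddTorsionFree M] :
    Subsingleton (EtCoh.H (Spec (CommRingCat.of K)) (EtCoh.const (Spec (CommRingCat.of K)) M) 1) := by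
  refine subsingleton_of_forall_eq 0 fun x => ?_
  let C := EtCoh.const (Spec (CommRingCat.of K)) M
  let S := Groth.CohFin.injSeq C
  have hS := Groth.CohFin.injSeq_shortExact C
  haveI := hS.epi_g
  haveI := hS.mono_f
  obtain ⟨a, rfl⟩ := ExtAdj.exists_comp_extClass _ C 0 x
  obtain ⟨a, rfl⟩ := (Ext.mk₀_bijective _ _).2 a
  suffices h : ∃ l : EtCoh.const (Spec (CommRingCat.of K)) ℤ ⟶ S.X₂, l ≫ S.g = a by
    obtain ⟨l, rfl⟩ := h
    rw [← Ext.mk₀_comp_mk₀_assoc, hS.comp_extClass, Ext.comp_zero]
  let ev := fun F : EtCoh.Ab (Spec (CommRingCat.of K)) => EtLimit.Resn.ev F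
  suffices h : ∃ e, S.g.hom.app (op (EtCoh.top _)) e = ev _ a by
    obtain ⟨e, he⟩ := h
    refine ⟨(ev _).symm e, (ev _).injective ?_⟩
    rw [EtLimit.Resn.ev_comp, AddEquiv.apply_symm_apply]
    exact he
  let s := ev _ a
  have hmem := ((Sheaf.isLocallySurjective_iff_epi' (A := AddCommGrpCat.{u + 1}) S.g).2 inferInstance :
    Presheaf.IsLocallySurjective _ S.g.hom).imageSieve_mem s
  rw [mem_topology_iff] at hmem
  obtain ⟨V, f, v, ⟨c₀, hc₀⟩, -⟩ := hmem (default : PrimeSpectrum K)
  obtain ⟨N, _, _, _, _, g, z, -⟩ := exists_point_hom K V v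
  obtain ⟨L, _, _, _, _, ⟨ι⟩⟩ := exists_galois K N
  let b : obj K L ⟶ V := (homEquiv K (L := N) (M := L)).symm ι ≫ g
  let c := S.X₂.obj.map b.op c₀
  have hc : S.g.hom.app _ c = S.X₃.obj.map (toTop (obj K L)).op s := by
    show S.g.hom.app _ (S.X₂.obj.map b.op c₀) = _
    rw [NatTrans.naturality_apply]
    refine (congrArg _ hc₀).trans ?_
    rw [← ConcreteCategory.comp_apply, ← Functor.map_comp, ← op_comp,
      (EtCore.topIsTerminal _).hom_ext (b ≫ f) (toTop (obj K L))]
  have hinj : Function.Injective (S.f.hom.app (op (obj K L))) := LocConst.mono_sections_injective S.f _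
  let act := fun σ : L ≃ₐ[K] L => (homEquiv K (L := L) (M := L)).symm σ.toAlgHom
  have hmul : ∀ σ τ : L ≃ₐ[K] L, act (σ * τ) = act σ ≫ act τ := by
    intro σ τ
    apply MorphismProperty.Over.Hom.ext
    show Spec.map _ = Spec.map _ ≫ Spec.map _
    rw [← Spec.map_comp]
    rfl
  have hone : act 1 = 𝟙 _ := by
    apply MorphismProperty.Over.Hom.ext
    show Spec.map _ = 𝟙 _
    rw [← Spec.map_id]
    rfl
  have hex : ∀ σ : L ≃ₐ[K] L, ∃ m, S.X₂.obj.map (act σ).op c = c + S.f.hom.app _ (cst M _ m) := by
    intro σ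
    have hd : S.g.hom.app _ (S.X₂.obj.map (act σ).op c - c) = 0 := by
      rw [map_sub, NatTrans.naturality_apply, hc, ← ConcreteCategory.comp_apply, ← Functor.map_comp,
        ← op_comp, (EtCore.topIsTerminal _).hom_ext (act σ ≫ toTop (obj K L)) (toTop (obj K L)), sub_self]
    let Γ := sheafToPresheaf (Spec (CommRingCat.of K)).smallEtaleTopology AddCommGrpCat.{u + 1} ⋙
      (evaluation _ AddCommGrpCat.{u + 1}).obj (op (obj K L))
    obtain ⟨w, hw⟩ := (ShortComplex.ab_exact_iff _).1
      (hS.exact.map_of_mono_of_preservesKernel Γ hS.mono_f inferInstance) _ hd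
    obtain ⟨m, rfl⟩ := exists_cst M L w
    exact ⟨m, (add_sub_cancel c _).symm.trans (congrArg (c + ·) hw.symm)⟩
  have hinv : ∀ σ : L ≃ₐ[K] L, S.X₂.obj.map (act σ).op c = c := by
    intro σ
    obtain ⟨m, hm⟩ := hex σ
    have hpow : ∀ k : ℕ, S.X₂.obj.map (act (σ ^ k)).op c = c + S.f.hom.app _ (cst M _ (k • m)) := by
      intro k
      induction k with
      | zero => simp [hone]
      | succ k ih =>
        rw [pow_succ', hmul, op_comp, Functor.map_comp, ConcreteCategory.comp_apply, ih, map_add, hm,
          ← NatTrans.naturality_apply, map_cst, succ_nsmul', map_add, map_add, add_assoc]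
    have h := hpow (orderOf σ)
    rw [pow_orderOf_eq_one, hone, op_id, CategoryTheory.Functor.map_id] at h
    have h0 : orderOf σ • m = 0 := by
      refine cst_injective M (obj K L) (default : PrimeSpectrum L) (hinj ?_)
      rw [map_zero, map_zero]
      exact add_left_cancel (h.symm.trans (add_zero c).symm)
    have hm0 : m = 0 := ULift.ext _ _ ((smul_eq_zero.1
      (congrArg ULift.down h0 : orderOf σ • m.down = 0)).resolve_left (orderOf_pos σ).ne')
    rw [hm, hm0, map_zero, map_zero, add_zero]
  obtain ⟨e, he⟩ := exists_descend (M := L) c fun τ => by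
    obtain ⟨σ, rfl⟩ := (homEquiv K (L := L) (M := L)).symm.surjective τ
    exact hinv (AlgEquiv.ofBijective σ σ.bijective)
  refine ⟨e, map_top_injective S.X₃ (toTop (obj K L)) (default : PrimeSpectrum L) ?_⟩
  rw [← NatTrans.naturality_apply]
  exact (congrArg _ he).trans hc

end Groth.FieldPush
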