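import Groth.Agent.EtPbc.FieldSections
import Groth.Agent.EtPbc.Torsion
import Groth.Agent.RDerLib.LES
import Groth.Agent.EtaleBase.GmPic.LowDegree

/-!
# Direct images from the spectrum of a field: higher direct images and cohomology are torsion
-/

set_option autoImplicit false
set_option backward.isDefEq.respectTransparency.types false
set_option linter.style.haveILetI false
set_option maxHeartbeats 1000000

universe u

open CategoryTheory CategoryTheory.Limits CategoryTheory.Abelian AlgebraicGeometry Opposite TopologicalSpace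

namespace Groth.FieldPush

open Groth.EtaleBase

variable {X : Scheme.{u}}

/-- A quotient is torsion when multiples of sections over affines come from the relations. -/
theorem isTorsion_of_epi {A B C : EtCoh.Ab X} (g : A ⟶ B) (e : B ⟶ C) [Epi e] (w : g ≫ e = 0)
    (h : ∀ (V : X.Etale), IsAffine V.left → ∀ b : B.obj.obj (op V),
      ∃ n : ℕ, 0 < n ∧ ∃ a, g.hom.app (op V) a = n • b) : EtCoh.IsTorsion C := by
  intro U s x
  have hloc : Sheaf.IsLocallySurjective e :=
    (Sheaf.isLocallySurjective_iff_epi' (A := AddCommGrpCat.{u + 1}) e).2 inferInstance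
  have hmem := (hloc : Presheaf.IsLocallySurjective _ e.hom).imageSieve_mem s
  rw [mem_topology_iff] at hmem
  obtain ⟨T, f, t, ⟨b, hb⟩, ht⟩ := hmem x
  obtain ⟨_, ⟨W, hW, rfl⟩, htW, -⟩ := T.left.isBasis_affineOpens.exists_subset_of_mem_open
    (Set.mem_univ t) isOpen_univ
  let b' := B.obj.map (openHom T W).op b
  obtain ⟨n, hn, a, ha⟩ := h (openObj T W) hW b'
  refine ⟨openObj T W, openHom T W ≫ f, ⟨⟨t, htW⟩, ?_⟩, isOfFinAddOrder_iff_nsmul_eq_zero.2 ⟨n, hn, ?_⟩⟩
  · exact ht
  · have h1 : e.hom.app (op (openObj T W)) b' = C.obj.map (openHom T W ≫ f).op s := by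
      refine (NatTrans.naturality_apply e.hom _ _).trans ((congrArg _ hb).trans ?_)
      rw [op_comp, Functor.map_comp]
      rfl
    rw [← h1, ← map_nsmul, ← ha]
    exact ConcreteCategory.congr_hom (congrArg (fun m => m.hom.app (op (openObj T W))) w) a

variable {K : Type u} [Field K] (i : Spec (CommRingCat.of K) ⟶ X)

/-- A morphism from the spectrum of a field to a quasi-separated scheme is quasi-compact. -/
theorem quasiCompact [QuasiSeparatedSpace X] : QuasiCompact i := by
  haveI : QuasiCompact (i ≫ terminal.from X) := by rw [terminal.comp_from]; infer_instance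
  exact QuasiCompact.of_comp i (terminal.from X)

/-- Multiples of sections of a direct image lift along direct images of epimorphisms. -/
theorem exists_nsmul_push [QuasiSeparatedSpace X] {F G : EtCoh.Ab (Spec (CommRingCat.of K))} (g : F ⟶ G) [Epi g]
    (V : X.Etale) (hV : IsAffine V.left) (b : ((EtCoh.push i).obj G).obj.obj (op V)) :
    ∃ n : ℕ, 0 < n ∧ ∃ a, ((EtCoh.push i).map g).hom.app (op V) a = n • b := by
  haveI := quasiCompact i
  haveI : CompactSpace ↥((𝟭 Scheme.{u}).obj V.left) := (isAffineOpen_top V.left).isCompact |> isCompact_univ_iff.1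
  haveI : CompactSpace ↥(pullback V.hom i) := QuasiCompact.compactSpace_of_compactSpace (pullback.fst V.hom i)
  haveI : CompactSpace ↥((EtCoh.bc i).obj V).left := ‹CompactSpace ↥(pullback V.hom i)›
  exact exists_nsmul_sections g ((EtCoh.bc i).obj V) b

/-- Higher direct images from the spectrum of a field are torsion. -/
theorem isTorsion_Rpush [QuasiSeparatedSpace X] :
    ∀ (q : ℕ) (F : EtCoh.Ab (Spec (CommRingCat.of K))), EtCoh.IsTorsion ((EtCoh.Rpush i (q + 1)).obj F) := by
  obtain ⟨L⟩ := Groth.RDerLib.exists_derivedLES (EtCoh.push i)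
  haveI : PreservesLimitsOfSize.{0, 0} (EtCoh.push i) := (EtCoh.pullPushAdj i).rightAdjoint_preservesLimits
  haveI : PreservesFiniteLimits (EtCoh.push i) := PreservesLimitsOfSize.preservesFiniteLimits _
  intro q
  induction q with
  | zero =>
    intro F
    let S := Groth.CohFin.injSeq F
    have hS := Groth.CohFin.injSeq_shortExact F
    let e : EtCoh.Rpush i 0 ≅ EtCoh.push i := (EtCoh.push i).rightDerivedZeroIsoSelf
    let δ : (EtCoh.push i).obj S.X₃ ⟶ (EtCoh.Rpush i 1).obj F := e.inv.app S.X₃ ≫ L.δ S hS 0 1 rfl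
    haveI : Epi (L.δ S hS 0 1 rfl) :=
      (L.exact₁ S hS 0 1 rfl).epi_f ((InjCoh.Rpush_injective i S.X₂ 1 le_rfl).eq_of_tgt _ _)
    haveI : Epi δ := inferInstanceAs (Epi (e.inv.app S.X₃ ≫ L.δ S hS 0 1 rfl))
    have w : (EtCoh.push i).map S.g ≫ δ = 0 :=
      (Category.assoc _ _ _).symm.trans ((congrArg (· ≫ L.δ S hS 0 1 rfl) (e.inv.naturality S.g)).trans
        ((Category.assoc _ _ _).trans ((congrArg (e.inv.app S.X₂ ≫ ·) (L.comp_δ S hS 0 1 rfl)).trans comp_zero)))
    haveI := hS.epi_g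
    exact isTorsion_of_epi _ δ w (exists_nsmul_push i S.g)
  | succ q ih =>
    intro F
    let S := Groth.CohFin.injSeq F
    have hS := Groth.CohFin.injSeq_shortExact F
    haveI : Epi (L.δ S hS (q + 1) (q + 2) rfl) :=
      (L.exact₁ S hS (q + 1) (q + 2) rfl).epi_f
        ((InjCoh.Rpush_injective i S.X₂ (q + 2) (by omega)).eq_of_tgt _ _)
    haveI : Mono (L.δ S hS (q + 1) (q + 2) rfl) :=
      (L.exact₃ S hS (q + 1) (q + 2) rfl).mono_g
        ((InjCoh.Rpush_injective i S.X₂ (q + 1) (by omega)).eq_of_src _ _)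
    haveI : IsIso (L.δ S hS (q + 1) (q + 2) rfl) := isIso_of_mono_of_epi _
    exact EtPbc.Torsion.isTorsion_of_stalks fun y => EtPbc.Torsion.isAddTorsion_of_iso
      ((EtCoh.stalk _).mapIso (asIso (L.δ S hS (q + 1) (q + 2) rfl))) (EtPbc.Torsion.isAddTorsion_stalk (ih _) _)

/-- Cohomology of direct images from the spectrum of a field is torsion in positive degrees. -/
theorem isAddTorsion_H_push [CompactSpace X] [QuasiSeparatedSpace X] [PreservesFiniteLimits (EtCoh.pull i)] :
    ∀ (q : ℕ) (F : EtCoh.Ab (Spec (CommRingCat.of K))),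
      IsAddTorsion (EtCoh.H X ((EtCoh.push i).obj F) (q + 1)) := by
  let P := EtCoh.push i
  haveI : PreservesLimitsOfSize.{0, 0} P := (EtCoh.pullPushAdj i).rightAdjoint_preservesLimits
  haveI : PreservesFiniteLimits P := PreservesLimitsOfSize.preservesFiniteLimits _
  intro q
  induction q using Nat.strong_induction_on with
  | _ q ih =>
  intro F x
  let S := Groth.CohFin.injSeq F
  have hS := Groth.CohFin.injSeq_shortExact F
  haveI := hS.epi_g
  haveI : Mono (P.map S.f) := inferInstance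
  let p := Limits.factorThruImage (P.map S.g)
  let ι := Limits.image.ι (P.map S.g)
  have hι : p ≫ ι = P.map S.g := Limits.image.fac _
  have w : P.map S.f ≫ p = 0 := by
    rw [← cancel_mono ι, Category.assoc, hι, zero_comp, ← P.map_comp, S.zero, P.map_zero]
  have hT : (ShortComplex.mk (P.map S.f) p w).ShortExact :=
    { exact := by
        have h1 := hS.exact.map_of_mono_of_preservesKernel P hS.mono_f inferInstance
        let e : ShortComplex.mk (P.map S.f) p w ⟶ S.map P :=
          { τ₁ := 𝟙 _, τ₂ := 𝟙 _, τ₃ := ι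
            comm₁₂ := (Category.id_comp _).trans (Category.comp_id _).symm
            comm₂₃ := (Category.id_comp _).trans hι.symm }
        haveI : Epi e.τ₁ := inferInstanceAs (Epi (𝟙 _))
        haveI : IsIso e.τ₂ := inferInstanceAs (IsIso (𝟙 _))
        haveI : Mono e.τ₃ := inferInstanceAs (Mono ι)
        exact (ShortComplex.exact_iff_of_epi_of_isIso_of_mono e).2 h1 }
  have h0 : Ext.comp (x : Ext _ (P.obj F) (q + 1)) (Ext.mk₀ (P.map S.f)) (add_zero (q + 1)) = 0 := by
    haveI : Injective (P.obj S.X₂) := P.injective_obj S.X₂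
    exact (InjCoh.H_injective (P.obj S.X₂) (q + 1) (by omega)).elim _ _
  obtain ⟨k, rfl⟩ := Ext.covariant_sequence_exact₁ _ hT x h0 (n₀ := q) rfl
  suffices ∃ n : ℕ, 0 < n ∧ (n • k).comp hT.extClass rfl = 0 by
    obtain ⟨n, hn, h⟩ := this
    refine isOfFinAddOrder_iff_nsmul_eq_zero.2 ⟨n, hn, ?_⟩
    exact (map_nsmul ((Ext.bilinearComp _ _ _ q 1 (q + 1) rfl).flip hT.extClass) n k).symm.trans h
  cases q with
  | zero =>
    obtain ⟨k, rfl⟩ := (Ext.mk₀_bijective _ _).2 k
    let z : EtCoh.const (Spec (CommRingCat.of K)) ℤ ⟶ S.X₃ :=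
      (EtCore.pullConst i ℤ).inv ≫ ((EtCoh.pullPushAdj i).homEquiv _ _).symm (k ≫ ι)
    obtain ⟨n, hn, b, hb⟩ := exists_nsmul_lift S.g z
    let b' : EtCoh.const X ℤ ⟶ P.obj S.X₂ :=
      (EtCoh.pullPushAdj i).homEquiv _ _ ((EtCore.pullConst i ℤ).hom ≫ b)
    have hb' : b' ≫ p = n • k := by
      rw [← cancel_mono ι, Category.assoc, hι, Preadditive.nsmul_comp]
      refine ((EtCoh.pullPushAdj i).homEquiv_naturality_right _ _).symm.trans ?_
      rw [Category.assoc, hb, Preadditive.comp_nsmul, Iso.hom_inv_id_assoc, ← Adjunction.homAddEquiv_apply,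
        map_nsmul, Adjunction.homAddEquiv_apply, Equiv.apply_symm_apply]
    refine ⟨n, hn, ?_⟩
    rw [show n • Ext.mk₀ k = Ext.mk₀ (n • k) from (map_nsmul Ext.addEquiv₀.symm n k).symm, ← hb',
      ← Ext.mk₀_comp_mk₀_assoc, hT.comp_extClass, Ext.comp_zero]
  | succ q =>
    suffices hk : IsOfFinAddOrder k by
      obtain ⟨n, hn, h⟩ := isOfFinAddOrder_iff_nsmul_eq_zero.1 hk
      exact ⟨n, hn, by rw [h, Ext.zero_comp]⟩
    let c := cokernel.π ι
    have hU : (ShortComplex.mk ι c (cokernel.condition ι)).ShortExact := CohFin.cokerSeq_shortExact' ι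
    have hC : EtCoh.IsTorsion (cokernel ι) := by
      refine isTorsion_of_epi (P.map S.g) c ?_ (exists_nsmul_push i S.g)
      exact (congrArg (· ≫ c) hι.symm).trans ((Category.assoc _ _ _).trans
        ((congrArg (p ≫ ·) (cokernel.condition ι)).trans comp_zero))
    obtain ⟨n, hn, hnk⟩ := isOfFinAddOrder_iff_nsmul_eq_zero.1
      (ih q (Nat.lt_succ_self q) S.X₃ (Ext.comp (k : Ext _ _ (q + 1)) (Ext.mk₀ ι) (add_zero (q + 1))))
    have h1 : (n • k).comp (Ext.mk₀ ι) (add_zero (q + 1)) = 0 :=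
      (map_nsmul ((Ext.bilinearComp _ _ _ (q + 1) 0 (q + 1) (add_zero _)).flip (Ext.mk₀ ι)) n k).trans hnk
    obtain ⟨y, hy⟩ := Ext.covariant_sequence_exact₁ _ hU (n • k) h1 (n₀ := q) rfl
    obtain ⟨m, hm, hmy⟩ := isOfFinAddOrder_iff_nsmul_eq_zero.1 (EtPbc.Torsion.isAddTorsion_H hC q y)
    refine isOfFinAddOrder_iff_nsmul_eq_zero.2 ⟨m * n, Nat.mul_pos hm hn, ?_⟩
    rw [mul_smul, ← hy]
    refine (map_nsmul ((Ext.bilinearComp _ _ _ q 1 (q + 1) rfl).flip hU.extClass) m y).symm.trans ?_
    exact (congrArg (fun z => Ext.comp z hU.extClass rfl) hmy).trans (Ext.zero_comp _ _ _ _ _)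

end Groth.FieldPush
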