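import Groth.Agent.GaloisBrauer.FieldKill
import Groth.Agent.GaloisBrauer.FieldPoints
import Groth.Agent.Agf.SmoothRed

/-!
# Epimorphisms of sheaves on the spectrum of a field lift sections up to torsion
-/

set_option autoImplicit false
set_option backward.isDefEq.respectTransparency.types false
set_option linter.style.haveILetI false

universe u

open CategoryTheory CategoryTheory.Limits AlgebraicGeometry Opposite TopologicalSpace

namespace Groth.FieldPush

open Groth.GaloisBrauer.FieldTrace Groth.EtaleBase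

variable {K : Type u} [Field K]

/-- Maps out of the constant sheaf lift along an epimorphism after multiplication by a positive integer. -/
theorem exists_nsmul_lift {F G : EtCoh.Ab (Spec (CommRingCat.of K))} (g : F ⟶ G) [Epi g]
    (a : EtCoh.const (Spec (CommRingCat.of K)) ℤ ⟶ G) :
    ∃ n : ℕ, 0 < n ∧ ∃ b : EtCoh.const (Spec (CommRingCat.of K)) ℤ ⟶ F, b ≫ g = n • a := by
  obtain ⟨L, _, _, _, _, b, hb⟩ := exists_lift K g a
  obtain ⟨t, ht⟩ := exists_trace K L
  refine ⟨Module.finrank K L, Module.finrank_pos,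
    (EtCoh.pullPushAdj (mor K L)).unit.app _ ≫ (EtCoh.push (mor K L)).map b ≫ t.app F, ?_⟩
  have h1 : t.app F ≫ g = (EtCoh.push (mor K L)).map ((EtCoh.pull (mor K L)).map g) ≫ t.app G :=
    (t.naturality g).symm
  rw [Category.assoc, Category.assoc, h1]
  have h2 : (EtCoh.push (mor K L)).map ((EtCoh.pull (mor K L)).map a) ≫ t.app G = t.app _ ≫ a :=
    t.naturality a
  have h3 : (EtCoh.push (mor K L)).map b ≫ (EtCoh.push (mor K L)).map ((EtCoh.pull (mor K L)).map g) ≫ t.app G =
      t.app _ ≫ a := by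
    rw [← h2, ← hb]
    exact ((Category.assoc _ _ _).symm).trans (congrArg (· ≫ t.app G) (Functor.map_comp _ _ _).symm)
  refine (congrArg ((EtCoh.pullPushAdj (mor K L)).unit.app _ ≫ ·) h3).trans ?_
  refine (Category.assoc _ _ _).symm.trans ?_
  exact (congrArg (· ≫ a) (ht _)).trans ((Preadditive.nsmul_comp _ _ _).trans (congrArg (Module.finrank K L • ·) (Category.id_comp a)))

/-- Global sections. -/
theorem exists_nsmul_top {F G : EtCoh.Ab (Spec (CommRingCat.of K))} (g : F ⟶ G) [Epi g]
    (s : G.obj.obj (op (EtCoh.top (Spec (CommRingCat.of K))))) :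
    ∃ n : ℕ, 0 < n ∧ ∃ c, g.hom.app (op (EtCoh.top _)) c = n • s := by
  let adj := EtCore.constAdj (Spec (CommRingCat.of K))
  let φ : AddCommGrpCat.of (ULift.{u + 1} ℤ) ⟶ G.obj.obj (op (EtCoh.top _)) :=
    AddCommGrpCat.ofHom ((zmultiplesHom _ s).comp (AddEquiv.ulift (α := ℤ)).toAddMonoidHom)
  obtain ⟨n, hn, b, hb⟩ := exists_nsmul_lift g ((adj.homEquiv _ _).symm φ)
  refine ⟨n, hn, adj.homEquiv _ _ b ⟨1⟩, ?_⟩
  have h1 := congrArg (fun m => adj.homEquiv _ _ m) hb
  simp only [Adjunction.homEquiv_naturality_right] at h1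
  have h2 := ConcreteCategory.congr_hom h1 (⟨1⟩ : ULift.{u + 1} ℤ)
  refine h2.trans ?_
  have h3 : ∀ k : ℕ, adj.homEquiv _ _ (k • (adj.homEquiv _ _).symm φ) = k • φ := fun k => by
    rw [← Adjunction.homAddEquiv_apply, map_nsmul, Adjunction.homAddEquiv_apply, Equiv.apply_symm_apply]
  rw [h3]
  show n • ((1 : ℤ) • s) = n • s
  rw [one_zsmul]

/-- Sections over a field point. -/
theorem exists_nsmul_obj (L : Type u) [Field L] [Algebra K L] [FiniteDimensional K L]
    [Algebra.IsSeparable K L] {F G : EtCoh.Ab (Spec (CommRingCat.of K))} (g : F ⟶ G) [Epi g]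
    (s : G.obj.obj (op (obj K L))) : ∃ n : ℕ, 0 < n ∧ ∃ c, g.hom.app (op (obj K L)) c = n • s := by
  haveI := mor_etale K L
  haveI := InjCoh.jCont (mor K L)
  haveI : Epi ((EtShriek.restrAlong (mor K L)).map g) := by
    haveI := (EtCoh.pullPushAdj (mor K L)).leftAdjoint_preservesColimits
    exact epi_of_epi_fac (f := (pullRestrIso (mor K L)).hom.app F)
      (h := (EtCoh.pull (mor K L)).map g ≫ (pullRestrIso (mor K L)).hom.app G)
      ((pullRestrIso (mor K L)).hom.naturality g).symm
  let T := (EtShriek.compEtale (mor K L)).obj (EtCoh.top (Spec (CommRingCat.of L)))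
  let e : obj K L ⟶ T := MorphismProperty.Over.homMk (𝟙 _) ((Category.id_comp _).trans (Category.id_comp _))
  let e' : T ⟶ obj K L := MorphismProperty.Over.homMk (𝟙 _)
    ((Category.id_comp _).trans (Category.id_comp _).symm)
  have he : e ≫ e' = 𝟙 _ := MorphismProperty.Over.Hom.ext (Category.id_comp _)
  obtain ⟨n, hn, c, hc⟩ := exists_nsmul_top ((EtShriek.restrAlong (mor K L)).map g) (G.obj.map e'.op s)
  refine ⟨n, hn, F.obj.map e.op c, ?_⟩
  rw [NatTrans.naturality_apply]
  refine (congrArg (G.obj.map e.op) hc).trans ?_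
  refine (map_nsmul (G.obj.map e.op).hom n (G.obj.map e'.op s)).trans ?_
  refine congrArg (n • ·) ?_
  refine (ConcreteCategory.comp_apply _ _ _).symm.trans ?_
  rw [← Functor.map_comp, ← op_comp, he, op_id, CategoryTheory.Functor.map_id]
  rfl

/-- A reduced one-point piece of an étale scheme over a field is a field point. -/
theorem exists_iso_singleton (V : (Spec (CommRingCat.of K)).Etale) (W : V.left.Opens) (v : V.left)
    (hW : (W : Set V.left) = {v}) :
    ∃ (L : Type u) (_ : Field L) (_ : Algebra K L) (_ : FiniteDimensional K L) (_ : Algebra.IsSeparable K L),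
      Nonempty (obj K L ≅ openObj V W) := by
  let V' := openObj V W
  haveI : Subsingleton V'.left := by
    refine ⟨fun a b => Subtype.ext ?_⟩
    exact ((hW.subset (show (show ↥W from a).1 ∈ W from (show ↥W from a).2) :
      (show ↥W from a).1 ∈ ({v} : Set V.left)) : _ = v).trans
      ((hW.subset (show (show ↥W from b).1 ∈ W from (show ↥W from b).2) :
      (show ↥W from b).1 ∈ ({v} : Set V.left)) : _ = v).symm
  let w : V'.left := ⟨v, hW.symm.subset rfl⟩
  let g := V'.left.fromSpecResidueField w
  haveI : Etale V'.hom := V'.prop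
  haveI : IsClosedImmersion g := IsClosedImmersion.of_isPreimmersion _ (isClosed_discrete _)
  haveI : Surjective g := ⟨fun a => ⟨default, Subsingleton.elim _ _⟩⟩
  haveI : IsReduced V'.left := Groth.Agf.isReduced_of_smooth V'.hom
  have hgi : IsIso g := isIso_of_isClosedImmersion_of_surjective g
  let κ := V'.left.residueField w
  let φ : CommRingCat.of K ⟶ κ := Spec.preimage (g ≫ V'.hom)
  have hφ : Spec.map φ = g ≫ V'.hom := Spec.map_preimage _
  letI : Algebra K κ := φ.hom.toAlgebra
  haveI h1 : LocallyOfFiniteType (Spec.map φ) := by rw [hφ]; infer_instance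
  haveI h2 : FormallyUnramified (Spec.map φ) := by
    rw [hφ]; exact MorphismProperty.comp_mem @FormallyUnramified g V'.hom inferInstance inferInstance
  haveI : Algebra.FiniteType K κ := (HasRingHomProperty.Spec_iff (P := @LocallyOfFiniteType)).1 h1
  haveI : Algebra.FormallyUnramified K κ := (HasRingHomProperty.Spec_iff (P := @FormallyUnramified)).1 h2
  haveI : FiniteDimensional K κ := finite_of_finite_type_of_isJacobsonRing K κ
  haveI : Algebra.IsSeparable K κ := (Algebra.FormallyUnramified.iff_isSeparable K κ).1 inferInstance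
  refine ⟨κ, inferInstance, inferInstance, inferInstance, inferInstance,
    ⟨MorphismProperty.Over.isoMk (show Spec (CommRingCat.of κ) ≅ V'.left from @asIso _ _ _ _ g hgi) ?_⟩⟩
  exact hφ.symm

/-- Sections over a quasi-compact étale scheme. -/
theorem exists_nsmul_sections {F G : EtCoh.Ab (Spec (CommRingCat.of K))} (g : F ⟶ G) [Epi g]
    (V : (Spec (CommRingCat.of K)).Etale) [CompactSpace V.left] (s : G.obj.obj (op V)) :
    ∃ n : ℕ, 0 < n ∧ ∃ c, g.hom.app (op V) c = n • s := by
  classical
  haveI : Etale V.hom := V.prop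
  haveI : LocallyQuasiFinite V.hom := locallyQuasiFinite_of_formallyUnramified V.hom
  haveI : DiscreteTopology V.left :=
    @locallyQuasiFinite_discreteTopology _ (Spec (CommRingCat.of K)) V.hom inferInstance
      (inferInstanceAs (Subsingleton (PrimeSpectrum K)))
  haveI : Finite V.left := finite_of_compact_of_discrete
  haveI : Fintype V.left := Fintype.ofFinite _
  let W : V.left → V.left.Opens := fun v => ⟨{v}, isOpen_discrete _⟩
  have hpt : ∀ v, ∃ n : ℕ, 0 < n ∧ ∃ c, g.hom.app (op (openObj V (W v))) c =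
      n • G.obj.map (openHom V (W v)).op s := fun v => by
    obtain ⟨L, _, _, _, _, ⟨e⟩⟩ := exists_iso_singleton V (W v) v rfl
    obtain ⟨n, hn, c, hc⟩ := exists_nsmul_obj L g (G.obj.map (e.hom ≫ openHom V (W v)).op s)
    refine ⟨n, hn, F.obj.map e.inv.op c, ?_⟩
    rw [NatTrans.naturality_apply]
    refine (congrArg (G.obj.map e.inv.op) hc).trans ?_
    rw [map_nsmul, ← ConcreteCategory.comp_apply, ← Functor.map_comp, ← op_comp, Iso.inv_hom_id_assoc]
  choose n hn c hc using hpt
  have hW : ∀ a b, a ≠ b → Disjoint (W a) (W b) := fun a b h => disjoint_iff.2 (Opens.ext <|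
    Set.eq_empty_of_forall_notMem fun x hx => h ((show x = a from hx.1).symm.trans hx.2))
  have hsup : ⨆ v, W v = ⊤ := top_le_iff.1 fun x _ => Opens.mem_iSup.2 ⟨x, rfl⟩
  obtain ⟨d, hd⟩ := exists_glue_disjoint V W hW hsup F fun v => (∏ w ∈ Finset.univ.erase v, n w) • c v
  refine ⟨∏ v, n v, Finset.prod_pos fun v _ => hn v, d, ext_disjoint V W hW hsup G _ _ fun v => ?_⟩
  rw [← NatTrans.naturality_apply]
  refine (congrArg (g.hom.app (op (openObj V (W v)))) (hd v)).trans ?_
  rw [map_nsmul, hc, smul_smul, map_nsmul, Finset.prod_erase_mul _ _ (Finset.mem_univ v)]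

end Groth.FieldPush
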