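import Groth.Agent.FlatMor2.ColimCoh.Etale
import Groth.Agent.EtaleDeep.Cons.TorsionColimit
import Groth.Agent.EtaleBase.PushEssImage
import Groth.Agent.EtaleBase.RpushExact
import Groth.Agent.EtaleBase.InjCoh
import Groth.Agent.EtaleBase.AgreeLocus
import Groth.Agent.PropsBasic2.Discrete
import Groth.Agent.S19222
import Mathlib.Topology.Sober
import Mathlib.FieldTheory.IsSepClosed

/-!
# Sheaves supported at closed points
-/

set_option autoImplicit false
set_option linter.style.haveILetI false
set_option backward.isDefEq.respectTransparency.types false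

universe u

open CategoryTheory CategoryTheory.Limits CategoryTheory.Abelian AlgebraicGeometry Opposite TopologicalSpace

namespace Groth.EtPbc.PointSupp

open Groth.EtaleBase Groth.EtaleBase.LocConst Groth.EtaleBase.SitePt Groth.EtaleDeep.Cons

variable {X : Scheme.{u}}

/-- Sheaves supported outside an open subscheme restrict to zero. -/
theorem isZero_pull_of_supp {U : Scheme.{u}} (j : U ⟶ X) [IsOpenImmersion j] {K : EtCoh.Ab X} {S : Set X}
    (hK : EtPBC.supp K ⊆ S) (hS : ∀ v : U, j.base v ∉ S) : IsZero ((EtCoh.pull j).obj K) := by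
  rw [IsZero.iff_id_eq_zero]
  refine stalkAt_jointlyReflectIsomorphisms.jointlyFaithful.map_injective fun v => ?_
  have h0 : IsZero ((EtCoh.stalk (geomPoint v)).obj ((EtCoh.pull j).obj K)) := by
    refine IsZero.of_iso ?_ ((stalkPullIso j (geomPoint v)).app _).symm
    refine (supp_subset_iff K S).1 hK _ inferInstance inferInstance _ ?_
    rw [Scheme.Hom.comp_apply, geomPoint_apply]
    exact hS v
  exact h0.eq_of_src _ _

/-- The complement of a closed set. -/
abbrev compl (T : Closeds X) : X.Opens := ⟨(T : Set X)ᶜ, T.2.isOpen_compl⟩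

/-- The unit of the open complement. -/
noncomputable abbrev unitCompl (T : Closeds X) (F : EtCoh.Ab X) :
    F ⟶ (EtCoh.push (compl T).ι).obj ((EtCoh.pull (compl T).ι).obj F) :=
  (EtCoh.pullPushAdj (compl T).ι).unit.app F

/-- The subsheaf of sections supported in a closed set. -/
noncomputable abbrev suppPart (T : Closeds X) (F : EtCoh.Ab X) : EtCoh.Ab X := kernel (unitCompl T F)

/-- Its support. -/
theorem supp_suppPart (T : Closeds X) (F : EtCoh.Ab X) : EtPBC.supp (suppPart T F) ⊆ (T : Set X) := by
  rw [supp_subset_iff]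
  intro Ω _ _ η hη
  let U := compl T
  have hr : Set.range η.base ⊆ Set.range U.ι.base := by
    rintro _ ⟨a, rfl⟩
    rw [Scheme.Opens.range_ι, Subsingleton.elim a default]
    exact hη
  let η' := IsOpenImmersion.lift U.ι η hr
  have e : η' ≫ U.ι = η := IsOpenImmersion.lift_fac _ _ _
  rw [← e]
  let a := EtCoh.pullPushAdj U.ι
  have h1 : IsIso ((EtCoh.pull U.ι).map (a.unit.app F)) := by
    haveI := isIso_counit_openImmersion U.ι ((EtCoh.pull U.ι).obj F)
    have h2 : IsIso ((EtCoh.pull U.ι).map (a.unit.app F) ≫ a.counit.app ((EtCoh.pull U.ι).obj F)) := by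
      erw [a.left_triangle_components]; exact inferInstanceAs (IsIso (𝟙 _))
    exact IsIso.of_isIso_comp_right _ (a.counit.app ((EtCoh.pull U.ι).obj F))
  have h0 : (EtCoh.pull U.ι).map (kernel.ι (unitCompl T F)) = 0 := by
    rw [← cancel_mono ((EtCoh.pull U.ι).map (a.unit.app F)), ← Functor.map_comp, kernel.condition,
      Functor.map_zero, zero_comp]
  haveI := pull_preservesFiniteLimits U.ι
  refine IsZero.of_iso ?_ ((stalkPullIso U.ι η').app _)
  exact Functor.map_isZero (EtCoh.stalk η') (IsZero.of_mono_eq_zero _ h0)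

/-- A map from a sheaf supported in `T` lands in the part supported in `T`. -/
theorem comp_unitCompl {T : Closeds X} {K F : EtCoh.Ab X} (hK : EtPBC.supp K ⊆ (T : Set X)) (φ : K ⟶ F) :
    φ ≫ unitCompl T F = 0 := by
  apply ((EtCoh.pullPushAdj (compl T).ι).homEquiv _ _).symm.injective
  exact (isZero_pull_of_supp (compl T).ι hK fun v => v.2).eq_of_src _ _

/-- Finite sets of closed points. -/
abbrev Idx (X : Scheme.{u}) : Type u := Finset {x : X // IsClosed ({x} : Set X)}

/-- The closed set of a finite set of closed points. -/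
def clos (T : Idx X) : Closeds X :=
  ⟨⋃ x ∈ T, {x.1}, T.finite_toSet.isClosed_biUnion fun x _ => x.2⟩

theorem clos_mono {T T' : Idx X} (h : T ≤ T') : (clos T : Set X) ⊆ clos T' :=
  Set.biUnion_subset_biUnion_left fun _ hx => h hx

theorem finite_clos (T : Idx X) : (clos T : Set X).Finite :=
  T.finite_toSet.biUnion fun x _ => Set.finite_singleton x.1

/-- The system of parts supported at finitely many closed points. -/
noncomputable def diag (F : EtCoh.Ab X) : Idx X ⥤ EtCoh.Ab X where
  obj T := suppPart (clos T) F
  map {T T'} h := kernel.lift _ (kernel.ι _)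
    (comp_unitCompl ((supp_suppPart (clos T) F).trans (clos_mono (leOfHom h))) _)
  map_id T := by rw [← cancel_mono (kernel.ι _), kernel.lift_ι, Category.id_comp]
  map_comp f g := by
    rw [← cancel_mono (kernel.ι _), kernel.lift_ι, Category.assoc, kernel.lift_ι, kernel.lift_ι]

/-- The cocone. -/
noncomputable def cocone (F : EtCoh.Ab X) : Cocone (diag F) where
  pt := F
  ι :=
    { app := fun T => kernel.ι (unitCompl (clos T) F)
      naturality := fun T T' h => by
        refine Eq.trans ?_ (Category.comp_id _).symm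
        exact kernel.lift_ι _ _ _ }

/-- A closed set of closed points in a Noetherian scheme is finite. -/
theorem finite_of_forall_isClosed {W : Scheme.{u}} [NoetherianSpace W] {C : Set W} (hC : IsClosed C)
    (h : ∀ x ∈ C, IsClosed ({x} : Set W)) : C.Finite := by
  obtain ⟨S, hS, hSc, hSi, hSC⟩ := NoetherianSpace.exists_finite_set_isClosed_irreducible hC
  rw [hSC]
  refine hS.sUnion fun t ht => ?_
  obtain ⟨g, hg⟩ := QuasiSober.sober (hSi t ht) (hSc t ht)
  have hgC : g ∈ C := hSC ▸ Set.mem_sUnion.2 ⟨t, ht, hg.mem⟩
  have : t = {g} := by rw [← (h g hgC).closure_eq, hg.def]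
  rw [this]
  exact Set.finite_singleton g

/-- The sheaf is the colimit. -/
theorem nonempty_isColimit_cocone [IsLocallyNoetherian X] (F : EtCoh.Ab X)
    (hF : ∀ x ∈ EtPBC.supp F, IsClosed ({x} : Set X)) : Nonempty (IsColimit (cocone F)) := by
  classical
  let θ : colimit (diag F) ⟶ F := colimit.desc _ (cocone F)
  have hpres : ∀ x : X, PreservesColimitsOfShape (Idx X) (EtCoh.stalk (geomPoint x)) := fun x =>
    have : PreservesColimitsOfSize.{u, u} (EtCoh.stalk (geomPoint x)) :=
      ((Scheme.pointSmallEtale (geomPoint x)).skyscraperSheafAdjunction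
        (A := AddCommGrpCat.{u + 1})).leftAdjoint_preservesColimits
    inferInstance
  haveI : Epi θ := epi_of_stalk_surjective _ fun x y => by
    obtain ⟨U, t, σ, rfl⟩ := germ_surjective (geomPoint x) F y
    obtain ⟨_, ⟨W, hW, rfl⟩, htW, -⟩ := U.left.isBasis_affineOpens.exists_subset_of_mem_open
      (Set.mem_univ (fiberPoint (geomPoint x) t)) isOpen_univ
    obtain ⟨t', ht'⟩ := exists_lift_open (geomPoint x) W t htW
    let V := openObj U W
    let σ' := F.obj.map (openHom U W).op σ
    haveI : IsAffine V.left := hW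
    haveI : AlgebraicGeometry.Etale V.hom := V.prop
    let Vh : V.left ⟶ X := V.hom
    haveI : LocallyOfFiniteType Vh := inferInstanceAs (LocallyOfFiniteType V.hom)
    haveI : IsLocallyNoetherian V.left := LocallyOfFiniteType.isLocallyNoetherian Vh
    haveI : AlgebraicGeometry.IsNoetherian V.left := {}
    let C : Set V.left := (vanishSet F V σ')ᶜ
    have hCx : ∀ u ∈ C, IsClosed ({V.hom.base u} : Set X) := fun u hu => by
      obtain ⟨s, hs⟩ := exists_geomPoint_lift V u
      have hmem : Vh.base u ∈ EtPBC.supp F := by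
        refine ⟨_, _, inferInstanceAs (IsSepClosed (SeparableClosure (X.residueField (Vh.base u)))),
          geomPoint (Vh.base u), ?_,
          fun (hz : IsZero ((EtCoh.stalk (geomPoint (Vh.base u))).obj F)) => hu ?_⟩
        · exact Set.eq_singleton_iff_unique_mem.2
            ⟨⟨default, geomPoint_apply _ _⟩, fun y ⟨z, hz⟩ => hz ▸ geomPoint_apply _ z⟩
        · have h0 := (germ_eq_zero_iff_mem _ F V σ' s).1
            ((AddCommGrpCat.subsingleton_of_isZero hz).elim _ _)
          exact (show fiberPoint _ s = u from hs) ▸ h0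
      exact hF _ hmem
    have hCfin : C.Finite := finite_of_forall_isClosed (isOpen_vanishSet F V σ').isClosed_compl fun u hu => by
      have hd := V.hom.isDiscrete_preimage_singleton (V.hom.base u)
      have hcl : IsClosed (V.hom.base ⁻¹' {V.hom.base u}) := (hCx u hu).preimage V.hom.continuous
      have : DiscreteTopology ↥(V.hom.base ⁻¹' {V.hom.base u}) := hd.to_subtype
      have h1 := (isClosed_discrete ({⟨u, rfl⟩} : Set ↥(V.hom.base ⁻¹' {V.hom.base u})))
      simpa using hcl.isClosedMap_subtype_val _ h1
    let T : Idx X := ((hCfin.image fun u => V.hom.base u).toFinset).subtype _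
    have hT : ∀ u ∈ C, V.hom.base u ∈ (clos T : Set X) := fun u hu => by
      refine Set.mem_iUnion₂.2 ⟨⟨_, hCx u hu⟩, ?_, rfl⟩
      simp only [T, Finset.mem_subtype, Set.Finite.mem_toFinset]
      exact ⟨u, hu, rfl⟩
    have hη : (unitCompl (clos T) F).hom.app (op V) σ' = 0 := by
      refine (unit_eq_zero_iff (compl (clos T)).ι F V σ').2 ?_
      rintro _ ⟨p, rfl⟩
      by_contra hp
      have h2 : V.hom.base ((pullback.fst V.hom (compl (clos T)).ι).base p) ∈ (clos T : Set X) := hT _ hp
      rw [← Scheme.Hom.comp_apply, pullback.condition, Scheme.Hom.comp_apply] at h2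
      exact ((pullback.snd V.hom (compl (clos T)).ι).base p).2 h2
    let S := ShortComplex.mk (kernel.ι (unitCompl (clos T) F)) (unitCompl (clos T) F) (kernel.condition _)
    have hS : S.Exact := ShortComplex.exact_of_f_is_kernel S (kernelIsKernel _)
    obtain ⟨w, hw⟩ := (ShortComplex.ab_exact_iff _).1 (hS.map (EtCoh.stalk (geomPoint x)))
      (germ (geomPoint x) F V t' σ') ((germ_map _ _ _ _ _).trans ((congrArg _ hη).trans (map_zero _)))
    refine ⟨(EtCoh.stalk (geomPoint x)).map (colimit.ι (diag F) T) w, ?_⟩
    rw [← ConcreteCategory.comp_apply, ← Functor.map_comp,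
      show colimit.ι (diag F) T ≫ θ = (cocone F).ι.app T from colimit.ι_desc _ _]
    refine hw.trans ?_
    rw [germ_res, ht']
  haveI : Mono θ := mono_of_stalk_injective _ fun x => by
    rw [injective_iff_map_eq_zero]
    intro z hz
    haveI := hpres x
    obtain ⟨T, w, rfl⟩ := Types.jointly_surjective _
      (isColimitOfPreserves (EtCoh.stalk (geomPoint x) ⋙ CategoryTheory.forget AddCommGrpCat.{u + 1})
        (colimit.isColimit (diag F))) z
    suffices ∀ w : (EtCoh.stalk (geomPoint x)).obj ((diag F).obj T),
        (EtCoh.stalk (geomPoint x)).map θ ((EtCoh.stalk (geomPoint x)).map (colimit.ι (diag F) T) w) = 0 →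
          (EtCoh.stalk (geomPoint x)).map (colimit.ι (diag F) T) w = 0 from this w hz
    intro w hz
    rw [← ConcreteCategory.comp_apply, ← Functor.map_comp,
      show colimit.ι (diag F) T ≫ θ = (cocone F).ι.app T from colimit.ι_desc _ _] at hz
    have : Mono ((EtCoh.stalk (geomPoint x)).map ((cocone F).ι.app T)) :=
      inferInstanceAs (Mono ((EtCoh.stalk (geomPoint x)).map (kernel.ι (unitCompl (clos T) F))))
    rw [(AddCommGrpCat.mono_iff_injective _).1 this (hz.trans (map_zero _).symm), map_zero]
  haveI : IsIso θ := isIso_of_mono_of_epi _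
  haveI : IsIso ((colimit.isColimit (diag F)).desc (cocone F)) := ‹IsIso θ›
  exact ⟨IsColimit.ofPointIso (t := cocone F) (colimit.isColimit (diag F))⟩

/-- Cohomology of a sheaf supported at closed points of a finite type scheme over a separably closed
field vanishes in positive degrees. -/
theorem subsingleton_H {k : Type u} [Field k] [IsSepClosed k] (a : X ⟶ Spec (CommRingCat.of k))
    [LocallyOfFiniteType a] [QuasiCompact a] (F : EtCoh.Ab X)
    (hF : ∀ x ∈ EtPBC.supp F, IsClosed ({x} : Set X)) (q : ℕ) (hq : 0 < q) :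
    Subsingleton (EtCoh.H X F q) := by
  haveI : IsLocallyNoetherian X := LocallyOfFiniteType.isLocallyNoetherian a
  haveI : CompactSpace X := QuasiCompact.compactSpace_of_compactSpace a
  haveI : QuasiSeparatedSpace X := inferInstance
  obtain ⟨hc⟩ := nonempty_isColimit_cocone F hF
  haveI := Groth.FlatMor2.ColimCoh.Etale.preservesColimitsOfShape_HF_small (X := X) q (Idx X)
  have h0 : ∀ T : Idx X, IsZero ((EtCoh.HF X q).obj ((diag F).obj T)) := fun T => by
    let Z : Closeds X := clos T
    let i := (Scheme.IdealSheafData.vanishingIdeal Z).subschemeι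
    have hi : Set.range i.base = (Z : Set X) := by
      rw [Scheme.IdealSheafData.range_subschemeι, Scheme.IdealSheafData.coe_support_vanishingIdeal]
    obtain ⟨G, ⟨e⟩⟩ := (essImage_push_iff i (suppPart Z F)).2 (hi.symm ▸ supp_suppPart Z F)
    haveI : Finite (Scheme.IdealSheafData.vanishingIdeal Z).subscheme := by
      have : Finite ↥(Set.range i.base) := (hi.symm ▸ finite_clos T : (Set.range i.base).Finite).to_subtype
      exact Finite.of_injective (Set.rangeFactorization i.base)
        fun p p' h => i.isClosedEmbedding.injective (congrArg Subtype.val h :)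
    obtain ⟨hZaff, -⟩ := Groth.PropsBasic2.finite_carrier _ k (i ≫ a) (inferInstance)
    haveI := hZaff
    haveI : IsFinite (i ≫ a) := by
      haveI := LocallyQuasiFinite.of_finite_preimage_singleton (i ≫ a) fun y => Set.toFinite _
      exact IsFinite.of_locallyQuasiFinite (i ≫ a)
    haveI : IsSepClosed (IsLocalRing.ResidueField k) := by
      let e₀ : k ≃+* IsLocalRing.ResidueField k := RingEquiv.ofBijective (IsLocalRing.residue k)
        ⟨(IsLocalRing.residue k).injective, IsLocalRing.residue_surjective⟩
      exact IsSepClosed.of_exists_root _ fun p hp hirr hsep => by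
        obtain ⟨r, hr⟩ := IsSepClosed.exists_root (p.map e₀.symm.toRingHom)
          (by rw [Polynomial.degree_map]; exact (Polynomial.degree_pos_of_irreducible hirr).ne') hsep.map
        refine ⟨e₀ r, ?_⟩
        have hp' : p = (p.map e₀.symm.toRingHom).map e₀.toRingHom := by simp [Polynomial.map_map]
        rw [hp', show e₀ r = e₀.toRingHom r from rfl, Polynomial.eval_map_apply, hr, map_zero]
    haveI : Subsingleton (EtCoh.H _ G q) := Groth.Agent.S19222.result k _ (i ≫ a) G q hq
    haveI := pull_preservesFiniteLimits i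
    have hb := InjCoh.HofPush_bijective i G (fun n hn => isZero_Rpush i G n hn) q
    haveI : Subsingleton (EtCoh.H X ((EtCoh.push i).obj G) q) := hb.1.subsingleton
    exact IsZero.of_iso (AddCommGrpCat.isZero_of_subsingleton (AddCommGrpCat.of (EtCoh.H X ((EtCoh.push i).obj G) q)))
      ((EtCoh.HF X q).mapIso e).symm
  have h1 : IsZero ((EtCoh.HF X q).obj F) := by
    rw [IsZero.iff_id_eq_zero]
    exact (isColimitOfPreserves (EtCoh.HF X q) hc).hom_ext fun T => (h0 T).eq_of_src _ _
  exact AddCommGrpCat.subsingleton_of_isZero h1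

end Groth.EtPbc.PointSupp
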