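import Groth.Agent.EtPbc.FieldPush
import Groth.Agent.EtPbc.PointSupp
import Groth.Agent.PropsBasic2.Reduced

/-!
# Cohomology of finite reduced schemes and of sheaves supported at closed points is torsion
-/

set_option autoImplicit false
set_option backward.isDefEq.respectTransparency.types false
set_option linter.style.haveILetI false
set_option maxHeartbeats 1000000

universe u

open CategoryTheory CategoryTheory.Limits CategoryTheory.Abelian AlgebraicGeometry Opposite TopologicalSpace

namespace Groth.FieldPush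

open Groth.EtaleBase

/-- Sections over an étale field point lift up to torsion. -/
theorem exists_nsmul_point {K : Type u} [Field K] {X : Scheme.{u}} (j : Spec (CommRingCat.of K) ⟶ X) [Etale j]
    {F G : EtCoh.Ab X} (g : F ⟶ G) [Epi g] (W : X.Etale) (e : W.left ≅ Spec (CommRingCat.of K))
    (he : e.hom ≫ j = W.hom) (s : G.obj.obj (op W)) : ∃ n : ℕ, 0 < n ∧ ∃ c, g.hom.app (op W) c = n • s := by
  haveI := InjCoh.jCont j
  haveI : Epi ((EtShriek.restrAlong j).map g) := by
    haveI := (EtCoh.pullPushAdj j).leftAdjoint_preservesColimits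
    exact epi_of_epi_fac (f := (pullRestrIso j).hom.app F)
      (h := (EtCoh.pull j).map g ≫ (pullRestrIso j).hom.app G)
      ((pullRestrIso j).hom.naturality g).symm
  let T := (EtShriek.compEtale j).obj (EtCoh.top (Spec (CommRingCat.of K)))
  let ε : W ≅ T := MorphismProperty.Over.isoMk e
    (((congrArg (e.hom ≫ ·) (Category.id_comp j))).trans he)
  obtain ⟨n, hn, c, hc⟩ := exists_nsmul_top ((EtShriek.restrAlong j).map g) (G.obj.map ε.inv.op s)
  refine ⟨n, hn, F.obj.map ε.hom.op c, ?_⟩
  rw [NatTrans.naturality_apply]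
  refine (congrArg (G.obj.map ε.hom.op) hc).trans ?_
  refine (map_nsmul (G.obj.map ε.hom.op).hom n (G.obj.map ε.inv.op s)).trans ?_
  refine congrArg (n • ·) ?_
  refine (ConcreteCategory.comp_apply _ _ _).symm.trans ?_
  rw [← Functor.map_comp, ← op_comp, Iso.hom_inv_id, op_id, CategoryTheory.Functor.map_id]
  rfl

/-- Global sections on a finite reduced discrete scheme lift up to torsion. -/
theorem exists_nsmul_finite {Z : Scheme.{u}} [Finite Z] [DiscreteTopology Z] [IsReduced Z]
    {F G : EtCoh.Ab Z} (g : F ⟶ G) [Epi g] (s : G.obj.obj (op (EtCoh.top Z))) :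
    ∃ n : ℕ, 0 < n ∧ ∃ c, g.hom.app (op (EtCoh.top Z)) c = n • s := by
  classical
  haveI : Fintype Z := Fintype.ofFinite _
  let W : Z → Z.Opens := fun v => ⟨{v}, isOpen_discrete _⟩
  let V := EtCoh.top Z
  have hpt : ∀ v, ∃ n : ℕ, 0 < n ∧ ∃ c, g.hom.app (op (openObj V (W v))) c =
      n • G.obj.map (openHom V (W v)).op s := fun v => by
    haveI hsub : Subsingleton (W v : Scheme.{u}) :=
      ⟨fun a b => Subtype.ext ((a.2 : a.1 = v).trans (b.2 : b.1 = v).symm)⟩
    haveI : IsReduced (W v : Scheme.{u}) := isReduced_of_isOpenImmersion (W v).ι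
    let w : (W v : Scheme.{u}) := ⟨v, rfl⟩
    let f := (W v : Scheme.{u}).fromSpecResidueField w
    haveI : IsClosedImmersion f := IsClosedImmersion.of_isPreimmersion _ (isClosed_discrete _)
    haveI : Surjective f := ⟨fun a => ⟨default, Subsingleton.elim _ _⟩⟩
    haveI hf : IsIso f := isIso_of_isClosedImmersion_of_surjective f
    let κ := (W v : Scheme.{u}).residueField w
    let j : Spec (CommRingCat.of κ) ⟶ Z := f ≫ (W v).ι
    haveI : IsOpenImmersion j := inferInstanceAs (IsOpenImmersion (f ≫ (W v).ι))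
    exact exists_nsmul_point j g (openObj V (W v))
      (show (W v : Scheme.{u}) ≅ Spec (CommRingCat.of κ) from (@asIso _ _ _ _ f hf).symm)
      ((IsIso.inv_hom_id_assoc f (W v).ι).trans (Category.comp_id _).symm) _
  choose n hn c hc using hpt
  have hW : ∀ a b, a ≠ b → Disjoint (W a) (W b) := fun a b h => disjoint_iff.2 (Opens.ext <|
    Set.eq_empty_of_forall_notMem fun x hx => h ((show x = a from hx.1).symm.trans hx.2))
  have hsup : ⨆ v, W v = ⊤ := top_le_iff.1 fun x _ => Opens.mem_iSup.2 ⟨x, rfl⟩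
  obtain ⟨d, hd⟩ := exists_glue_disjoint V W hW hsup F fun v => (∏ w ∈ Finset.univ.erase v, n w) • c v
  refine ⟨∏ v, n v, Finset.prod_pos fun v _ => hn v, d, ext_disjoint V W hW hsup G _ _ fun v => ?_⟩
  rw [← NatTrans.naturality_apply]
  refine (congrArg (g.hom.app (op (openObj V (W v)))) (hd v)).trans ?_
  rw [map_nsmul, hc, smul_smul, map_nsmul, Finset.prod_erase_mul _ _ (Finset.mem_univ v)]

/-- Positive degree cohomology of a finite reduced discrete scheme is torsion. -/
theorem isAddTorsion_H_finite {Z : Scheme.{u}} [Finite Z] [DiscreteTopology Z] [IsReduced Z] :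
    ∀ (q : ℕ) (F : EtCoh.Ab Z), IsAddTorsion (EtCoh.H Z F (q + 1)) := by
  intro q
  induction q with
  | zero =>
    intro F x
    have hS := Groth.CohFin.injSeq_shortExact F
    haveI := hS.epi_g
    obtain ⟨a, rfl⟩ := ExtAdj.exists_comp_extClass _ F 0 x
    obtain ⟨a, rfl⟩ := (Ext.mk₀_bijective _ _).2 a
    obtain ⟨n, hn, c, hc⟩ := exists_nsmul_finite (Groth.CohFin.injSeq F).g (EtLimit.Resn.ev _ a)
    have ha : (EtLimit.Resn.ev _).symm c ≫ (Groth.CohFin.injSeq F).g = n • a := by
      refine (EtLimit.Resn.ev _).injective ?_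
      rw [EtLimit.Resn.ev_comp, AddEquiv.apply_symm_apply, map_nsmul, hc]
    refine isOfFinAddOrder_iff_nsmul_eq_zero.2 ⟨n, hn, ?_⟩
    refine (map_nsmul ((Ext.bilinearComp _ _ _ 0 1 1 rfl).flip hS.extClass) n (Ext.mk₀ a)).symm.trans ?_
    show (n • Ext.mk₀ a).comp hS.extClass rfl = 0
    rw [show n • Ext.mk₀ a = Ext.mk₀ (n • a) from (map_nsmul Ext.addEquiv₀.symm n a).symm, ← ha,
      ← Ext.mk₀_comp_mk₀_assoc, hS.comp_extClass, Ext.comp_zero]
  | succ q ih =>
    intro F x
    obtain ⟨a, rfl⟩ := ExtAdj.exists_comp_extClass _ F (q + 1) x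
    obtain ⟨n, hn, hna⟩ := isOfFinAddOrder_iff_nsmul_eq_zero.1 (ih _ a)
    refine isOfFinAddOrder_iff_nsmul_eq_zero.2 ⟨n, hn, ?_⟩
    refine (map_nsmul ((Ext.bilinearComp _ _ _ (q + 1) 1 (q + 2) rfl).flip
      (Groth.CohFin.injSeq_shortExact F).extClass) n a).symm.trans ?_
    exact (congrArg (fun z => Ext.comp z (Groth.CohFin.injSeq_shortExact F).extClass rfl) hna).trans
      (Ext.zero_comp _ _ _ _ _)

/-- Cohomology of a sheaf supported at closed points is torsion in positive degrees. -/
theorem isAddTorsion_H_of_supp {X : Scheme.{u}} [IsNoetherian X] (F : EtCoh.Ab X)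
    (hF : ∀ x ∈ EtPBC.supp F, IsClosed ({x} : Set X)) (q : ℕ) : IsAddTorsion (EtCoh.H X F (q + 1)) := by
  intro x
  obtain ⟨hc⟩ := EtPbc.PointSupp.nonempty_isColimit_cocone F hF
  haveI := Groth.FlatMor2.ColimCoh.Etale.preservesColimitsOfShape_HF_small (X := X) (q + 1) (EtPbc.PointSupp.Idx X)
  obtain ⟨T, y, rfl⟩ := Types.jointly_surjective _
    (isColimitOfPreserves (EtCoh.HF X (q + 1) ⋙ CategoryTheory.forget AddCommGrpCat.{u + 1}) hc) x
  suffices h : IsAddTorsion (EtCoh.H X ((EtPbc.PointSupp.diag F).obj T) (q + 1)) from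
    ((EtCoh.HF X (q + 1)).map ((EtPbc.PointSupp.cocone F).ι.app T)).hom.isOfFinAddOrder (h y)
  let C : Closeds X := EtPbc.PointSupp.clos T
  let i := (Scheme.IdealSheafData.vanishingIdeal C).subschemeι
  have hi : Set.range i.base = (C : Set X) := by
    rw [Scheme.IdealSheafData.range_subschemeι, Scheme.IdealSheafData.coe_support_vanishingIdeal]
  obtain ⟨G, ⟨e⟩⟩ := (essImage_push_iff i (EtPbc.PointSupp.suppPart C F)).2
    (hi.symm ▸ EtPbc.PointSupp.supp_suppPart C F)
  haveI : Finite (Scheme.IdealSheafData.vanishingIdeal C).subscheme := by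
    have : Finite ↥(Set.range i.base) := (hi.symm ▸ EtPbc.PointSupp.finite_clos T : (Set.range i.base).Finite).to_subtype
    exact Finite.of_injective (Set.rangeFactorization i.base)
      fun p p' h => i.isClosedEmbedding.injective (congrArg Subtype.val h :)
  haveI : DiscreteTopology (Scheme.IdealSheafData.vanishingIdeal C).subscheme := by
    have : T1Space (Scheme.IdealSheafData.vanishingIdeal C).subscheme := ⟨fun p => by
      have hp : i.base p ∈ (C : Set X) := hi ▸ ⟨p, rfl⟩
      obtain ⟨z, -, hz⟩ := Set.mem_iUnion₂.1 hp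
      have hz' : IsClosed ({i.base p} : Set X) := by
        rw [show i.base p = z.1 from hz]; exact z.2
      have := hz'.preimage i.continuous
      rwa [show i.base ⁻¹' {i.base p} = {p} from Set.ext fun w =>
        ⟨fun h => i.isClosedEmbedding.injective h, fun h => congrArg i.base h⟩] at this⟩
    exact Finite.instDiscreteTopology
  haveI : IsReduced (Scheme.IdealSheafData.vanishingIdeal C).subscheme :=
    Groth.PropsBasic2.isReduced_vanishingIdeal_subscheme C
  haveI := pull_preservesFiniteLimits i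
  have hb := InjCoh.HofPush_bijective i G (fun n hn => isZero_Rpush i G n hn) (q + 1)
  have hG : IsAddTorsion (EtCoh.H X ((EtCoh.push i).obj G) (q + 1)) := fun z => by
    obtain ⟨n, hn, hnz⟩ := isOfFinAddOrder_iff_nsmul_eq_zero.1 (isAddTorsion_H_finite q G (EtLim.HofPush i G (q + 1) z))
    exact isOfFinAddOrder_iff_nsmul_eq_zero.2 ⟨n, hn, hb.1 (by rw [map_nsmul, hnz, map_zero])⟩
  exact EtPbc.Torsion.isAddTorsion_of_iso ((EtCoh.HF X (q + 1)).mapIso e) hG

end Groth.FieldPush
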