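import Groth.Agent.EtPbc.GabberCriterion
import Groth.Agent.HensPair.ProperClopenCor
import Groth.Agent.CohFin.ProjFinite

/-!
# Global sections on proper schemes over henselian pairs
-/

set_option autoImplicit false
set_option linter.style.haveILetI false
set_option backward.isDefEq.respectTransparency.types false

universe u

open CategoryTheory CategoryTheory.Limits AlgebraicGeometry Opposite

namespace Groth.EtPbc.HensPairSections

open Groth.HensPair PrimeSpectrum

variable {A : Type u} [CommRing A] (I : Ideal A) [HenselianRing A I]

/-- On a proper scheme over a henselian pair, sections are the sections on the special part. -/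
theorem bijective_un {X Z : Scheme.{u}} (f : X ⟶ Spec (CommRingCat.of A)) [IsProper f]
    (i : Z ⟶ X) [IsClosedImmersion i] (hi : Set.range i.base = overV f I) (F : EtCoh.Ab X) :
    Function.Bijective (Groth.EtaleBase.ConnFib.un i F (EtCoh.top X)) := by
  have : CompactSpace X := QuasiCompact.compactSpace_of_compactSpace f
  have : QuasiSeparatedSpace X := quasiSeparatedSpace_of_quasiSeparated f
  have hmeet : ∀ {Y : Scheme.{u}} (g : Y ⟶ Spec (CommRingCat.of A)) [IsProper g] (T : Set Y), IsClosed T →
      T.Nonempty → (T ∩ overV g I).Nonempty := fun g _ T hT hne =>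
    Set.nonempty_iff_ne_empty.2 fun h => hne.ne_empty
      (eq_empty_of_inter_overV g (HenselianRing.jac (I := I)) hT h)
  refine Gabber.bijective_un (fun T hT hne => hi ▸ hmeet f T hT hne) fun Y π _ => ?_
  have : π.base ⁻¹' Set.range i.base = overV (π ≫ f) I := by rw [hi]; rfl
  rw [this]
  exact ⟨hmeet (π ≫ f), fun y => isPreconnected_closure_inter_overV Groth.CohFin.projFinite I (π ≫ f) y⟩

/-- The form for the projection from the base change to `A/I`. -/
theorem bijective_un_pullback {X : Scheme.{u}} (f : X ⟶ Spec (CommRingCat.of A)) [IsProper f] (F : EtCoh.Ab X) :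
    Function.Bijective (Groth.EtaleBase.ConnFib.un
      (pullback.fst f (Spec.map (CommRingCat.ofHom (Ideal.Quotient.mk I)))) F (EtCoh.top X)) := by
  have : IsClosedImmersion (Spec.map (CommRingCat.ofHom (Ideal.Quotient.mk I))) :=
    IsClosedImmersion.spec_of_surjective _ Ideal.Quotient.mk_surjective
  exact bijective_un I f _ (range_pullback_fst_mk I f) F

/-- The affine form. -/
theorem bijective_un_affine (F : EtCoh.Ab (Spec (CommRingCat.of A))) :
    Function.Bijective (Groth.EtaleBase.ConnFib.un
      (Spec.map (CommRingCat.ofHom (Ideal.Quotient.mk I))) F (EtCoh.top (Spec (CommRingCat.of A)))) := by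
  have : IsClosedImmersion (Spec.map (CommRingCat.ofHom (Ideal.Quotient.mk I))) :=
    IsClosedImmersion.spec_of_surjective _ Ideal.Quotient.mk_surjective
  refine bijective_un I (𝟙 _) _ ?_ F
  refine (range_comap_of_surjective _ _ (Ideal.Quotient.mk_surjective (I := I))).trans ?_
  rw [Ideal.mk_ker]
  rfl

end Groth.EtPbc.HensPairSections
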