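import Groth.Agent.EtPbc.ClosedEfface
import Groth.Agent.EtPbc.HensPairSections

/-!
# The affine analogue of proper base change
-/

set_option autoImplicit false
set_option linter.style.haveILetI false

universe u

open CategoryTheory CategoryTheory.Limits CategoryTheory.Abelian AlgebraicGeometry Opposite

namespace Groth.EtPbc.GabberAffine

open Groth.EtaleBase

attribute [local instance] pull_preservesFiniteLimits

variable {X Z : Scheme.{u}} (i : Z ⟶ X) [IsClosedImmersion i]

/-- Quotients of torsion sheaves are torsion. -/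
lemma isTorsion_of_epi {F G : EtCoh.Ab X} (f : F ⟶ G) [Epi f] (hF : EtCoh.IsTorsion F) :
    EtCoh.IsTorsion G :=
  Torsion.isTorsion_of_stalks fun x a => by
    haveI : Epi ((EtCoh.stalk (geomPoint x)).map f) := inferInstance
    obtain ⟨b, rfl⟩ := (AddCommGrpCat.epi_iff_surjective _).1 ‹Epi ((EtCoh.stalk (geomPoint x)).map f)› a
    exact AddMonoidHom.isOfFinAddOrder _ (Torsion.isAddTorsion_stalk hF (geomPoint x) b)

/-- Classes on an affine scheme are effaced by injective maps of torsion sheaves. -/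
theorem exists_efface_self [IsAffine X] (F : EtCoh.Ab X) (hF : EtCoh.IsTorsion F) (n : ℕ)
    (ξ : EtCoh.H X F (n + 1)) :
    ∃ (F' : EtCoh.Ab X) (_ : EtCoh.IsTorsion F') (φ : F ⟶ F') (_ : Mono φ),
      ξ.comp (Ext.mk₀ φ) (add_zero (n + 1)) = 0 := by
  obtain ⟨F', hF', φ, hφ, h⟩ := ClosedEfface.exists_efface (𝟙 X) F hF n (EtCore.Hpull (𝟙 X) F (n + 1) ξ)
  refine ⟨F', hF', φ, hφ, (InjCoh.Hpull_bijective_univHomeo (𝟙 X) F' (n + 1)).1 ?_⟩
  rw [EtLimit.Hpull_map, map_zero]
  exact h

/-- Natural comparison with the closed subscheme. -/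
lemma hofPush_map {F G : EtCoh.Ab Z} (u : F ⟶ G) (q : ℕ) (x : EtCoh.H X ((EtCoh.push i).obj F) q) :
    EtLim.HofPush i G q (x.comp (Ext.mk₀ ((EtCoh.push i).map u)) (add_zero q)) =
      (EtLim.HofPush i F q x).comp (Ext.mk₀ u) (add_zero q) := by
  rw [ConstRestr.hofPush_apply, ConstRestr.hofPush_apply, EtLimit.Hpull_map]
  simp only [Ext.comp_assoc_of_third_deg_zero, Ext.mk₀_comp_mk₀]
  exact congrArg (fun z => Ext.comp _ (Ext.mk₀ z) (add_zero q))
    ((EtCoh.pullPushAdj i).counit.naturality u)

/-- Bijectivity in all degrees, from bijectivity of global sections. -/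
theorem bijective_unit [IsAffine X]
    (h0 : ∀ F : EtCoh.Ab X, Function.Bijective (ConnFib.un i F (EtCoh.top X))) :
    ∀ (q : ℕ) (F : EtCoh.Ab X), EtCoh.IsTorsion F →
      Function.Bijective (Sheaf.H.map ((EtCoh.pullPushAdj i).unit.app F) q) := by
  intro q
  induction q with
  | zero =>
    intro F _
    let η := (EtCoh.pullPushAdj i).unit.app F
    have hb : Function.Bijective (η.hom.app (op (EtCoh.top X))) := h0 F
    have e : ∀ x, Sheaf.H.map η 0 x = (Sheaf.H.equiv₀ _ (EtCore.topIsTerminal X)).symm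
        (η.hom.app (op (EtCoh.top X)) (Sheaf.H.equiv₀ F (EtCore.topIsTerminal X) x)) := fun x => by
      exact ((Sheaf.H.equiv₀ _ (EtCore.topIsTerminal X)).symm_apply_apply _).symm.trans
        (congrArg _ (Sheaf.H.equiv₀_naturality (hT := EtCore.topIsTerminal X) η x).symm)
    rw [show ⇑(Sheaf.H.map η 0) = _ from funext e]
    exact (AddEquiv.bijective _).comp (hb.comp (AddEquiv.bijective _))
  | succ n ih =>
    haveI : (EtCoh.push i).PreservesEpimorphisms := push_preservesEpimorphisms i
    let T := EtCoh.pull i ⋙ EtCoh.push i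
    haveI : (EtCoh.push i).PreservesMonomorphisms :=
      Functor.preservesMonomorphisms_of_adjunction (EtCoh.pullPushAdj i)
    haveI : PreservesFiniteLimits (EtCoh.push i) :=
      have : PreservesLimitsOfSize.{0, 0} (EtCoh.push i) := (EtCoh.pullPushAdj i).rightAdjoint_preservesLimits
      PreservesLimitsOfSize.preservesFiniteLimits _
    haveI : PreservesFiniteColimits (EtCoh.push i) := by
      haveI := (EtCoh.push i).preservesHomology_of_preservesEpis_and_kernels
      exact Functor.preservesFiniteColimits_of_preservesHomology _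
    have hT : ∀ {S : ShortComplex (EtCoh.Ab X)}, S.ShortExact →
        ((S.map (EtCoh.pull i)).map (EtCoh.push i)).ShortExact := fun hS =>
      (hS.map_of_exact (EtCoh.pull i)).map_of_exact (EtCoh.push i)
    intro F hF
    let η := (EtCoh.pullPushAdj i).unit
    -- a short exact sequence starting with a given injection
    have seq : ∀ {F' : EtCoh.Ab X} (φ : F ⟶ F') [Mono φ],
        ∃ (S : ShortComplex (EtCoh.Ab X)) (_ : S.ShortExact) (e₁ : S.X₁ = F) (e₂ : S.X₂ = F'),
          S.f = eqToHom e₁ ≫ φ ≫ eqToHom e₂.symm := fun φ _ =>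
      ⟨ShortComplex.mk φ (cokernel.π φ) (cokernel.condition φ),
        ShortComplex.ShortExact.mk' (ShortComplex.exact_of_g_is_cokernel _ (cokernelIsCokernel φ))
          inferInstance inferInstance, rfl, rfl, by simp⟩
    constructor
    · rw [injective_iff_map_eq_zero]
      intro ξ hξ
      obtain ⟨F', hF', φ, hφ, hz⟩ := exists_efface_self F hF n ξ
      obtain ⟨S, hS, rfl, rfl, hf⟩ := seq φ
      rw [eqToHom_refl, eqToHom_refl, Category.id_comp, Category.comp_id] at hf
      subst hf
      haveI := hS.epi_g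
      obtain ⟨a, rfl⟩ := Ext.covariant_sequence_exact₁ _ hS ξ hz rfl
      let τ : S ⟶ (S.map (EtCoh.pull i)).map (EtCoh.push i) :=
        { τ₁ := η.app S.X₁
          τ₂ := η.app S.X₂
          τ₃ := η.app S.X₃
          comm₁₂ := (η.naturality S.f).symm
          comm₂₃ := (η.naturality S.g).symm }
      have hδ : (Sheaf.H.map (η.app S.X₃) n a).comp (hT hS).extClass rfl = 0 := by
        refine Eq.trans ?_ hξ
        show (Ext.comp a (Ext.mk₀ τ.τ₃) (add_zero n)).comp (hT hS).extClass rfl =
          (Ext.comp a hS.extClass rfl).comp (Ext.mk₀ τ.τ₁) (add_zero (n + 1))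
        rw [Ext.comp_assoc_of_second_deg_zero, ← ShortComplex.ShortExact.extClass_naturality hS (hT hS) τ,
          Ext.comp_assoc_of_third_deg_zero]
      obtain ⟨b, hb⟩ := Ext.covariant_sequence_exact₃ _ (hT hS) _ rfl hδ
      obtain ⟨b', hb'⟩ := (ih S.X₂ hF').2 b
      have ha : a = Ext.comp b' (Ext.mk₀ S.g) (add_zero n) := by
        refine (ih S.X₃ (isTorsion_of_epi S.g hF')).1 ?_
        refine hb.symm.trans ?_
        rw [← hb']
        show (Ext.comp b' (Ext.mk₀ τ.τ₂) (add_zero n)).comp (Ext.mk₀ _) (add_zero n) =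
          (Ext.comp b' (Ext.mk₀ S.g) (add_zero n)).comp (Ext.mk₀ τ.τ₃) (add_zero n)
        simp only [Ext.comp_assoc_of_third_deg_zero, Ext.mk₀_comp_mk₀]
        exact congrArg (fun z => Ext.comp b' (Ext.mk₀ z) (add_zero n)) τ.comm₂₃
      rw [ha, Ext.comp_assoc_of_second_deg_zero, hS.comp_extClass, Ext.comp_zero]
    · intro ζ
      obtain ⟨F', hF', φ, hφ, hz⟩ := ClosedEfface.exists_efface i F hF n (EtLim.HofPush i _ (n + 1) ζ)
      have hzero : Ext.comp ζ (Ext.mk₀ ((EtCoh.push i).map ((EtCoh.pull i).map φ))) (add_zero (n + 1)) = 0 := by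
        refine (ClosedMV.hofPush_bijective i _ (n + 1)).1 ?_
        rw [hofPush_map, map_zero]
        exact hz
      obtain ⟨S, hS, rfl, rfl, hf⟩ := seq φ
      rw [eqToHom_refl, eqToHom_refl, Category.id_comp, Category.comp_id] at hf
      subst hf
      haveI := hS.epi_g
      let τ : S ⟶ (S.map (EtCoh.pull i)).map (EtCoh.push i) :=
        { τ₁ := η.app S.X₁
          τ₂ := η.app S.X₂
          τ₃ := η.app S.X₃
          comm₁₂ := (η.naturality S.f).symm
          comm₂₃ := (η.naturality S.g).symm }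
      obtain ⟨c, rfl⟩ := Ext.covariant_sequence_exact₁ _ (hT hS) ζ hzero rfl
      obtain ⟨a, rfl⟩ := (ih S.X₃ (isTorsion_of_epi S.g hF')).2 c
      refine ⟨Ext.comp a hS.extClass rfl, ?_⟩
      show (Ext.comp a hS.extClass rfl).comp (Ext.mk₀ τ.τ₁) (add_zero (n + 1)) =
        (Ext.comp a (Ext.mk₀ τ.τ₃) (add_zero n)).comp (hT hS).extClass rfl
      rw [Ext.comp_assoc_of_second_deg_zero, ← ShortComplex.ShortExact.extClass_naturality hS (hT hS) τ,
        Ext.comp_assoc_of_third_deg_zero]

end Groth.EtPbc.GabberAffine
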