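import Groth.Agent.EtaleBase.ConnectedFibres
import Groth.Agent.EtaleBase.LocConst

/-!
# Agreement loci of étale sections
-/

set_option autoImplicit false
set_option linter.style.haveILetI false
set_option backward.isDefEq.respectTransparency.types false

universe u

open CategoryTheory CategoryTheory.Limits AlgebraicGeometry Opposite

namespace Groth.EtPbc.Gabber

open Groth.EtaleBase Groth.EtaleBase.LocConst

variable {X : Scheme.{u}} (F : EtCoh.Ab X)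

/-- The product of two étale schemes. -/
noncomputable def prodObj (V V' : X.Etale) : X.Etale :=
  haveI : AlgebraicGeometry.Etale V.hom := V.prop
  haveI : AlgebraicGeometry.Etale V'.hom := V'.prop
  Scheme.Etale.mk (pullback.fst V.hom V'.hom ≫ V.hom)

/-- First projection. -/
noncomputable def prodFst (V V' : X.Etale) : prodObj V V' ⟶ V :=
  MorphismProperty.Over.homMk (pullback.fst V.hom V'.hom) rfl

/-- Second projection. -/
noncomputable def prodSnd (V V' : X.Etale) : prodObj V V' ⟶ V' :=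
  MorphismProperty.Over.homMk (pullback.snd V.hom V'.hom) pullback.condition.symm

variable {F}

/-- Points of `P` at which two pulled back sections agree. -/
noncomputable def Ag {P : Scheme.{u}} {V V' : X.Etale} (m : P ⟶ V.left) (m' : P ⟶ V'.left)
    (w : m ≫ V.hom = m' ≫ V'.hom) (a : F.obj.obj (op V)) (b : F.obj.obj (op V')) : Set P :=
  (pullback.lift m m' w).base ⁻¹'
    vanishSet F (prodObj V V') (F.obj.map (prodFst V V').op a - F.obj.map (prodSnd V V').op b)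

theorem isOpen_Ag {P : Scheme.{u}} {V V' : X.Etale} (m : P ⟶ V.left) (m' : P ⟶ V'.left)
    (w : m ≫ V.hom = m' ≫ V'.hom) (a : F.obj.obj (op V)) (b : F.obj.obj (op V')) : IsOpen (Ag m m' w a b) :=
  (isOpen_vanishSet F _ _).preimage (pullback.lift m m' w).continuous

/-- Agreement is equality of germs. -/
theorem mem_Ag_iff {P : Scheme.{u}} {V V' : X.Etale} (m : P ⟶ V.left) (m' : P ⟶ V'.left)
    (w : m ≫ V.hom = m' ≫ V'.hom) (a : F.obj.obj (op V)) (b : F.obj.obj (op V'))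
    {Ω : Type u} [Field Ω] [IsSepClosed Ω] (γ : Spec (CommRingCat.of Ω) ⟶ P) {η : Spec (CommRingCat.of Ω) ⟶ X}
    (t : (Scheme.pointSmallEtale η).fiber.obj V) (t' : (Scheme.pointSmallEtale η).fiber.obj V')
    (ht : t.left = γ ≫ m) (ht' : t'.left = γ ≫ m') :
    γ.base default ∈ Ag m m' w a b ↔ germ η F V t a = germ η F V' t' b := by
  let l := pullback.lift m m' w
  have hl : (γ ≫ l) ≫ (prodObj V V').hom = η := by
    refine (Category.assoc _ _ _).trans ?_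
    refine (congrArg (γ ≫ ·) ((Category.assoc _ _ _).symm.trans
      (congrArg (· ≫ V.hom) (pullback.lift_fst m m' w)))).trans ?_
    exact (Category.assoc _ _ _).symm.trans ((congrArg (· ≫ V.hom) ht.symm).trans (Over.w t))
  let s : (Scheme.pointSmallEtale η).fiber.obj (prodObj V V') := Over.homMk (γ ≫ l) hl
  have h1 : (Scheme.pointSmallEtale η).fiber.map (prodFst V V') s = t := Over.OverMorphism.ext
    ((Category.assoc _ _ _).trans ((congrArg (γ ≫ ·) (pullback.lift_fst m m' w)).trans ht.symm))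
  have h2 : (Scheme.pointSmallEtale η).fiber.map (prodSnd V V') s = t' := Over.OverMorphism.ext
    ((Category.assoc _ _ _).trans ((congrArg (γ ≫ ·) (pullback.lift_snd m m' w)).trans ht'.symm))
  have h3 := germ_eq_zero_iff_mem η F (prodObj V V')
    (F.obj.map (prodFst V V').op a - F.obj.map (prodSnd V V').op b) s
  rw [map_sub, sub_eq_zero, germ_res, germ_res, h1, h2] at h3
  exact h3.symm

/-- A geometric point over a point. -/
theorem geomPoint_default {P : Scheme.{u}} (q : P) : (geomPoint q).base default = q := geomPoint_apply q _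

/-- The lift of a geometric point along a morphism to an étale scheme. -/
noncomputable def toFib {P : Scheme.{u}} {V : X.Etale} {Ω : Type u} [Field Ω] [IsSepClosed Ω]
    (γ : Spec (CommRingCat.of Ω) ⟶ P) (m : P ⟶ V.left) {η : Spec (CommRingCat.of Ω) ⟶ X}
    (h : γ ≫ m ≫ V.hom = η) : (Scheme.pointSmallEtale η).fiber.obj V :=
  Over.homMk (γ ≫ m) ((Category.assoc _ _ _).trans h)

theorem Ag_comp {P P' : Scheme.{u}} (v : P' ⟶ P) {V V' : X.Etale} (m : P ⟶ V.left) (m' : P ⟶ V'.left)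
    (w : m ≫ V.hom = m' ≫ V'.hom) (a : F.obj.obj (op V)) (b : F.obj.obj (op V'))
    (m₁ : P' ⟶ V.left) (m₁' : P' ⟶ V'.left) (w₁ : m₁ ≫ V.hom = m₁' ≫ V'.hom)
    (h : v ≫ m = m₁) (h' : v ≫ m' = m₁') (q : P') :
    q ∈ Ag m₁ m₁' w₁ a b ↔ v.base q ∈ Ag m m' w a b := by
  subst h h'
  have e : pullback.lift (v ≫ m) (v ≫ m') w₁ = v ≫ pullback.lift m m' w :=
    pullback.hom_ext (by rw [Category.assoc, pullback.lift_fst, pullback.lift_fst])
      (by rw [Category.assoc, pullback.lift_snd, pullback.lift_snd])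
  exact Iff.of_eq (congrArg (fun f : P' ⟶ pullback V.hom V'.hom => f.base q ∈ (show Set ↥(pullback V.hom V'.hom) from
    vanishSet F (prodObj V V') (F.obj.map (prodFst V V').op a - F.obj.map (prodSnd V V').op b))) e)

theorem Ag_symm {P : Scheme.{u}} {V V' : X.Etale} (m : P ⟶ V.left) (m' : P ⟶ V'.left)
    (w : m ≫ V.hom = m' ≫ V'.hom) (a : F.obj.obj (op V)) (b : F.obj.obj (op V')) {q : P}
    (h : q ∈ Ag m m' w a b) : q ∈ Ag m' m w.symm b a := by
  let γ := geomPoint q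
  let t := toFib γ m (η := γ ≫ m ≫ V.hom) rfl
  let t' := toFib γ m' (η := γ ≫ m ≫ V.hom) (congrArg (γ ≫ ·) w.symm)
  rw [← geomPoint_default q] at h ⊢
  exact (mem_Ag_iff m' m w.symm b a γ t' t rfl rfl).2 ((mem_Ag_iff m m' w a b γ t t' rfl rfl).1 h).symm

theorem Ag_trans {P : Scheme.{u}} {V₁ V₂ V₃ : X.Etale} (m₁ : P ⟶ V₁.left) (m₂ : P ⟶ V₂.left) (m₃ : P ⟶ V₃.left)
    (w₁₂ : m₁ ≫ V₁.hom = m₂ ≫ V₂.hom) (w₂₃ : m₂ ≫ V₂.hom = m₃ ≫ V₃.hom) (w₁₃ : m₁ ≫ V₁.hom = m₃ ≫ V₃.hom)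
    (a₁ : F.obj.obj (op V₁)) (a₂ : F.obj.obj (op V₂)) (a₃ : F.obj.obj (op V₃)) {q : P}
    (h₁₂ : q ∈ Ag m₁ m₂ w₁₂ a₁ a₂) (h₂₃ : q ∈ Ag m₂ m₃ w₂₃ a₂ a₃) : q ∈ Ag m₁ m₃ w₁₃ a₁ a₃ := by
  let γ := geomPoint q
  let η := γ ≫ m₁ ≫ V₁.hom
  let t₁ := toFib γ m₁ (η := η) rfl
  let t₂ := toFib γ m₂ (η := η) (congrArg (γ ≫ ·) w₁₂.symm)
  let t₃ := toFib γ m₃ (η := η) (congrArg (γ ≫ ·) w₁₃.symm)
  rw [← geomPoint_default q] at h₁₂ h₂₃ ⊢
  exact (mem_Ag_iff m₁ m₃ w₁₃ a₁ a₃ γ t₁ t₃ rfl rfl).2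
    (((mem_Ag_iff m₁ m₂ w₁₂ a₁ a₂ γ t₁ t₂ rfl rfl).1 h₁₂).trans
      ((mem_Ag_iff m₂ m₃ w₂₃ a₂ a₃ γ t₂ t₃ rfl rfl).1 h₂₃))

theorem Ag_res {P : Scheme.{u}} {V V₀ V' : X.Etale} (g : V₀ ⟶ V) (m₀ : P ⟶ V₀.left) (m : P ⟶ V.left)
    (hm : m₀ ≫ g.left = m) (m' : P ⟶ V'.left) (w₀ : m₀ ≫ V₀.hom = m' ≫ V'.hom)
    (w : m ≫ V.hom = m' ≫ V'.hom) (a : F.obj.obj (op V)) (b : F.obj.obj (op V')) (q : P) :
    q ∈ Ag m₀ m' w₀ (F.obj.map g.op a) b ↔ q ∈ Ag m m' w a b := by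
  let γ := geomPoint q
  let η := γ ≫ m₀ ≫ V₀.hom
  let t₀ := toFib γ m₀ (η := η) rfl
  let t := toFib γ m (η := η) (congrArg (γ ≫ ·) (w.trans w₀.symm))
  let t' := toFib γ m' (η := η) (congrArg (γ ≫ ·) w₀.symm)
  have ht : (Scheme.pointSmallEtale η).fiber.map g t₀ = t := Over.OverMorphism.ext
    ((Category.assoc _ _ _).trans (congrArg (γ ≫ ·) hm))
  rw [← geomPoint_default q, mem_Ag_iff m₀ m' w₀ _ b γ t₀ t' rfl rfl,
    mem_Ag_iff m m' w a b γ t t' rfl rfl, germ_res, ht]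

end Groth.EtPbc.Gabber
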