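import Groth.Agent.HensPair.SheafSections
import Mathlib.Topology.Sheaves.Skyscraper

/-!
# Topological input for Gabber's criterion

If restriction of sections to a subset `S` is bijective for all sheaves of sets then `S` meets every
closure of a point in a nonempty connected set; and the gluing of local data near such a subset.
-/

set_option autoImplicit false
universe u

open CategoryTheory TopologicalSpace Opposite Topology

namespace Groth.EtPbc.GabberTop

open Groth.HensPair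

variable {X : TopCat.{u}}

/-- Functions on the single point `y`. -/
noncomputable abbrev ptSheaf (y : X) : TopCat.Sheaf (Type u) X :=
  (TopCat.Sheaf.pushforward (Type u) (TopCat.ofHom (ContinuousMap.const (PUnit.{u + 1}) y) : TopCat.of PUnit.{u + 1} ⟶ X)).obj
    (TopCat.sheafToTypes (TopCat.of PUnit.{u + 1}) fun _ => ULift.{u} Bool)

/-- The constant section. -/
noncomputable def constSec (y : X) (b : Bool) (U : Opens X) : (ptSheaf y).1.obj (op U) := fun _ => ULift.up b

theorem subsingleton_ptSheaf (y : X) {U : Opens X} (h : y ∉ U) (s t : (ptSheaf y).1.obj (op U)) : s = t :=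
  funext fun q => absurd q.2 h

theorem apply_res (y : X) {U V : Opens X} (h : V ≤ U) (hy : y ∈ V) (s : (ptSheaf y).1.obj (op U)) :
    ((ptSheaf y).1.map (homOfLE h).op s) ⟨PUnit.unit, hy⟩ = s ⟨PUnit.unit, h hy⟩ := rfl

variable {S : Set X}

/-- The inclusion. -/
noncomputable abbrev incl (S : Set X) : TopCat.of S ⟶ X := TopCat.ofHom ⟨Subtype.val, continuous_subtype_val⟩

theorem germ_eq_away (y : X) (z : S) {U U' : Opens X} (hz : z.1 ∈ U) (hz' : z.1 ∈ U')
    (hy : ¬ y ⤳ z.1) (s : (ptSheaf y).1.obj (op U)) (s' : (ptSheaf y).1.obj (op U')) :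
    TopCat.Presheaf.germ ((TopCat.Sheaf.pullback (Type u) (incl S)).obj (ptSheaf y)).presheaf
        ((Opens.map (incl S)).obj U) z hz (etaApp (incl S) (ptSheaf y) U s) =
      TopCat.Presheaf.germ ((TopCat.Sheaf.pullback (Type u) (incl S)).obj (ptSheaf y)).presheaf
        ((Opens.map (incl S)).obj U') z hz' (etaApp (incl S) (ptSheaf y) U' s') := by
  obtain ⟨W₀, hW₀, hzW, hyW⟩ := not_specializes_iff_exists_open.1 hy
  let W : Opens X := ⟨W₀, hW₀⟩ ⊓ (U ⊓ U')
  have hzW' : z.1 ∈ W := ⟨hzW, hz, hz'⟩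
  have h1 : W ≤ U := fun a ha => ha.2.1
  have h2 : W ≤ U' := fun a ha => ha.2.2
  let P := ((TopCat.Sheaf.pullback (Type u) (incl S)).obj (ptSheaf y)).presheaf
  refine ((TopCat.Presheaf.germ_res_apply P ((Opens.map (incl S)).map (homOfLE h1)) z hzW' _).symm.trans ?_).trans
    (TopCat.Presheaf.germ_res_apply P ((Opens.map (incl S)).map (homOfLE h2)) z hzW' _)
  refine congrArg _ ((map_etaApp (incl S) (ptSheaf y) h1 s).trans ?_)
  refine Eq.trans ?_ (map_etaApp (incl S) (ptSheaf y) h2 s').symm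
  exact congrArg _ (subsingleton_ptSheaf y (U := W) (fun h => hyW (show y ∈ W₀ ∧ _ from h).1) _ _)

variable (hbij : ∀ F : TopCat.Sheaf (Type u) X, Function.Bijective (etaApp (incl S) F ⊤))

include hbij

/-- `S` meets every closure of a point. -/
theorem exists_specializes (y : X) : ∃ z ∈ S, y ⤳ z := by
  by_contra hne
  push Not at hne
  have h : constSec y true ⊤ = constSec y false ⊤ :=
    (hbij (ptSheaf y)).1 (TopCat.Presheaf.section_ext ((TopCat.Sheaf.pullback (Type u) (incl S)).obj (ptSheaf y))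
      _ _ _ fun (z : S) _ =>
      germ_eq_away y z (U := ⊤) (U' := ⊤) trivial trivial (hne z.1 z.2) _ _)
  exact Bool.noConfusion (congrArg ULift.down (congrFun h ⟨PUnit.unit, trivial⟩))

/-- `S` meets every nonempty closed set. -/
theorem inter_nonempty (T : Set X) (hT : IsClosed T) (hne : T.Nonempty) : (T ∩ S).Nonempty := by
  obtain ⟨y, hy⟩ := hne
  obtain ⟨z, hz, hyz⟩ := exists_specializes hbij y
  exact ⟨z, hyz.mem_closed hT hy, hz⟩

/-- `S` meets closures of points in connected sets. -/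
theorem isPreconnected_closure_inter (y : X) : _root_.IsPreconnected (closure ({y} : Set X) ∩ S) := by
  classical
  intro O O' hO hO' hcov hmO hmO'
  by_contra hdis
  rw [Set.not_nonempty_iff_eq_empty] at hdis
  obtain ⟨z₁, ⟨hy₁, hzS₁⟩, hz₁⟩ := hmO
  obtain ⟨z₂, ⟨hy₂, hzS₂⟩, hz₂⟩ := hmO'
  let F := ptSheaf y
  let i := incl S
  let P := ((TopCat.Sheaf.pullback (Type u) i).obj F).presheaf
  let A : Fin 3 → Opens X := ![⟨O, hO⟩, ⟨O', hO'⟩, ⟨(closure ({y} : Set X))ᶜ, isClosed_closure.isOpen_compl⟩]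
  let b : Fin 3 → Bool := ![true, false, false]
  have hcov' : (⊤ : Opens (TopCat.of S)) ≤ ⨆ j, (Opens.map i).obj (A j) := fun z _ => by
    rw [Opens.mem_iSup]
    by_cases hz : z.1 ∈ closure ({y} : Set X)
    · rcases hcov ⟨hz, z.2⟩ with h | h
      · exact ⟨0, h⟩
      · exact ⟨1, h⟩
    · exact ⟨2, hz⟩
  have hag : ∀ (j k : Fin 3) (z : S), z.1 ∈ A j → z.1 ∈ A k → y ⤳ z.1 → b j = b k := by
    intro j k z hj hk hyz
    have hc : z.1 ∈ closure ({y} : Set X) := specializes_iff_mem_closure.1 hyz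
    fin_cases j <;> fin_cases k <;> first
      | rfl
      | exact absurd hc hj
      | exact absurd hc hk
      | exact ((Set.eq_empty_iff_forall_notMem.1 hdis z.1) ⟨⟨hc, z.2⟩, hj, hk⟩).elim
      | exact ((Set.eq_empty_iff_forall_notMem.1 hdis z.1) ⟨⟨hc, z.2⟩, hk, hj⟩).elim
  let loc := fun j => etaApp i F (A j) (constSec y (b j) (A j))
  let G : TopCat.Sheaf (Type u) (TopCat.of S) := (TopCat.Sheaf.pullback (Type u) i).obj F
  obtain ⟨σ, hσ, -⟩ := TopCat.Sheaf.existsUnique_gluing' G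
    (fun j => (Opens.map i).obj (A j)) ⊤ (fun j => homOfLE le_top) hcov' loc fun j k => by
      refine TopCat.Presheaf.section_ext G _ _ _ fun (z : S) hz => ?_
      refine (TopCat.Presheaf.germ_res_apply P _ z hz _).trans
        (Eq.trans ?_ (TopCat.Presheaf.germ_res_apply P _ z hz _).symm)
      by_cases hyz : y ⤳ z.1
      · have e := hag j k z hz.1 hz.2 hyz
        let W : Opens X := A j ⊓ A k
        have h1 : W ≤ A j := inf_le_left
        have h2 : W ≤ A k := inf_le_right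
        refine ((TopCat.Presheaf.germ_res_apply P ((Opens.map i).map (homOfLE h1)) z hz _).symm.trans ?_).trans
          (TopCat.Presheaf.germ_res_apply P ((Opens.map i).map (homOfLE h2)) z hz _)
        refine congrArg _ ((map_etaApp i F h1 _).trans ?_)
        refine Eq.trans ?_ (map_etaApp i F h2 _).symm
        exact congrArg _ (funext fun q => congrArg ULift.up e)
      · exact germ_eq_away y z hz.1 hz.2 hyz _ _
  obtain ⟨s, rfl⟩ := (hbij F).2 σ
  have key : ∀ (j : Fin 3) (z : S), z.1 ∈ A j → y ⤳ z.1 → (s ⟨PUnit.unit, trivial⟩).down = b j := by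
    intro j z hz hyz
    have h := congrArg (P.germ ((Opens.map i).obj (A j)) z hz) (hσ j)
    have h' : P.germ ((Opens.map i).obj ⊤) z trivial (etaApp i F ⊤ s) =
        P.germ ((Opens.map i).obj (A j)) z hz (loc j) :=
      (TopCat.Presheaf.germ_res_apply P _ z hz _).symm.trans h
    obtain ⟨W, hzW, iU, iV, e⟩ := F.presheaf.germ_eq (U := ⊤) (V := A j) z.1 trivial hz _ _
      (germ_eq_of_etaApp_eq i F s (constSec y (b j) (A j)) z trivial hz h')
    exact congrArg ULift.down (congrFun e ⟨PUnit.unit, hyz.mem_open W.isOpen hzW⟩)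
  have h1 := key 0 ⟨z₁, hzS₁⟩ hz₁ (specializes_iff_mem_closure.2 hy₁)
  have h2 := key 1 ⟨z₂, hzS₂⟩ hz₂ (specializes_iff_mem_closure.2 hy₂)
  exact Bool.noConfusion (h1.symm.trans h2)

omit hbij

/-- Shrinking a compatible family of local data given near `S` so that it is compatible everywhere. -/
theorem exists_shrink [SpectralSpace X] (hS : IsClosed S)
    (hmeet : ∀ T : Set X, IsClosed T → T.Nonempty → (T ∩ S).Nonempty)
    (hconn : ∀ x : X, _root_.IsPreconnected (closure ({x} : Set X) ∩ S))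
    {t : Type*} [Finite t] (U : t → Opens X) (hUc : ∀ j, IsCompact (U j : Set X))
    (hcov : ∀ z ∈ S, ∃ j, z ∈ U j)
    (A : t → t → Set X) (hA : ∀ j k, IsOpen (A j k)) (hAU : ∀ j k, A j k ⊆ (U j : Set X) ∩ U k)
    (hsymm : ∀ j k x, x ∈ A j k → x ∈ A k j)
    (htrans : ∀ j k l x, x ∈ A j k → x ∈ A k l → x ∈ A j l)
    (hAS : ∀ j k, ∀ z ∈ S, z ∈ U j → z ∈ U k → z ∈ A j k) :
    ∃ D : t → Opens X, (∀ j, D j ≤ U j) ∧ (∀ x, ∃ j, x ∈ D j) ∧
      ∀ j k x, x ∈ D j → x ∈ D k → x ∈ A j k := by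
  classical
  let Y : t → Set X := fun j => {y | ∃ z ∈ S, z ∈ U j ∧ y ⤳ z}
  have hYU : ∀ j y, y ∈ Y j → y ∈ U j := fun j y ⟨z, _, hz, hyz⟩ => hyz.mem_open (U j).isOpen hz
  have hYcov : ∀ x : X, ∃ j, x ∈ Y j := fun x => by
    obtain ⟨z, hxz, hzS⟩ := hmeet (closure ({x} : Set X)) isClosed_closure ⟨x, subset_closure rfl⟩
    obtain ⟨j, hj⟩ := hcov z hzS
    exact ⟨j, z, hzS, hj, specializes_iff_mem_closure.2 hxz⟩
  have hYA : ∀ j k x, x ∈ Y j → x ∈ Y k → x ∈ A j k := by
    intro j k x hj hk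
    obtain ⟨z, hzS, hzj, hxz⟩ := hj
    obtain ⟨z', hz'S, hzk, hxz'⟩ := hk
    let C : Set X := closure ({x} : Set X) ∩ S
    let O : Set X := ⋃ (m : t) (_ : x ∈ A m j), (U m : Set X)
    let O' : Set X := ⋃ (m : t) (_ : x ∉ A m j), (U m : Set X)
    have hxj := hxz.mem_open (U j).isOpen hzj
    have hself : x ∈ A j j := hxz.mem_open (hA j j) (hAS j j z hzS hzj hzj)
    have hCsub : C ⊆ O := by
      have hcov' : C ⊆ O ∪ O' := by
        rintro z₀ ⟨-, hz₀⟩
        obtain ⟨m, hm⟩ := hcov z₀ hz₀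
        by_cases h : x ∈ A m j
        · exact Or.inl (Set.mem_iUnion₂.2 ⟨m, h, hm⟩)
        · exact Or.inr (Set.mem_iUnion₂.2 ⟨m, h, hm⟩)
      intro y hy
      by_contra hyO
      obtain ⟨w, ⟨hwc, hwS⟩, h1, h2⟩ := hconn x O O' (isOpen_biUnion fun m _ => (U m).isOpen)
        (isOpen_biUnion fun m _ => (U m).isOpen) hcov'
        ⟨z, ⟨specializes_iff_mem_closure.1 hxz, hzS⟩, Set.mem_iUnion₂.2 ⟨j, hself, hzj⟩⟩
        ⟨y, hy, (hcov' hy).resolve_left hyO⟩
      obtain ⟨m, hm, hwm⟩ := Set.mem_iUnion₂.1 h1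
      obtain ⟨n, hn, hwn⟩ := Set.mem_iUnion₂.1 h2
      exact hn (htrans n m j x ((specializes_iff_mem_closure.2 hwc).mem_open (hA n m)
        (hAS n m w hwS hwn hwm)) hm)
    obtain ⟨m, hm, hzm⟩ := Set.mem_iUnion₂.1 (hCsub ⟨specializes_iff_mem_closure.1 hxz', hz'S⟩)
    exact htrans j m k x (hsymm m j x hm) (hxz'.mem_open (hA m k) (hAS m k z' hz'S hzm hzk))
  have hYct : ∀ j, IsClosed[constructibleTopology X] (Y j) := by
    intro j
    have hK : IsCompact (S ∩ (U j : Set X)) := (hUc j).inter_left hS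
    have : Y j = ⋂ (O : Set X) (_ : IsOpen O ∧ IsCompact O ∧ S ∩ (U j : Set X) ⊆ O), O := by
      refine Set.Subset.antisymm (fun y ⟨z, hzS, hz, hyz⟩ => Set.mem_iInter₂.2 fun O hO =>
        hyz.mem_open hO.1 (hO.2.2 ⟨hzS, hz⟩)) fun y hy => ?_
      by_contra hne
      obtain ⟨O, hOc, hOo, h1, h2⟩ := PrespectralSpace.exists_isCompact_and_isOpen_between hK
        (isClosed_closure (s := ({y} : Set X))).isOpen_compl (by
          rintro z ⟨hzS, hz⟩ hzy
          exact hne ⟨z, hzS, hz, specializes_iff_mem_closure.2 hzy⟩)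
      exact h2 (Set.mem_iInter₂.1 hy O ⟨hOo, hOc, h1⟩) (subset_closure rfl)
    rw [this]
    exact @isClosed_iInter X _ (constructibleTopology X) _ fun O =>
      @isClosed_iInter X _ (constructibleTopology X) _ fun hO => SpectralTopology.isClosed_ct hO.1 hO.2.1
  let B : t → Set X := fun j => ⋃ k : t, ((U j : Set X) ∩ Y k) ∩ (A j k)ᶜ
  have hBct : ∀ j, IsClosed[constructibleTopology X] (B j) := fun j =>
    @isClosed_iUnion_of_finite X _ (constructibleTopology X) _ _ fun k =>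
      @IsClosed.inter X _ _ (constructibleTopology X)
        (@IsClosed.inter X _ _ (constructibleTopology X)
          (SpectralTopology.isClosed_ct (U j).isOpen (hUc j)) (hYct k))
        (SpectralTopology.isClosed_ct_of_isClosed (hA j k).isClosed_compl)
  let D : t → Opens X := fun j => ⟨(U j : Set X) ∩ (closure (B j))ᶜ, (U j).isOpen.inter isClosed_closure.isOpen_compl⟩
  have hD : ∀ j x, x ∈ D j → ∀ k, x ∈ Y k → x ∈ A j k := fun j x hx k hk => by
    by_contra h
    exact hx.2 (subset_closure (Set.mem_iUnion.2 ⟨k, ⟨hx.1, hk⟩, h⟩))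
  refine ⟨D, fun j x hx => hx.1, fun x => ?_, fun j k x hj hk => ?_⟩
  · obtain ⟨j, hj⟩ := hYcov x
    refine ⟨j, hYU j x hj, fun hcl' => ?_⟩
    obtain ⟨e, he, hex⟩ := SpectralTopology.exists_specializes_of_mem_closure (hBct j) hcl'
    obtain ⟨k, ⟨-, hek⟩, hne⟩ := Set.mem_iUnion.1 he
    obtain ⟨z, hzS, hz, hxz⟩ := hj
    exact hne (hYA j k e ⟨z, hzS, hz, hex.trans hxz⟩ hek)
  · obtain ⟨m, hm⟩ := hYcov x
    exact htrans j m k x (hD j x hj m hm) (hsymm k m x (hD k x hk m hm))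

end Groth.EtPbc.GabberTop
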