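import Groth.Agent.EtPbc.GabberAgree
import Groth.Agent.EtPbc.GabberTop
import Groth.Agent.LocImm.EtaleDominate

/-!
# Gabber's criterion for global sections on a closed subscheme
-/

set_option autoImplicit false
set_option linter.style.haveILetI false
set_option backward.isDefEq.respectTransparency.types false

universe u

open CategoryTheory CategoryTheory.Limits AlgebraicGeometry Opposite

namespace Groth.EtPbc.Gabber

open Groth.EtaleBase Groth.EtaleBase.LocConst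

variable {X Z : Scheme.{u}} (i : Z ⟶ X) (F : EtCoh.Ab X)

/-- The map to the final object. -/
noncomputable def toTop (V : X.Etale) : V ⟶ EtCoh.top X :=
  MorphismProperty.Over.homMk V.hom (Category.comp_id _)

/-- Sections over the base change of the final object. -/
noncomputable abbrev TopSect := ((EtCoh.pull i).obj F).obj.obj (op ((EtCoh.bc i).obj (EtCoh.top X)))

variable {F} (τ : TopSect i F)

/-- A section over an étale scheme extending `τ`. -/
def Extends {V : X.Etale} (a : F.obj.obj (op V)) : Prop :=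
  ConnFib.un i F V a = ((EtCoh.pull i).obj F).obj.map ((EtCoh.bc i).map (toTop V)).op τ

variable {i τ}

/-- The germ of `τ` determines the germ of every extension. -/
theorem canon {V : X.Etale} {a : F.obj.obj (op V)} (ha : Extends i τ a) {Ω : Type u} [Field Ω] [IsSepClosed Ω]
    (ζ : Spec (CommRingCat.of Ω) ⟶ Z) (t : (Scheme.pointSmallEtale (ζ ≫ i)).fiber.obj V) :
    (stalkPullIso i ζ).hom.app F (germ (ζ ≫ i) F V t a) =
      germ ζ _ ((EtCoh.bc i).obj (EtCoh.top X))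
        (pushLift i ζ rfl _ (Over.homMk (ζ ≫ i) (Category.comp_id _))) τ := by
  rw [stalkPullIso_germ]
  have e : ((EtCoh.pullPushAdj i).unit.app F).hom.app (op V) a =
      ((EtCoh.pull i).obj F).obj.map ((EtCoh.bc i).map (toTop V)).op τ := ha
  rw [e, germ_res, pushLift_map]
  refine congrArg (fun s => germ ζ _ ((EtCoh.bc i).obj (EtCoh.top X)) (pushLift i ζ rfl _ s) τ)
    (Over.OverMorphism.ext ?_)
  exact Over.w t

variable [IsClosedImmersion i]

/-- Two extensions agree over the closed subscheme. -/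
theorem mem_Ag_of_extends {V V' : X.Etale} {a : F.obj.obj (op V)} {b : F.obj.obj (op V')}
    (ha : Extends i τ a) (hb : Extends i τ b) {P : Scheme.{u}} (m : P ⟶ V.left) (m' : P ⟶ V'.left)
    (w : m ≫ V.hom = m' ≫ V'.hom) (q : P) (hq : (m ≫ V.hom).base q ∈ Set.range i.base) :
    q ∈ Ag m m' w a b := by
  obtain ⟨z, hz⟩ := hq
  obtain ⟨r, rfl, -⟩ := Scheme.Pullback.exists_preimage_pullback (f := m ≫ V.hom) (g := i) q z hz.symm
  let γ := geomPoint r ≫ pullback.fst (m ≫ V.hom) i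
  let ζ := geomPoint r ≫ pullback.snd (m ≫ V.hom) i
  have hη : γ ≫ m ≫ V.hom = ζ ≫ i := by
    rw [Category.assoc, Category.assoc]
    exact congrArg (geomPoint r ≫ ·) pullback.condition
  let t := toFib γ m hη
  let t' := toFib γ m' (η := ζ ≫ i) ((congrArg (γ ≫ ·) w.symm).trans hη)
  have hγ : γ.base default = (pullback.fst (m ≫ V.hom) i).base r :=
    (Scheme.Hom.comp_apply _ _ _).trans (congrArg _ (geomPoint_default r))
  rw [← hγ, mem_Ag_iff m m' w a b γ t t' rfl rfl]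
  exact ((ConcreteCategory.isIso_iff_bijective ((stalkPullIso i ζ).hom.app F)).1 inferInstance).1
    ((canon ha ζ t).trans (canon hb ζ t').symm)

/-- Every point of the closed subscheme is in the image of an extension of `τ`. -/
theorem exists_extends (τ : TopSect i F) (z : Z) :
    ∃ (V : X.Etale) (a : F.obj.obj (op V)), Extends i τ a ∧ i.base z ∈ Set.range V.hom.base := by
  let G := (EtCoh.pull i).obj F
  obtain ⟨x, -, hxz⟩ := Scheme.Pullback.exists_preimage_pullback (f := (EtCoh.top X).hom) (g := i) (i.base z) z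
    (by rfl)
  obtain ⟨W, g, V, h, a, w, hw, he⟩ := ConnFib.exists_local_form i F _ τ x
  let k := toTop V
  let δ : G.obj.obj (op ((EtCoh.bc i).obj V)) := ConnFib.un i F V a - ConnFib.res G ((EtCoh.bc i).map k) τ
  have hgk : h ≫ (EtCoh.bc i).map k = g := ConnFib.bc_top_hom_ext i _ _
  let x₁ : ((EtCoh.bc i).obj V).left := h.left.base w
  have hx₁ : x₁ ∈ vanishSet G ((EtCoh.bc i).obj V) δ := by
    refine (Set.ext_iff.1 (ConnFib.preimage_vanishSet G h δ) w).1 ?_
    have e0 : ConnFib.res G h δ = 0 := by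
      show G.obj.map h.op δ = 0
      rw [map_sub, sub_eq_zero]
      refine he.symm.trans ?_
      rw [← hgk, ConnFib.res_comp]
    exact ⟨W, 𝟙 W, ⟨w, rfl⟩, by rw [e0, map_zero]⟩
  let π : ((EtCoh.bc i).obj V).left ⟶ V.left := pullback.fst V.hom i
  haveI : IsClosedImmersion π := MorphismProperty.pullback_fst _ _ ‹_›
  obtain ⟨O, hO, hOδ⟩ := π.isClosedEmbedding.isInducing.isOpen_iff.1 (isOpen_vanishSet G _ δ)
  let N : V.left.Opens := ⟨O, hO⟩
  have hxN : π.base x₁ ∈ N := (Set.ext_iff.1 hOδ x₁).2 hx₁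
  refine ⟨openObj V N, F.obj.map (openHom V N).op a, ?_, ⟨⟨π.base x₁, hxN⟩, ?_⟩⟩
  · have e0 : G.obj.map ((EtCoh.bc i).map (openHom V N)).op δ = 0 := by
      refine (map_eq_zero_iff_range_subset G _ δ).2 ?_
      rintro _ ⟨p, rfl⟩
      change _ ∈ vanishSet G ((EtCoh.bc i).obj V) δ
      rw [← hOδ]
      have e1 : π.base (((EtCoh.bc i).map (openHom V N)).left.base p) =
          N.ι.base ((pullback.fst (openObj V N).hom i).base p) :=
        congrArg (fun m : pullback (openObj V N).hom i ⟶ V.left => m.base p) (pullback.lift_fst _ _ _)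
      show π.base (((EtCoh.bc i).map (openHom V N)).left.base p) ∈ O
      rw [e1]
      exact ((pullback.fst (openObj V N).hom i).base p).2
    rw [map_sub, sub_eq_zero] at e0
    refine (ConnFib.un_res i F (openHom V N) a).trans (e0.trans ?_)
    refine (ConnFib.res_comp G ((EtCoh.bc i).map (openHom V N)) ((EtCoh.bc i).map k) τ).symm.trans ?_
    exact congrArg (fun m => G.obj.map (Quiver.Hom.op m) τ) (ConnFib.bc_top_hom_ext i _ _)
  · show V.hom.base (N.ι.base _) = i.base z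
    refine (congrArg (fun m : ((EtCoh.bc i).obj V).left ⟶ X => m.base x₁) pullback.condition).trans ?_
    show i.base ((pullback.snd V.hom i).base x₁) = i.base z
    refine congrArg i.base ?_
    rw [← hxz, ← hw]
    exact (congrArg (fun m : W.left ⟶ Z => m.base w) ((Over.w h.hom).trans (Over.w g.hom).symm)).trans rfl

omit [IsClosedImmersion i]

/-- If the closed subset meets every nonempty closed subset, the unit is injective on global sections. -/
theorem injective_un (hmeet : ∀ T : Set X, IsClosed T → T.Nonempty → (T ∩ Set.range i.base).Nonempty) :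
    Function.Injective (ConnFib.un i F (EtCoh.top X)) := by
  rw [injective_iff_map_eq_zero]
  intro a ha
  refine section_eq_zero_of_germs F _ a fun x => ?_
  by_contra hx
  have hsub := (unit_eq_zero_iff i F (EtCoh.top X) a).1 ha
  obtain ⟨x', hxT, z, rfl⟩ := hmeet (vanishSet F (EtCoh.top X) a)ᶜ
    (isOpen_vanishSet F (EtCoh.top X) a).isClosed_compl ⟨x, hx⟩
  obtain ⟨p, hp, -⟩ := Scheme.Pullback.exists_preimage_pullback (f := (EtCoh.top X).hom) (g := i) (i.base z) z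
    (by rfl)
  exact hxT (hsub ⟨p, hp⟩)

section descend

variable {Y : Scheme.{u}} (π : Y ⟶ X) {t : Type*} (D : t → Y.Opens) {V : t → X.Etale}
  (a : ∀ j, F.obj.obj (op (V j))) (l : ∀ j, (D j).toScheme ⟶ (V j).left)
  (hl : ∀ j, l j ≫ (V j).hom = (D j).ι ≫ π)

/-- A section that matches the given data everywhere. -/
def Match {W : X.Etale} (b : F.obj.obj (op W)) : Prop :=
  ∀ (j : t) (P : Scheme.{u}) (m : P ⟶ W.left) (u : P ⟶ (D j).toScheme)
    (w : m ≫ W.hom = (u ≫ l j) ≫ (V j).hom) (q : P), q ∈ Ag m (u ≫ l j) w b (a j)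

variable {π D a l}

theorem match_res {W W' : X.Etale} (g : W' ⟶ W) {b : F.obj.obj (op W)} (h : Match D a l b) :
    Match D a l (F.obj.map g.op b) := fun j P m u w q => by
  have w' : (m ≫ g.left) ≫ W.hom = (u ≫ l j) ≫ (V j).hom :=
    ((Category.assoc _ _ _).trans (congrArg (m ≫ ·) (Over.w g.hom))).trans w
  exact (Ag_res g m (m ≫ g.left) rfl (u ≫ l j) w w' b (a j) q).2 (h j P (m ≫ g.left) u w' q)

variable (hcov : ∀ y : Y, ∃ j, y ∈ D j) [Surjective π]

include hl hcov in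
/-- A matching section is unique. -/
theorem match_unique {W : X.Etale} {b b' : F.obj.obj (op W)} (h : Match D a l b) (h' : Match D a l b') :
    b = b' := by
  refine sub_eq_zero.1 (section_eq_zero_of_germs F W (b - b') fun w₀ => ?_)
  obtain ⟨y, hy⟩ := π.surjective (W.hom.base w₀)
  obtain ⟨j, hj⟩ := hcov y
  obtain ⟨q, hq, -⟩ := Scheme.Pullback.exists_preimage_pullback (f := W.hom) (g := (D j).ι ≫ π) w₀ ⟨y, hj⟩
    (hy.symm.trans (Scheme.Hom.comp_apply (D j).ι π ⟨y, hj⟩).symm)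
  let P := pullback W.hom ((D j).ι ≫ π)
  let m : P ⟶ W.left := pullback.fst _ _
  let u : P ⟶ (D j).toScheme := pullback.snd _ _
  have w : m ≫ W.hom = (u ≫ l j) ≫ (V j).hom :=
    pullback.condition.trans ((congrArg (u ≫ ·) (hl j).symm).trans (Category.assoc _ _ _).symm)
  let γ := geomPoint q
  let η := γ ≫ m ≫ W.hom
  let s := toFib γ m (η := η) rfl
  let s' := toFib γ (u ≫ l j) (η := η) (congrArg (γ ≫ ·) w.symm)
  have e1 := h j P m u w q
  have e2 := h' j P m u w q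
  rw [← geomPoint_default q, mem_Ag_iff m (u ≫ l j) w _ _ γ s s' rfl rfl] at e1 e2
  have h0 : germ η F W s (b - b') = 0 := by rw [map_sub, e1, e2, sub_self]
  have hp : fiberPoint η s = w₀ :=
    ((Scheme.Hom.comp_apply _ _ _).trans (congrArg _ (geomPoint_default q))).trans hq
  obtain ⟨W', g, hg, hz⟩ := (germ_eq_zero_iff_mem η F W (b - b') s).1 h0
  exact ⟨W', g, hp ▸ hg, hz⟩

variable (hA : ∀ (j k : t) (P : Scheme.{u}) (u : P ⟶ (D j).toScheme) (u' : P ⟶ (D k).toScheme)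
    (w : (u ≫ l j) ≫ (V j).hom = (u' ≫ l k) ≫ (V k).hom), u ≫ (D j).ι = u' ≫ (D k).ι →
      ∀ q : P, q ∈ Ag (u ≫ l j) (u' ≫ l k) w (a j) (a k))

include hl in
omit [Surjective π] in
/-- The structure map of a point of `D j`. -/
theorem str_eq {P : Scheme.{u}} {j : t} (u : P ⟶ (D j).toScheme) :
    (u ≫ l j) ≫ (V j).hom = (u ≫ (D j).ι) ≫ π := by
  rw [Category.assoc, hl, Category.assoc]

include hl hA in
omit [Surjective π] in
/-- Agreement with the data depends only on the point of `Y`. -/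
theorem indep {j k : t} {P : Scheme.{u}} (u : P ⟶ (D j).toScheme) (u' : P ⟶ (D k).toScheme)
    (hu : u ≫ (D j).ι = u' ≫ (D k).ι) {W : X.Etale} (b : F.obj.obj (op W)) (m : P ⟶ W.left)
    (w : m ≫ W.hom = (u ≫ l j) ≫ (V j).hom) (w' : m ≫ W.hom = (u' ≫ l k) ≫ (V k).hom) {q : P}
    (h : q ∈ Ag m (u ≫ l j) w b (a j)) : q ∈ Ag m (u' ≫ l k) w' b (a k) :=
  Ag_trans m (u ≫ l j) (u' ≫ l k) w
    ((str_eq hl u).trans ((congrArg (· ≫ π) hu).trans (str_eq hl u').symm)) w' b (a j) (a k) h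
    (hA j k P u u' _ hu q)

/-- Images of agreement loci are open. -/
theorem isOpen_image_Ag {P P' : Scheme.{u}} (o : P ⟶ P') [IsOpenImmersion o] {V₁ V₂ : X.Etale}
    (m : P ⟶ V₁.left) (m' : P ⟶ V₂.left) (w : m ≫ V₁.hom = m' ≫ V₂.hom) (c : F.obj.obj (op V₁))
    (d : F.obj.obj (op V₂)) : IsOpen (o.base '' Ag m m' w c d) :=
  o.isOpenEmbedding.isOpenMap _ (isOpen_Ag m m' w c d)

variable {i : Z ⟶ X} [IsFinite π]
  (hmeet : ∀ T : Set X, IsClosed T → T.Nonempty → (T ∩ Set.range i.base).Nonempty)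
  (hZ : ∀ (j k : t) (P : Scheme.{u}) (u : P ⟶ (D j).toScheme) (u' : P ⟶ (D k).toScheme)
    (w : (u ≫ l j) ≫ (V j).hom = (u' ≫ l k) ≫ (V k).hom) (q : P),
      ((u ≫ l j) ≫ (V j).hom).base q ∈ Set.range i.base → q ∈ Ag (u ≫ l j) (u' ≫ l k) w (a j) (a k))

include hl hcov hA hmeet hZ in
omit [Surjective π] in
/-- The data agree on all pairs of points over the same point of the base. -/
theorem agree_all {j k : t} {P : Scheme.{u}} (u : P ⟶ (D j).toScheme) (u' : P ⟶ (D k).toScheme)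
    (w : (u ≫ l j) ≫ (V j).hom = (u' ≫ l k) ≫ (V k).hom) (q : P) :
    q ∈ Ag (u ≫ l j) (u' ≫ l k) w (a j) (a k) := by
  let P₂ := pullback π π
  let src (jk : t × t) := pullback ((D jk.1).ι ≫ π) ((D jk.2).ι ≫ π)
  let o (jk : t × t) : src jk ⟶ P₂ :=
    pullback.map _ _ π π (D jk.1).ι (D jk.2).ι (𝟙 X) (Category.comp_id _) (Category.comp_id _)
  have hw (jk : t × t) : (pullback.fst _ _ ≫ l jk.1) ≫ (V jk.1).hom =
      ((pullback.snd _ _ : src jk ⟶ _) ≫ l jk.2) ≫ (V jk.2).hom := by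
    rw [str_eq hl, str_eq hl, Category.assoc, Category.assoc]
    exact pullback.condition
  let A (jk : t × t) : Set (src jk) :=
    Ag (pullback.fst _ _ ≫ l jk.1) (pullback.snd _ _ ≫ l jk.2) (hw jk) (a jk.1) (a jk.2)
  let Good : Set P₂ := ⋃ jk : t × t, (o jk).base '' A jk
  have hGood : IsOpen Good := isOpen_iUnion fun jk => isOpen_image_Ag (o jk) _ _ (hw jk) _ _
  have hpre : ∀ p : P₂, ∀ jk : t × t, (pullback.fst π π).base p ∈ D jk.1 → (pullback.snd π π).base p ∈ D jk.2 →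
      ∃ q₀, (o jk).base q₀ = p := fun p jk h1 h2 => by
    have : p ∈ Set.range (o jk).base := by
      rw [Scheme.Pullback.range_map, Scheme.Opens.range_ι, Scheme.Opens.range_ι]
      exact ⟨h1, h2⟩
    exact this
  have hall : ∀ p : P₂, p ∈ Good := fun p => by
    by_contra hp
    let f₂ := pullback.fst π π ≫ π
    obtain ⟨x, ⟨p', hp', rfl⟩, hxZ⟩ := hmeet (f₂.base '' Goodᶜ) (f₂.isClosedMap _ hGood.isClosed_compl)
      ⟨_, p, hp, rfl⟩
    obtain ⟨j₁, h1⟩ := hcov ((pullback.fst π π).base p')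
    obtain ⟨k₁, h2⟩ := hcov ((pullback.snd π π).base p')
    obtain ⟨q₀, rfl⟩ := hpre p' (j₁, k₁) h1 h2
    refine hp' (Set.mem_iUnion.2 ⟨(j₁, k₁), q₀, hZ j₁ k₁ _ _ _ (hw (j₁, k₁)) q₀ ?_, rfl⟩)
    rw [str_eq hl]
    rw [← show o (j₁, k₁) ≫ pullback.fst π π = pullback.fst _ _ ≫ (D j₁).ι from pullback.lift_fst _ _ _]
    exact hxZ
  have hcond : (u ≫ (D j).ι) ≫ π = (u' ≫ (D k).ι) ≫ π := by rw [← str_eq hl u, ← str_eq hl u', w]
  let v : P ⟶ P₂ := pullback.lift (u ≫ (D j).ι) (u' ≫ (D k).ι) hcond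
  obtain ⟨⟨j', k'⟩, q₀, hq₀, hp⟩ := Set.mem_iUnion.1 (hall (v.base q))
  obtain ⟨r, hr1, hr2⟩ := Scheme.Pullback.exists_preimage_pullback (f := v) (g := o (j', k')) q q₀ hp.symm
  let R := pullback v (o (j', k'))
  let a₁ : R ⟶ P := pullback.fst _ _
  let a₂ : R ⟶ src (j', k') := pullback.snd _ _
  let x : R ⟶ (D j').toScheme := a₂ ≫ pullback.fst _ _
  let x' : R ⟶ (D k').toScheme := a₂ ≫ pullback.snd _ _
  have hx : (a₁ ≫ u) ≫ (D j).ι = x ≫ (D j').ι := by
    have h1 := congrArg (· ≫ pullback.fst π π) (pullback.condition (f := v) (g := o (j', k')))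
    simp only [Category.assoc, v, o, pullback.lift_fst] at h1
    simpa only [Category.assoc, x, a₁, a₂] using h1
  have hx' : (a₁ ≫ u') ≫ (D k).ι = x' ≫ (D k').ι := by
    have h1 := congrArg (· ≫ pullback.snd π π) (pullback.condition (f := v) (g := o (j', k')))
    simp only [Category.assoc, v, o, pullback.lift_snd] at h1
    simpa only [Category.assoc, x', a₁, a₂] using h1
  have w₀ : (x ≫ l j') ≫ (V j').hom = (x' ≫ l k') ≫ (V k').hom := by
    simpa only [Category.assoc, x, x'] using congrArg (a₂ ≫ ·) (hw (j', k'))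
  have hcond' : ((a₁ ≫ u) ≫ (D j).ι) ≫ π = ((a₁ ≫ u') ≫ (D k).ι) ≫ π := by
    simpa only [Category.assoc] using congrArg (a₁ ≫ ·) hcond
  have wR : ((a₁ ≫ u) ≫ l j) ≫ (V j).hom = ((a₁ ≫ u') ≫ l k) ≫ (V k).hom := by
    rw [str_eq hl, str_eq hl, hcond']
  have g0 : r ∈ Ag (x ≫ l j') (x' ≫ l k') w₀ (a j') (a k') :=
    (Ag_comp a₂ _ _ (hw (j', k')) _ _ _ _ w₀ (Category.assoc _ _ _).symm (Category.assoc _ _ _).symm r).2
      (hr2.symm ▸ hq₀)
  have wx : (x ≫ l j') ≫ (V j').hom = ((a₁ ≫ u') ≫ l k) ≫ (V k).hom := by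
    rw [str_eq hl, str_eq hl, ← hx, hcond']
  have g1 : r ∈ Ag (x ≫ l j') ((a₁ ≫ u') ≫ l k) wx (a j') (a k) :=
    indep hl hA x' (a₁ ≫ u') hx'.symm (a j') (x ≫ l j') w₀ wx g0
  have g2 := indep hl hA x (a₁ ≫ u) hx.symm (a k) ((a₁ ≫ u') ≫ l k) wx.symm wR.symm (Ag_symm _ _ wx _ _ g1)
  have g3 := Ag_symm _ _ wR.symm _ _ g2
  exact hr1 ▸ (Ag_comp a₁ (u ≫ l j) (u' ≫ l k) w _ _ _ _ wR (Category.assoc _ _ _).symm
    (Category.assoc _ _ _).symm r).1 g3

include hl hcov hA hmeet hZ in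
/-- Matching sections exist locally on the base. -/
theorem exists_match (x : X) :
    ∃ (W : X.Etale) (b : F.obj.obj (op W)), x ∈ Set.range W.hom.base ∧ Match D a l b := by
  obtain ⟨y, rfl⟩ := π.surjective x
  obtain ⟨j, hj⟩ := hcov y
  let W := V j
  let w₀ : W.left := (l j).base ⟨y, hj⟩
  let Wh : W.left ⟶ X := W.hom
  let P₁ := pullback Wh π
  let src (k : t) := pullback Wh ((D k).ι ≫ π)
  let o (k : t) : src k ⟶ P₁ := pullback.map _ _ Wh π (𝟙 W.left) (D k).ι (𝟙 X) (by simp) (Category.comp_id _)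
  have hw (k : t) : pullback.fst _ _ ≫ W.hom = ((pullback.snd _ _ : src k ⟶ _) ≫ l k) ≫ (V k).hom := by
    rw [str_eq hl, Category.assoc]
    exact pullback.condition
  let A (k : t) : Set (src k) := Ag (pullback.fst _ _) (pullback.snd _ _ ≫ l k) (hw k) (a j) (a k)
  let Good : Set P₁ := ⋃ k, (o k).base '' A k
  have hGood : IsOpen Good := isOpen_iUnion fun k => isOpen_image_Ag (o k) _ _ (hw k) _ _
  haveI : IsFinite (pullback.fst Wh π) := MorphismProperty.pullback_fst _ _ ‹_›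
  have hw₀ : w₀ ∉ (pullback.fst Wh π).base '' Goodᶜ := by
    rintro ⟨p, hp, hpw⟩
    obtain ⟨k, hk⟩ := hcov ((pullback.snd Wh π).base p)
    obtain ⟨q, rfl⟩ : p ∈ Set.range (o k).base := by
      rw [Scheme.Pullback.range_map, Scheme.Opens.range_ι]
      exact ⟨by simp, hk⟩
    refine hp (Set.mem_iUnion.2 ⟨k, q, ?_, rfl⟩)
    have hq : (pullback.fst Wh ((D k).ι ≫ π)).base q = w₀ := by
      rw [← hpw]
      exact (congrArg (fun m : src k ⟶ W.left => m.base q)
        ((pullback.lift_fst _ _ _).trans (Category.comp_id _))).symm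
    obtain ⟨r, hr1, -⟩ := Scheme.Pullback.exists_preimage_pullback (f := pullback.fst Wh ((D k).ι ≫ π)) (g := l j)
      q ⟨y, hj⟩ hq
    let R := pullback (pullback.fst Wh ((D k).ι ≫ π)) (l j)
    let a₁ : R ⟶ src k := pullback.fst _ _
    let a₂ : R ⟶ (D j).toScheme := pullback.snd _ _
    have wR : (a₂ ≫ l j) ≫ (V j).hom = ((a₁ ≫ pullback.snd _ _) ≫ l k) ≫ (V k).hom := by
      rw [← pullback.condition (f := pullback.fst Wh ((D k).ι ≫ π)) (g := l j), Category.assoc, hw k]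
      simp only [Category.assoc, a₁]
    have g0 := agree_all hl hcov hA hmeet hZ a₂ (a₁ ≫ pullback.snd _ _) wR r
    exact hr1 ▸ (Ag_comp a₁ _ _ (hw k) _ _ _ _ wR pullback.condition (Category.assoc _ _ _).symm r).1 g0
  let O : W.left.Opens := ⟨((pullback.fst Wh π).base '' Goodᶜ)ᶜ,
    ((pullback.fst Wh π).isClosedMap _ hGood.isClosed_compl).isOpen_compl⟩
  refine ⟨openObj W O, F.obj.map (openHom W O).op (a j), ⟨⟨w₀, hw₀⟩, ?_⟩, fun k P m u w q => ?_⟩
  · show W.hom.base w₀ = π.base y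
    exact (Scheme.Hom.comp_apply _ _ _).symm.trans (congrArg (fun m : (D j).toScheme ⟶ X => m.base ⟨y, hj⟩) (hl j))
  have w' : (m ≫ O.ι) ≫ W.hom = (u ≫ l k) ≫ (V k).hom := (Category.assoc _ _ _).trans w
  refine (Ag_res (openHom W O) m (m ≫ O.ι) rfl (u ≫ l k) w w' (a j) (a k) q).2 ?_
  let v : P ⟶ P₁ := pullback.lift (m ≫ O.ι) (u ≫ (D k).ι) (w'.trans (str_eq hl u))
  have hv : v.base q ∈ Good := by
    by_contra hn
    refine (m.base q).2 ⟨v.base q, hn, ?_⟩
    exact congrArg (fun f : P ⟶ W.left => f.base q) (pullback.lift_fst _ _ _)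
  obtain ⟨k', q₀, hq₀, hp⟩ := Set.mem_iUnion.1 hv
  obtain ⟨r, hr1, hr2⟩ := Scheme.Pullback.exists_preimage_pullback (f := v) (g := o k') q q₀ hp.symm
  let R := pullback v (o k')
  let a₁ : R ⟶ P := pullback.fst _ _
  let a₂ : R ⟶ src k' := pullback.snd _ _
  have hm : a₂ ≫ pullback.fst _ _ = a₁ ≫ m ≫ O.ι := by
    have h1 := congrArg (· ≫ pullback.fst Wh π) (pullback.condition (f := v) (g := o k'))
    simp only [Category.assoc, v, o, pullback.lift_fst, Category.comp_id] at h1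
    exact h1.symm
  have hu : (a₂ ≫ pullback.snd _ _) ≫ (D k').ι = (a₁ ≫ u) ≫ (D k).ι := by
    have h1 := congrArg (· ≫ pullback.snd Wh π) (pullback.condition (f := v) (g := o k'))
    simp only [Category.assoc, v, o, pullback.lift_snd] at h1
    simpa only [Category.assoc, a₁, a₂] using h1.symm
  have w₁ : (a₁ ≫ m ≫ O.ι) ≫ W.hom = ((a₂ ≫ pullback.snd _ _) ≫ l k') ≫ (V k').hom := by
    rw [← hm, Category.assoc, hw k']
    simp only [Category.assoc, a₂]
  have w₂ : (a₁ ≫ m ≫ O.ι) ≫ W.hom = ((a₁ ≫ u) ≫ l k) ≫ (V k).hom := by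
    simpa only [Category.assoc] using congrArg (a₁ ≫ ·) w'
  have g0 : r ∈ Ag (a₁ ≫ m ≫ O.ι) ((a₂ ≫ pullback.snd _ _) ≫ l k') w₁ (a j) (a k') :=
    (Ag_comp a₂ _ _ (hw k') _ _ _ _ w₁ hm (Category.assoc _ _ _).symm r).2 (hr2.symm ▸ hq₀)
  have g1 := indep hl hA _ _ hu (a j) (a₁ ≫ m ≫ O.ι) w₁ w₂ g0
  exact hr1 ▸ (Ag_comp a₁ (m ≫ O.ι) (u ≫ l k) w' _ _ _ _ w₂ rfl (Category.assoc _ _ _).symm r).1 g1

include hl hcov hA hmeet hZ in
/-- The data glue to a global section of `F` restricting to `τ`. -/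
theorem exists_global [IsClosedImmersion i] {τ : TopSect i F} (hext : ∀ j, Extends i τ (a j)) :
    ∃ σ, ConnFib.un i F (EtCoh.top X) σ = τ := by
  let R : Sieve (EtCoh.top X) :=
    { arrows := fun W _ => ∃ b : F.obj.obj (op W), Match D a l b
      downward_closed := fun {W W' g} hg k => ⟨_, match_res k hg.choose_spec⟩ }
  have hR : R ∈ X.smallEtaleTopology (EtCoh.top X) := by
    rw [mem_topology_iff]
    intro x
    obtain ⟨W, b, ⟨w₀, hw₀⟩, hb⟩ := exists_match hl hcov hA hmeet hZ x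
    exact ⟨W, toTop W, w₀, ⟨b, hb⟩, hw₀⟩
  let fam : Presieve.FamilyOfElements (F.obj ⋙ forget AddCommGrpCat.{u + 1}) R.arrows := fun W g hg => hg.choose
  have hfam : fam.Compatible := fun W₁ W₂ W g₁ g₂ k₁ k₂ hk₁ hk₂ e =>
    match_unique hl hcov (match_res g₁ hk₁.choose_spec) (match_res g₂ hk₂.choose_spec)
  obtain ⟨σ, hσ, -⟩ := (((isSheaf_iff_isSheaf_of_type _ _).1
    ((sheafCompose X.smallEtaleTopology (forget AddCommGrpCat.{u + 1})).obj F).2) R hR) fam hfam
  refine ⟨σ, ?_⟩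
  let G := (EtCoh.pull i).obj F
  let T₀ := (EtCoh.bc i).obj (EtCoh.top X)
  refine sub_eq_zero.1 (section_eq_zero_of_germs G T₀ _ fun z₀ => ?_)
  obtain ⟨W, b, ⟨w₀, hw₀⟩, hb⟩ := exists_match hl hcov hA hmeet hZ ((pullback.fst (EtCoh.top X).hom i).base z₀)
  let k := toTop W
  have hbσ : F.obj.map k.op σ = b := (hσ k ⟨b, hb⟩).trans (match_unique hl hcov (Exists.choose_spec _) hb)
  obtain ⟨z₁, hz₁⟩ : ∃ z₁, ((EtCoh.bc i).map k).left.base z₁ = z₀ := by
    obtain ⟨z₁, -, h⟩ := Scheme.exists_preimage_of_isPullback (EtCoh.isPullback_bc_map i k).flip w₀ z₀ hw₀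
    exact ⟨z₁, h⟩
  refine ⟨_, (EtCoh.bc i).map k, ⟨z₁, hz₁⟩, ?_⟩
  rw [map_sub, sub_eq_zero]
  refine (ConnFib.un_res i F k σ).symm.trans ?_
  show ConnFib.un i F W (F.obj.map k.op σ) = _
  rw [hbσ]
  refine sub_eq_zero.1 (section_eq_zero_of_germs G _ _ fun z => ?_)
  let mZ : ((EtCoh.bc i).obj W).left ⟶ W.left := pullback.fst W.hom i
  obtain ⟨y, hy⟩ := π.surjective ((mZ ≫ W.hom).base z)
  obtain ⟨j, hj⟩ := hcov y
  obtain ⟨q, hq, -⟩ := Scheme.Pullback.exists_preimage_pullback (f := mZ ≫ W.hom) (g := (D j).ι ≫ π) z ⟨y, hj⟩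
    (hy.symm.trans (Scheme.Hom.comp_apply (D j).ι π ⟨y, hj⟩).symm)
  let P := pullback (mZ ≫ W.hom) ((D j).ι ≫ π)
  let a₁ : P ⟶ ((EtCoh.bc i).obj W).left := pullback.fst _ _
  let u : P ⟶ (D j).toScheme := pullback.snd _ _
  have w : (a₁ ≫ mZ) ≫ W.hom = (u ≫ l j) ≫ (V j).hom :=
    (Category.assoc _ _ _).trans (pullback.condition.trans ((Category.assoc _ _ _).symm.trans (str_eq hl u).symm))
  let γ := geomPoint q
  let ζ := γ ≫ a₁ ≫ pullback.snd W.hom i
  have hη : γ ≫ (a₁ ≫ mZ) ≫ W.hom = ζ ≫ i := by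
    simp only [ζ, mZ, Category.assoc]
    exact congrArg (γ ≫ a₁ ≫ ·) pullback.condition
  let s := toFib γ (a₁ ≫ mZ) hη
  let s' := toFib γ (u ≫ l j) (η := ζ ≫ i) ((congrArg (γ ≫ ·) w.symm).trans hη)
  have e1 := hb j P (a₁ ≫ mZ) u w q
  rw [← geomPoint_default q, mem_Ag_iff (a₁ ≫ mZ) (u ≫ l j) w _ _ γ s s' rfl rfl] at e1
  have e2 := congrArg ((stalkPullIso i ζ).hom.app F) e1
  rw [canon (hext j) ζ s'] at e2
  have h0 : germ ζ G ((EtCoh.bc i).obj W) (pushLift i ζ rfl W s)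
      (ConnFib.un i F W b - G.obj.map ((EtCoh.bc i).map k).op τ) = 0 := by
    rw [map_sub, sub_eq_zero, germ_res, pushLift_map]
    refine ((stalkPullIso_germ i ζ F W s b).symm.trans e2).trans ?_
    exact congrArg (fun s₀ => germ ζ _ ((EtCoh.bc i).obj (EtCoh.top X)) (pushLift i ζ rfl _ s₀) τ)
      (Over.OverMorphism.ext (Over.w s).symm)
  have hfp : fiberPoint ζ (pushLift i ζ rfl W s) = z := by
    refine Eq.trans ?_ hq
    show (pullback.lift s.left ζ _ : Spec (CommRingCat.of _) ⟶ pullback W.hom i).base default = a₁.base q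
    have : pullback.lift s.left ζ ((Over.w s).trans rfl) = γ ≫ a₁ :=
      pullback.hom_ext ((pullback.lift_fst _ _ _).trans (Category.assoc _ _ _).symm)
        ((pullback.lift_snd _ _ _).trans (Category.assoc _ _ _).symm)
    exact (congrArg (fun f : Spec (CommRingCat.of _) ⟶ ((EtCoh.bc i).obj W).left => f.base default) this).trans
      ((Scheme.Hom.comp_apply _ _ _).trans (congrArg _ (geomPoint_default q)))
  obtain ⟨W', g, hg, hz⟩ := (germ_eq_zero_iff_mem ζ G _ _ _).1 h0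
  exact ⟨W', g, hfp ▸ hg, hz⟩

end descend

variable [IsClosedImmersion i] [CompactSpace X] [QuasiSeparatedSpace X]

/-- **Gabber's criterion**, with topological hypotheses. -/
theorem bijective_un
    (hmeet : ∀ T : Set X, IsClosed T → T.Nonempty → (T ∩ Set.range i.base).Nonempty)
    (htop : ∀ (Y : Scheme.{u}) (π : Y ⟶ X) [IsFinite π],
      (∀ T : Set Y, IsClosed T → T.Nonempty → (T ∩ π.base ⁻¹' Set.range i.base).Nonempty) ∧
      ∀ y : Y, _root_.IsPreconnected (closure ({y} : Set Y) ∩ π.base ⁻¹' Set.range i.base)) :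
    Function.Bijective (ConnFib.un i F (EtCoh.top X)) := by
  refine ⟨injective_un hmeet, fun τ => ?_⟩
  choose V a hext hz using exists_extends τ
  let ε : (∐ fun z : Z => (V z).left) ⟶ X := Sigma.desc fun z => (V z).hom
  haveI : AlgebraicGeometry.Etale ε :=
    IsZariskiLocalAtSource.sigmaDesc (P := @AlgebraicGeometry.Etale) fun z => (V z).prop
  haveI : Surjective ε := ⟨fun x => by
    by_contra hx
    obtain ⟨_, hxT, z, rfl⟩ := hmeet (Set.range ε.base)ᶜ ε.isOpenMap.isOpen_range.isClosed_compl ⟨x, hx⟩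
    obtain ⟨v, hv⟩ := hz z
    refine hxT ⟨(Sigma.ι (fun z : Z => (V z).left) z).base v, ?_⟩
    rw [← Scheme.Hom.comp_apply, Sigma.ι_desc]
    exact hv⟩
  obtain ⟨Y, π, _, _, _, hlift⟩ := Groth.LocImmersion.EtaleDominate.exists_dominating ε
  haveI : CompactSpace Y := QuasiCompact.compactSpace_of_compactSpace π
  haveI : QuasiSeparatedSpace Y := quasiSeparatedSpace_of_quasiSeparated π
  haveI : SpectralSpace Y := {}
  have hloc : ∀ y : Y, ∃ (N : Y.Opens) (z : Z) (l : N.toScheme ⟶ (V z).left),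
      y ∈ N ∧ IsCompact (N : Set Y) ∧ l ≫ (V z).hom = N.ι ≫ π := fun y => by
    obtain ⟨M, h, hy, hh⟩ := hlift y
    obtain ⟨z, x, hx⟩ := Scheme.Cover.exists_eq (sigmaOpenCover.{u} fun z : Z => (V z).left) (h.base ⟨y, hy⟩)
    let N' : Y.Opens := M.ι ''ᵁ (h ⁻¹ᵁ (Sigma.ι (fun z : Z => (V z).left) z).opensRange)
    have hyN' : y ∈ N' := ⟨⟨y, hy⟩, ⟨x, hx⟩, rfl⟩
    obtain ⟨_, ⟨O : Y.Opens, hO, rfl⟩, hyO, hON'⟩ :=
      Y.isBasis_affineOpens.exists_subset_of_mem_open hyN' N'.2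
    have hle : O ≤ M := fun p hp => (M.ι_image_le _) (hON' hp)
    have hrange : Set.range (Y.homOfLE hle ≫ h) ⊆ Set.range (Sigma.ι (fun z : Z => (V z).left) z) := by
      rintro _ ⟨p, rfl⟩
      obtain ⟨p', hp', hpp⟩ := hON' p.2
      have : (Y.homOfLE hle).base p = p' := M.ι.isOpenEmbedding.injective (by
        rw [← Scheme.Hom.comp_apply, Scheme.homOfLE_ι]; exact hpp.symm)
      rw [Scheme.Hom.comp_apply, this]
      exact hp'
    refine ⟨O, z, IsOpenImmersion.lift (Sigma.ι (fun z : Z => (V z).left) z) (Y.homOfLE hle ≫ h) hrange, hyO,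
      hO.isCompact, ?_⟩
    rw [← Sigma.ι_desc (f := fun z : Z => (V z).left) (fun z => (V z).hom) z, ← Category.assoc,
      IsOpenImmersion.lift_fac, Category.assoc, hh, Scheme.homOfLE_ι_assoc]
  choose N idx l₀ hyN hNc hl₀ using hloc
  obtain ⟨tf, htf⟩ := isCompact_univ.elim_finite_subcover (fun y => (N y : Set Y)) (fun y => (N y).2)
    fun y _ => Set.mem_iUnion.2 ⟨y, hyN y⟩
  let Q (j k : tf) := pullback (N j.1).ι (N k.1).ι
  have hwQ (j k : tf) : ((pullback.fst _ _ : Q j k ⟶ _) ≫ l₀ j.1) ≫ (V (idx j.1)).hom =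
      ((pullback.snd _ _ : Q j k ⟶ _) ≫ l₀ k.1) ≫ (V (idx k.1)).hom := by
    rw [Category.assoc, hl₀, Category.assoc, hl₀, ← Category.assoc, pullback.condition, Category.assoc]
  let AQ (j k : tf) : Set (Q j k) :=
    Ag (pullback.fst _ _ ≫ l₀ j.1) (pullback.snd _ _ ≫ l₀ k.1) (hwQ j k) (a (idx j.1)) (a (idx k.1))
  let A (j k : tf) : Set Y := (pullback.fst _ _ ≫ (N j.1).ι : Q j k ⟶ Y).base '' AQ j k
  have hA_of : ∀ (j k : tf) (P : Scheme.{u}) (u : P ⟶ (N j.1).toScheme) (u' : P ⟶ (N k.1).toScheme)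
      (w : (u ≫ l₀ j.1) ≫ (V (idx j.1)).hom = (u' ≫ l₀ k.1) ≫ (V (idx k.1)).hom)
      (_ : u ≫ (N j.1).ι = u' ≫ (N k.1).ι) (q : P),
      q ∈ Ag (u ≫ l₀ j.1) (u' ≫ l₀ k.1) w (a (idx j.1)) (a (idx k.1)) ↔ (u ≫ (N j.1).ι).base q ∈ A j k := by
    intro j k P u u' w hu q
    have e := Ag_comp (pullback.lift u u' hu) _ _ (hwQ j k) (a (idx j.1)) (a (idx k.1)) (u ≫ l₀ j.1) (u' ≫ l₀ k.1) w
      (by rw [pullback.lift_fst_assoc]) (by rw [pullback.lift_snd_assoc]) q
    refine e.trans ⟨fun h => ⟨_, h, ?_⟩, fun ⟨q₀, hq₀, he⟩ => ?_⟩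
    · rw [← Scheme.Hom.comp_apply, pullback.lift_fst_assoc]
    · have : (pullback.lift u u' hu).base q = q₀ := by
        refine (pullback.fst _ _ ≫ (N j.1).ι : Q j k ⟶ Y).isOpenEmbedding.injective ?_
        rw [he, ← Scheme.Hom.comp_apply, pullback.lift_fst_assoc]
      exact this ▸ hq₀
  obtain ⟨D, hDle, hDcov, hDA⟩ := GabberTop.exists_shrink (X := Y.carrier) (S := π.base ⁻¹' Set.range i.base)
    (i.isClosedEmbedding.isClosed_range.preimage π.continuous) (htop Y π).1 (htop Y π).2 (fun j : tf => N j.1)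
    (fun j => hNc j.1) (fun y _ => by
      obtain ⟨j, hj, h⟩ := Set.mem_iUnion₂.1 (htf (Set.mem_univ y))
      exact ⟨⟨j, hj⟩, h⟩)
    A (fun j k => isOpen_image_Ag _ _ _ (hwQ j k) _ _)
    (fun j k => by
      rintro _ ⟨q, -, rfl⟩
      refine ⟨((pullback.fst _ _ : Q j k ⟶ _).base q).2, ?_⟩
      rw [pullback.condition]
      exact ((pullback.snd _ _ : Q j k ⟶ _).base q).2)
    (fun j k x => by
      rintro ⟨q, hq, rfl⟩
      have h := (hA_of k j (Q j k) (pullback.snd _ _) (pullback.fst _ _) (hwQ j k).symm pullback.condition.symm q).1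
        (Ag_symm _ _ (hwQ j k) _ _ hq)
      rwa [← pullback.condition] at h)
    (fun j k m x => by
      rintro ⟨q₁, hq₁, rfl⟩ ⟨q₂, hq₂, he⟩
      obtain ⟨r, hr1, hr2⟩ := Scheme.Pullback.exists_preimage_pullback
        (f := (pullback.fst _ _ ≫ (N j.1).ι : Q j k ⟶ Y)) (g := (pullback.fst _ _ ≫ (N k.1).ι : Q k m ⟶ Y))
        q₁ q₂ he.symm
      let R := pullback (pullback.fst _ _ ≫ (N j.1).ι : Q j k ⟶ Y) (pullback.fst _ _ ≫ (N k.1).ι : Q k m ⟶ Y)
      let r₁ : R ⟶ Q j k := pullback.fst _ _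
      let r₂ : R ⟶ Q k m := pullback.snd _ _
      let u₁ := r₁ ≫ pullback.fst (N j.1).ι (N k.1).ι
      let u₂ := r₁ ≫ pullback.snd (N j.1).ι (N k.1).ι
      let u₃ := r₂ ≫ pullback.snd (N k.1).ι (N m.1).ι
      have hu12 : u₁ ≫ (N j.1).ι = u₂ ≫ (N k.1).ι := by
        simp only [u₁, u₂, Category.assoc, pullback.condition]
      have hu : u₂ = r₂ ≫ pullback.fst (N k.1).ι (N m.1).ι := by
        rw [← cancel_mono (N k.1).ι, ← hu12]
        simp only [u₁, Category.assoc]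
        exact pullback.condition
      have hu13 : u₁ ≫ (N j.1).ι = u₃ ≫ (N m.1).ι := by
        rw [hu12, hu]
        simp only [u₃, Category.assoc, pullback.condition]
      have hstr : ∀ (p : tf) (u : R ⟶ (N p.1).toScheme),
          (u ≫ l₀ p.1) ≫ (V (idx p.1)).hom = (u ≫ (N p.1).ι) ≫ π := fun p u =>
        (Category.assoc _ _ _).trans ((congrArg (u ≫ ·) (hl₀ p.1)).trans (Category.assoc _ _ _).symm)
      have w12 : (u₁ ≫ l₀ j.1) ≫ (V (idx j.1)).hom = (u₂ ≫ l₀ k.1) ≫ (V (idx k.1)).hom :=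
        (hstr j u₁).trans ((congrArg (· ≫ π) hu12).trans (hstr k u₂).symm)
      have w13 : (u₁ ≫ l₀ j.1) ≫ (V (idx j.1)).hom = (u₃ ≫ l₀ m.1) ≫ (V (idx m.1)).hom :=
        (hstr j u₁).trans ((congrArg (· ≫ π) hu13).trans (hstr m u₃).symm)
      have g1 : r ∈ Ag (u₁ ≫ l₀ j.1) (u₂ ≫ l₀ k.1) w12 (a (idx j.1)) (a (idx k.1)) :=
        (Ag_comp r₁ _ _ (hwQ j k) _ _ _ _ w12 (Category.assoc _ _ _).symm (Category.assoc _ _ _).symm r).2
          (hr1.symm ▸ hq₁)
      have g2 : r ∈ Ag (u₂ ≫ l₀ k.1) (u₃ ≫ l₀ m.1) (w12.symm.trans w13) (a (idx k.1)) (a (idx m.1)) :=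
        (Ag_comp r₂ _ _ (hwQ k m) _ _ _ _ (w12.symm.trans w13) (by rw [hu, Category.assoc])
          (Category.assoc _ _ _).symm r).2 (hr2.symm ▸ hq₂)
      have := (hA_of j m R u₁ u₃ w13 hu13 r).1
        (Ag_trans (u₁ ≫ l₀ j.1) (u₂ ≫ l₀ k.1) (u₃ ≫ l₀ m.1) w12 (w12.symm.trans w13) w13
          (a (idx j.1)) (a (idx k.1)) (a (idx m.1)) g1 g2)
      rw [← hr1]
      rwa [Scheme.Hom.comp_apply, Scheme.Hom.comp_apply] at this)
    (fun j k y hy hj hk => by
      obtain ⟨q, hq, -⟩ := Scheme.Pullback.exists_preimage_pullback (f := (N j.1).ι) (g := (N k.1).ι)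
        ⟨y, hj⟩ ⟨y, hk⟩ rfl
      have hqy : (pullback.fst _ _ ≫ (N j.1).ι : Q j k ⟶ Y).base q = y :=
        (Scheme.Hom.comp_apply _ _ _).trans (congrArg (N j.1).ι.base hq)
      refine ⟨q, mem_Ag_of_extends (hext _) (hext _) _ _ (hwQ j k) q ?_, hqy⟩
      rw [Category.assoc, hl₀, ← Category.assoc, Scheme.Hom.comp_apply, hqy]
      exact hy)
  refine exists_global (π := π) (D := D) (V := fun j : tf => V (idx j.1)) (a := fun j => a (idx j.1))
    (l := fun j => Y.homOfLE (hDle j) ≫ l₀ j.1) (fun j => ?_) hDcov (fun j k P u u' w hu q => ?_) hmeet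
    (fun j k P u u' w q hq => mem_Ag_of_extends (hext _) (hext _) _ _ w q hq) (fun j => hext _)
  · rw [Category.assoc, hl₀, Scheme.homOfLE_ι_assoc]
  · have hu' : (u ≫ Y.homOfLE (hDle j)) ≫ (N j.1).ι = (u' ≫ Y.homOfLE (hDle k)) ≫ (N k.1).ι := by
      rw [Category.assoc, Scheme.homOfLE_ι, Category.assoc, Scheme.homOfLE_ι, hu]
    have w' : ((u ≫ Y.homOfLE (hDle j)) ≫ l₀ j.1) ≫ (V (idx j.1)).hom =
        ((u' ≫ Y.homOfLE (hDle k)) ≫ l₀ k.1) ≫ (V (idx k.1)).hom := by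
      simpa only [Category.assoc] using w
    have h := (hA_of j k P _ _ w' hu' q).2 (by
      rw [Category.assoc, Scheme.homOfLE_ι]
      refine hDA j k _ (u.base q).2 ?_
      rw [hu]
      exact (u'.base q).2)
    exact (Ag_comp (𝟙 P) _ _ w' _ _ (u ≫ Y.homOfLE (hDle j) ≫ l₀ j.1) (u' ≫ Y.homOfLE (hDle k) ≫ l₀ k.1) w
      ((Category.id_comp _).trans (Category.assoc _ _ _)) ((Category.id_comp _).trans (Category.assoc _ _ _)) q).2 h

/-- **Gabber's criterion.** -/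
theorem bijective_un_of_sheaves
    (h1 : ∀ G : TopCat.Sheaf (Type u) X.carrier, Function.Bijective
      (((TopCat.Sheaf.pullbackPushforwardAdjunction (Type u)
        (TopCat.ofHom ⟨(Subtype.val : (Set.range i.base) → X), continuous_subtype_val⟩)).unit.app G).hom.app (op ⊤)))
    (h2 : ∀ (X' : Scheme.{u}) (π : X' ⟶ X) [IsFinite π] (G : TopCat.Sheaf (Type u) X'.carrier),
      Function.Bijective
      (((TopCat.Sheaf.pullbackPushforwardAdjunction (Type u)
        (TopCat.ofHom ⟨(Subtype.val : (Set.range (pullback.snd i π).base) → X'),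
          continuous_subtype_val⟩)).unit.app G).hom.app (op ⊤))) :
    Function.Bijective (ConnFib.un i F (EtCoh.top X)) := by
  refine bijective_un (GabberTop.inter_nonempty h1) fun Y π _ => ?_
  have hr : Set.range (pullback.snd i π).base = π.base ⁻¹' Set.range i.base := Scheme.Pullback.range_snd i π
  rw [← hr]
  exact ⟨GabberTop.inter_nonempty (h2 Y π), GabberTop.isPreconnected_closure_inter (h2 Y π)⟩

end Groth.EtPbc.Gabber
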