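import Groth.Agent.EtPbc.PushAcyc
import Groth.Agent.EtPbc.GmGeneric
import Groth.Agent.EtaleBase.PushStalkInt

/-!
# Dévissage to the generic points
-/

set_option autoImplicit false
set_option backward.isDefEq.respectTransparency.types false
set_option linter.style.haveILetI false
set_option maxHeartbeats 1000000

universe u

open CategoryTheory CategoryTheory.Limits CategoryTheory.Abelian AlgebraicGeometry Opposite TopologicalSpace

namespace Groth.FieldPush

open Groth.EtaleBase Groth.EtaleBase.LocConst Groth.EtaleBase.SitePt Groth.EtaleDeep.Cons Groth.EtPbc.PointSupp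

variable {X S : Scheme.{u}} (i : S ⟶ X)

/-- Stalks of direct images along preimmersions are detected at the point. -/
theorem evPush_injective [IsPreimmersion i] {Ω : Type u} [Field Ω] [IsSepClosed Ω]
    (ξ : Spec (CommRingCat.of Ω) ⟶ S) (G : EtCoh.Ab S) : Function.Injective (evPush i ξ G) := by
  rw [injective_iff_map_eq_zero]
  intro y hy
  obtain ⟨V, s, σ, rfl⟩ := germ_surjective (ξ ≫ i) ((EtCoh.push i).obj G) y
  rw [evPush_germ, germ_eq_zero_iff_mem] at hy
  rw [germ_eq_zero_iff_mem]
  let f : pullback V.hom i ⟶ V.left := pullback.fst _ _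
  haveI : IsPreimmersion f := MorphismProperty.pullback_fst _ _ ‹_›
  obtain ⟨N₀, hN₀, hN⟩ := f.isEmbedding.isInducing.isOpen_iff.1 (isOpen_vanishSet G ((EtCoh.bc i).obj V) σ)
  let N : V.left.Opens := ⟨N₀, hN₀⟩
  have hs : fiberPoint (ξ ≫ i) s ∈ N := by
    have : f.base (fiberPoint ξ (pushLift i ξ rfl V s)) = fiberPoint (ξ ≫ i) s :=
      congrArg (fun m : Spec (CommRingCat.of Ω) ⟶ V.left => m.base default) (pushLift_fst i ξ rfl V s)
    rw [← this]
    exact hN.symm.subset hy
  refine ⟨openObj V N, openHom V N, ⟨⟨_, hs⟩, rfl⟩, ?_⟩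
  show G.obj.map ((EtCoh.bc i).map (openHom V N)).op σ = 0
  rw [map_eq_zero_iff_range_subset]
  rintro _ ⟨w, rfl⟩
  refine hN.subset ?_
  have h1 : ((EtCoh.bc i).map (openHom V N)).left ≫ f = pullback.fst (N.ι ≫ V.hom) i ≫ N.ι :=
    pullback.lift_fst _ _ _
  show f.base (((EtCoh.bc i).map (openHom V N)).left.base w) ∈ N₀
  rw [show f.base (((EtCoh.bc i).map (openHom V N)).left.base w) = _ from
    congrArg (fun m : pullback (N.ι ≫ V.hom) i ⟶ V.left => m.base w) h1]
  exact ((pullback.fst (N.ι ≫ V.hom) i).base w).2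

/-- The unit is bijective on stalks at points of a preimmersion. -/
theorem stalk_unit_bijective [IsPreimmersion i] {Ω : Type u} [Field Ω] [IsSepClosed Ω]
    (ξ : Spec (CommRingCat.of Ω) ⟶ S) (F : EtCoh.Ab X) :
    Function.Bijective ((EtCoh.stalk (ξ ≫ i)).map ((EtCoh.pullPushAdj i).unit.app F)) := by
  have key : ∀ a, evPush i ξ ((EtCoh.pull i).obj F)
      ((EtCoh.stalk (ξ ≫ i)).map ((EtCoh.pullPushAdj i).unit.app F) a) = (stalkPullIso i ξ).hom.app F a := by
    intro a
    obtain ⟨V, s, σ, rfl⟩ := germ_surjective (ξ ≫ i) F a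
    exact ((congrArg _ (germ_map (ξ ≫ i) ((EtCoh.pullPushAdj i).unit.app F) V s σ)).trans
      (evPush_germ i ξ _ V s _)).trans (stalkPullIso_germ i ξ F V s σ).symm
  have hb : Function.Bijective ((stalkPullIso i ξ).hom.app F) :=
    (ConcreteCategory.isIso_iff_bijective ((stalkPullIso i ξ).hom.app F)).1 inferInstance
  constructor
  · intro a b h
    exact hb.1 (by rw [← key, ← key, h])
  · intro y
    obtain ⟨a, ha⟩ := hb.2 (evPush i ξ ((EtCoh.pull i).obj F) y)
    exact ⟨a, evPush_injective i ξ _ ((key a).trans ha)⟩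

/-- Direct images have zero stalks off the closure of the image. -/
theorem stalk_push_eq_zero (G : EtCoh.Ab S) {Ω : Type u} [Field Ω] [IsSepClosed Ω]
    (η : Spec (CommRingCat.of Ω) ⟶ X) (hη : η.base default ∉ closure (Set.range i.base))
    (y : (EtCoh.stalk η).obj ((EtCoh.push i).obj G)) : y = 0 := by
  obtain ⟨V, t, σ, rfl⟩ := germ_surjective η _ y
  rw [germ_eq_zero_iff_mem]
  let O : V.left.Opens := ⟨(V.hom.base ⁻¹' closure (Set.range i.base))ᶜ,
    (isClosed_closure.preimage V.hom.continuous).isOpen_compl⟩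
  have hO : fiberPoint η t ∈ O := fun h => hη (hom_fiberPoint η t ▸ h)
  have : IsEmpty ↥((EtCoh.bc i).obj (openObj V O)).left := ⟨fun (z : ↥(pullback (O.ι ≫ V.hom) i)) =>
    ((pullback.fst (O.ι ≫ V.hom) i).base z).2 (subset_closure ⟨(pullback.snd (O.ι ≫ V.hom) i).base z, by
      rw [← Scheme.Hom.comp_apply, ← pullback.condition]; rfl⟩)⟩
  have := subsingleton_sections_of_isEmpty G ((EtCoh.bc i).obj (openObj V O))
  exact ⟨openObj V O, openHom V O, ⟨⟨_, hO⟩, rfl⟩,
    Subsingleton.elim (α := G.obj.obj (op ((EtCoh.bc i).obj (openObj V O)))) _ _⟩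

variable [IsNoetherian X]

instance finite_genericPoints : Finite ↥(genericPoints X) :=
  (genericPoints.finite NoetherianSpace.finite_irreducibleComponents).to_subtype

/-- The sum of the direct images of the restrictions to the generic points. -/
noncomputable abbrev genSum (F : EtCoh.Ab X) : EtCoh.Ab X :=
  ⨁ fun η : ↥(genericPoints X) =>
    (EtCoh.push (X.fromSpecResidueField η.1)).obj ((EtCoh.pull (X.fromSpecResidueField η.1)).obj F)

/-- The map to it. -/
noncomputable abbrev toGenSum (F : EtCoh.Ab X) : F ⟶ genSum F :=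
  biproduct.lift fun η : ↥(genericPoints X) => (EtCoh.pullPushAdj (X.fromSpecResidueField η.1)).unit.app F

/-- The map is bijective on stalks over generic points. -/
theorem stalk_toGenSum_bijective (F : EtCoh.Ab X) {Ω : Type u} [Field Ω] [IsSepClosed Ω]
    (ξ : Spec (CommRingCat.of Ω) ⟶ X) (hξ : ξ.base default ∈ genericPoints X) :
    Function.Bijective ((EtCoh.stalk ξ).map (toGenSum F)) := by
  classical
  letI := Fintype.ofFinite ↥(genericPoints X)
  let xf := Scheme.SpecToEquivOfField Ω X ξ
  have hfac : Spec.map xf.2 ≫ X.fromSpecResidueField xf.1 = ξ := (Scheme.SpecToEquivOfField Ω X).left_inv ξ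
  let η₀ : ↥(genericPoints X) := ⟨xf.1, by
    have h1 : ξ.base default = xf.1 := by
      rw [← hfac, Scheme.Hom.comp_apply]
      exact Scheme.fromSpecResidueField_apply _ _
    exact h1 ▸ hξ⟩
  let Φ := fun η : ↥(genericPoints X) =>
    (EtCoh.push (X.fromSpecResidueField η.1)).obj ((EtCoh.pull (X.fromSpecResidueField η.1)).obj F)
  have hπ : ∀ η a, (EtCoh.stalk ξ).map (biproduct.π Φ η) ((EtCoh.stalk ξ).map (toGenSum F) a) =
      (EtCoh.stalk ξ).map ((EtCoh.pullPushAdj (X.fromSpecResidueField η.1)).unit.app F) a := fun η a => by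
    rw [← ConcreteCategory.comp_apply, ← Functor.map_comp, biproduct.lift_π]
  have hb : Function.Bijective
      ((EtCoh.stalk ξ).map ((EtCoh.pullPushAdj (X.fromSpecResidueField η₀.1)).unit.app F)) := by
    have := stalk_unit_bijective (X.fromSpecResidueField xf.1) (Spec.map xf.2) F
    rwa [hfac] at this
  have hz : ∀ η, η ≠ η₀ → ∀ y : (EtCoh.stalk ξ).obj (Φ η), y = 0 := fun η hη =>
    stalk_push_eq_zero (X.fromSpecResidueField η.1) _ ξ (fun h => hη (by
      rw [Scheme.range_fromSpecResidueField] at h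
      have h1 : ξ.base default = η₀.1 := by
        rw [← hfac, Scheme.Hom.comp_apply]
        exact Scheme.fromSpecResidueField_apply _ _
      rw [h1] at h
      exact Subtype.ext (eq_of_specializes_genericPoints η₀.2 (specializes_iff_mem_closure.2 h))))
  constructor
  · intro a b h
    exact hb.1 (by rw [← hπ, ← hπ, h])
  · intro y
    obtain ⟨a, ha⟩ := hb.2 ((EtCoh.stalk ξ).map (biproduct.π Φ η₀) y)
    refine ⟨a, sub_eq_zero.1 ?_⟩
    have hd : ∀ η, (EtCoh.stalk ξ).map (biproduct.π Φ η) ((EtCoh.stalk ξ).map (toGenSum F) a - y) = 0 := by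
      intro η
      by_cases h : η = η₀
      · subst h
        rw [map_sub, hπ, ha, sub_self]
      · exact hz η h _
    generalize (EtCoh.stalk ξ).map (toGenSum F) a - y = d at hd
    have h0 : d = (EtCoh.stalk ξ).map (∑ η, biproduct.π Φ η ≫ biproduct.ι Φ η) d := by
      rw [show (∑ η, biproduct.π Φ η ≫ biproduct.ι Φ η) = 𝟙 _ from
        IsBilimit.total (biproduct.isBilimit Φ), CategoryTheory.Functor.map_id]
      rfl
    rw [h0, Functor.map_sum]
    generalize (Finset.univ : Finset ↥(genericPoints X)) = T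
    induction T using Finset.induction with
    | empty => rfl
    | insert η T hη ih =>
      rw [Finset.sum_insert hη]
      refine (congrArg₂ (· + ·) ?_ ih).trans (add_zero 0)
      rw [Functor.map_comp, ConcreteCategory.comp_apply, hd, map_zero]

/-- The kernel of the map lives off the generic points. -/
theorem supp_kernel_toGenSum (F : EtCoh.Ab X) : EtPBC.supp (kernel (toGenSum F)) ⊆ (genericPoints X)ᶜ := by
  rw [supp_subset_iff]
  intro Ω _ _ ξ hξ
  refine @AddCommGrpCat.isZero_of_subsingleton _ (subsingleton_of_forall_eq 0 fun y => ?_)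
  refine mono_stalk_injective ξ (kernel.ι (toGenSum F)) ((stalk_toGenSum_bijective F ξ (not_not.1 hξ)).1 ?_)
  rw [← ConcreteCategory.comp_apply, ← Functor.map_comp, kernel.condition, Functor.map_zero, map_zero, map_zero]
  rfl

/-- The cokernel of the map lives off the generic points. -/
theorem supp_cokernel_toGenSum (F : EtCoh.Ab X) :
    EtPBC.supp (cokernel (Abelian.factorThruCoimage (toGenSum F))) ⊆ (genericPoints X)ᶜ := by
  rw [supp_subset_iff]
  intro Ω _ _ ξ hξ
  refine @AddCommGrpCat.isZero_of_subsingleton _ (subsingleton_of_forall_eq 0 fun y => ?_)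
  obtain ⟨z, rfl⟩ := stalk_surjective_of_epi ξ (cokernel.π (Abelian.factorThruCoimage (toGenSum F))) y
  obtain ⟨a, rfl⟩ := (stalk_toGenSum_bijective F ξ (not_not.1 hξ)).2 z
  have h : (EtCoh.stalk ξ).map (toGenSum F) a = (EtCoh.stalk ξ).map (Abelian.factorThruCoimage (toGenSum F))
      ((EtCoh.stalk ξ).map (Abelian.coimage.π (toGenSum F)) a) := by
    rw [← ConcreteCategory.comp_apply, ← Functor.map_comp, Abelian.coimage.fac]
  rw [h, ← ConcreteCategory.comp_apply, ← Functor.map_comp, cokernel.condition, Functor.map_zero]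
  rfl

end Groth.FieldPush
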