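import Groth.Agent.EtaleBase.NormalConst
import Groth.Agent.EtaleBase.StrictStalk
import Groth.Agent.EtaleBase.PushStalkFinite
import Groth.Agent.EtaleDeep.Cons.StalkLocus
import Groth.Agent.Ega2Proj.FieldNormalization
import Groth.Agent.PropsBasic2.Reduced

/-!
A constructible sheaf maps, injectively on the stalk at a given point, to the direct image of a constant
sheaf on the normalization of the closure of the point in an algebraic closure of its residue field.
-/

set_option autoImplicit false
set_option backward.isDefEq.respectTransparency.types false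
set_option linter.style.haveILetI false

universe u

open CategoryTheory CategoryTheory.Limits AlgebraicGeometry Opposite

namespace Groth.EtPbc.GeomEmbed

open Groth.EtaleBase Groth.EtaleBase.LocConst

/-- Injectivity on stalks of a morphism to a direct image, from its adjoint. -/
theorem stalk_injective_of_adjoint {A B : Scheme.{u}} (f : A ⟶ B) {F : EtCoh.Ab B} {G : EtCoh.Ab A}
    (φ : F ⟶ (EtCoh.push f).obj G) {Ω : Type u} [Field Ω] [IsSepClosed Ω]
    (ξ : Spec (CommRingCat.of Ω) ⟶ A)
    (h : Function.Injective ((EtCoh.stalk ξ).map (((EtCoh.pullPushAdj f).homEquiv F G).symm φ))) :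
    Function.Injective ((EtCoh.stalk (ξ ≫ f)).map φ) := by
  have key : ∀ a, evPush f ξ G ((EtCoh.stalk (ξ ≫ f)).map φ a) =
      (EtCoh.stalk ξ).map (((EtCoh.pullPushAdj f).homEquiv F G).symm φ) ((stalkPullIso f ξ).hom.app F a) := by
    intro a
    obtain ⟨U, t, σ, rfl⟩ := germ_surjective (ξ ≫ f) F a
    rw [germ_map, evPush_germ, stalkPullIso_germ, germ_map]
    refine congrArg _ ?_
    have h1 := ((EtCoh.pullPushAdj f).homEquiv_unit F G (((EtCoh.pullPushAdj f).homEquiv F G).symm φ))
    rw [Equiv.apply_symm_apply] at h1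
    exact ConcreteCategory.congr_hom (congrArg (fun ψ => ψ.hom.app (op U)) h1) σ
  intro a b hab
  refine ((ConcreteCategory.isIso_iff_bijective ((stalkPullIso f ξ).hom.app F)).1 inferInstance).1 (h ?_)
  rw [← key, ← key, hab]

/-- Sheaves on the spectrum of a separably closed field are constant. -/
theorem nonempty_iso_const (Ω : Type u) [Field Ω] [IsSepClosed (IsLocalRing.ResidueField Ω)]
    (G : EtCoh.Ab (Spec (CommRingCat.of Ω))) (M : Type) [AddCommGroup M]
    (e : ULift.{u + 1} M ≃+ (EtCoh.stalk (closedGeom Ω)).obj G) :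
    Nonempty (G ≅ EtCoh.const (Spec (CommRingCat.of Ω)) M) := by
  let S : Scheme.{u} := Spec (CommRingCat.of Ω)
  let t : (Scheme.pointSmallEtale (closedGeom Ω)).fiber.obj (EtCoh.top S) :=
    Over.homMk (closedGeom Ω) (Category.comp_id _)
  have hG := bijective_germ_closedGeom Ω G
  have hC := bijective_germ_closedGeom Ω (EtCoh.const S M)
  let e₂ : ULift.{u + 1} M ≃+ G.obj.obj (op (EtCoh.top S)) :=
    e.trans (AddEquiv.ofBijective (germ (closedGeom Ω) G (EtCoh.top S) t).hom hG).symm
  let φ : EtCoh.const S M ⟶ G :=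
    ((EtCore.constAdj S).homEquiv _ G).symm (AddCommGrpCat.ofHom e₂.toAddMonoidHom)
  let η := ((CategoryTheory.toSheafify S.smallEtaleTopology
        ((Functor.const S.Etaleᵒᵖ).obj (AddCommGrpCat.of (ULift.{u + 1} M)))).app (op (EtCoh.top S))).hom
  have h1 : (EtCore.constAdj S).homEquiv _ G φ = AddCommGrpCat.ofHom e₂.toAddMonoidHom :=
    Equiv.apply_symm_apply _ _
  have hη : ∀ a, φ.hom.app (op (EtCoh.top S)) (η a) = e₂ a := fun a => by
    rw [Adjunction.homEquiv_unit] at h1
    refine Eq.trans ?_ (ConcreteCategory.congr_hom h1 a)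
    simp [η, EtCore.constAdj, constantSheafAdj, Adjunction.comp]
    rfl
  have hηb : Function.Bijective η := by
    refine (Function.Bijective.of_comp_iff' hC _).1 ?_
    exact exists_stalkBij_const (EtCoh.top S) (ULift.{u + 1} M) _ _ _ (closedGeom Ω) t
  have hφ : Function.Bijective (φ.hom.app (op (EtCoh.top S))) := by
    refine (Function.Bijective.of_comp_iff _ hηb).1 ?_
    refine Eq.mp ?_ e₂.bijective
    exact congrArg Function.Bijective (funext hη).symm
  haveI : IsIso φ := isIso_of_exists_stalk φ fun s => by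
    refine ⟨IsLocalRing.ResidueField Ω, inferInstance, inferInstance, closedGeom Ω, Subsingleton.elim _ _, ?_⟩
    refine (Function.Bijective.of_comp_iff _ hC).1 ?_
    have e3 : ((EtCoh.stalk (closedGeom Ω)).map φ) ∘ (germ (closedGeom Ω) (EtCoh.const S M) (EtCoh.top S) t) =
        (germ (closedGeom Ω) G (EtCoh.top S) t) ∘ (φ.hom.app (op (EtCoh.top S))) :=
      funext fun a => germ_map (closedGeom Ω) φ _ _ a
    exact e3 ▸ hG.comp hφ
  exact ⟨(asIso φ).symm⟩

variable {X : Scheme.{u}}

/-- Integral normal schemes over a scheme with algebraically closed function field point over a given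
point. -/
theorem exists_normal_over [QuasiSeparatedSpace X] (x : X) :
    ∃ (W : Scheme.{u}) (_ : IsIntegral W) (ν : W ⟶ X) (_ : IsIntegralHom ν) (Ω : Type u) (_ : Field Ω)
      (_ : IsAlgClosed Ω) (j : Spec (CommRingCat.of Ω) ⟶ W) (_ : IsPreimmersion j),
      (∀ w : W, IsIntegrallyClosed (W.presheaf.stalk w)) ∧ genericPoint W ∈ Set.range j.base ∧
        ν.base (j.base default) = x := by
  let T : TopologicalSpace.Closeds X := ⟨closure {x}, isClosed_closure⟩
  let Z := (Scheme.IdealSheafData.vanishingIdeal T).subscheme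
  let i : Z ⟶ X := (Scheme.IdealSheafData.vanishingIdeal T).subschemeι
  haveI : IsReduced Z := Groth.PropsBasic2.isReduced_vanishingIdeal_subscheme T
  have hi : Set.range i.base = closure {x} := Groth.PropsBasic2.range_vanishingIdeal_subschemeι T
  haveI : IrreducibleSpace Z := by
    haveI : IrreducibleSpace ↥(Set.range i.base) := by
      rw [hi]
      exact Subtype.irreducibleSpace isIrreducible_singleton.closure
    exact i.isEmbedding.toHomeomorph.symm.surjective.irreducibleSpace
      i.isEmbedding.toHomeomorph.symm.continuous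
  haveI : IsIntegral Z := isIntegral_of_irreducibleSpace_of_isReduced Z
  have hgen : i.base (genericPoint Z) = x := by
    have h := (genericPoint_spec Z).image i.continuous
    rw [Set.image_univ, hi, closure_closure] at h
    exact h.eq isGenericPoint_closure
  haveI : QuasiSeparatedSpace Z := quasiSeparatedSpace_of_quasiSeparated i
  let K := AlgebraicClosure Z.functionField
  let φ : Z.functionField →+* K := algebraMap _ _
  let g : Spec (CommRingCat.of K) ⟶ Z :=
    Spec.map (CommRingCat.ofHom φ) ≫ Z.fromSpecStalk (genericPoint Z)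
  haveI : QuasiCompact g := inferInstance
  haveI : QuasiSeparated g := inferInstance
  let j := g.toNormalization
  have hj : j.base (IsLocalRing.closedPoint K) = genericPoint g.normalization :=
    Groth.Ega2Proj.toNormalization_closedPoint Z K g
  have hsurj : Function.Surjective (Scheme.stalkClosedPointTo j).hom := fun y => by
    have h : y ∈ Set.range (Scheme.stalkClosedPointTo j).hom := by
      rw [Groth.Ega2Proj.range_stalkClosedPointTo Z K φ g rfl]
      obtain ⟨q, hq1, hq2⟩ := Algebra.IsIntegral.isIntegral (R := Z.functionField) y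
      exact ⟨q, hq1, hq2⟩
    exact h
  haveI hs : SurjectiveOnStalks j := ⟨fun p => by
    obtain rfl : p = IsLocalRing.closedPoint K := Subsingleton.elim _ _
    intro y
    obtain ⟨a, ha⟩ := hsurj ((AlgebraicGeometry.stalkClosedPointIso (CommRingCat.of K)).hom y)
    exact ⟨a, ((ConcreteCategory.bijective_of_isIso
      (AlgebraicGeometry.stalkClosedPointIso (CommRingCat.of K)).hom).1 ha)⟩⟩
  haveI : IsPreimmersion j :=
    { toSurjectiveOnStalks := hs
      isEmbedding := Topology.IsEmbedding.of_subsingleton _ }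
  refine ⟨g.normalization, inferInstance, g.fromNormalization ≫ i, inferInstance, K, inferInstance,
    inferInstance, j, inferInstance,
    fun w => (Groth.Ega2Proj.isNormalScheme_normalization Z K φ g rfl w).2, ⟨_, hj⟩, ?_⟩
  rw [Scheme.Hom.comp_apply, Subsingleton.elim (default : Spec (CommRingCat.of K)) (IsLocalRing.closedPoint K), hj]
  have h := (Set.eq_singleton_iff_unique_mem.1 (Groth.Ega2Proj.preimage_genericPoint Z K φ g rfl)).1
  rw [Set.mem_preimage, Set.mem_singleton_iff] at h
  exact (congrArg i.base h).trans hgen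

/-- A map to the direct image of a constant sheaf, injective at a given point. -/
theorem exists_injective_at [QuasiSeparatedSpace X] {F : EtCoh.Ab X} (hF : EtPBC.IsConstructible F) (x : X) :
    ∃ (W : Scheme.{u}) (ν : W ⟶ X) (_ : IsIntegralHom ν) (M : Type) (_ : AddCommGroup M) (_ : Finite M)
      (g : F ⟶ (EtCoh.push ν).obj (EtCoh.const W M)) (Ω : Type u) (_ : Field Ω) (_ : IsSepClosed Ω)
      (ξ : Spec (CommRingCat.of Ω) ⟶ X),
      ξ.base default = x ∧ Function.Injective ((EtCoh.stalk ξ).map g) := by
  obtain ⟨W, _, ν, hν, Ω, _, _, j, hjp, hN, hj, hx⟩ := exists_normal_over x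
  haveI : IsSepClosed (IsLocalRing.ResidueField Ω) := isSepClosed_residueField_of_isAlgClosed (Ω := Ω)
  let ξ₀ := closedGeom Ω
  have hpt : ((ξ₀ ≫ j) ≫ ν).base default = x := by
    rw [Scheme.Hom.comp_apply, Scheme.Hom.comp_apply,
      Subsingleton.elim (ξ₀.base default) default, hx]
  obtain ⟨M, _, hM, hst⟩ := Groth.EtaleDeep.Cons.exists_stalk_equiv hF x
  obtain ⟨e⟩ := hst _ ((ξ₀ ≫ j) ≫ ν) hpt
  let C := EtCoh.const W M
  haveI : IsIso ((EtCoh.pullPushAdj j).unit.app C) :=
    NormalConst.isIso_unit j C _ hN (exists_stalkBij_const (EtCoh.top W) (ULift.{u + 1} M)) hj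
  let P := (EtCoh.pull ν).obj F
  obtain ⟨β⟩ := nonempty_iso_const Ω ((EtCoh.pull j).obj P) M
    (e.trans ((stalkPullIso ν (ξ₀ ≫ j)).app F ≪≫ (stalkPullIso j ξ₀).app P).addCommGroupIsoToAddEquiv)
  let r : (EtCoh.pull j).obj P ≅ (EtCoh.pull j).obj C := β ≪≫ (EtCore.pullConst j M).symm
  let h : P ⟶ C := (EtCoh.pullPushAdj j).homEquiv _ _ r.hom ≫ inv ((EtCoh.pullPushAdj j).unit.app C)
  have hh : (EtCoh.pull j).map h = r.hom := by
    apply ((EtCoh.pullPushAdj j).homEquiv _ _).injective
    rw [show (EtCoh.pullPushAdj j).homEquiv _ _ ((EtCoh.pull j).map h) =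
        h ≫ (EtCoh.pullPushAdj j).unit.app C by
      rw [← Category.comp_id ((EtCoh.pull j).map h), Adjunction.homEquiv_naturality_left,
        Adjunction.homEquiv_id]]
    simp [h]
  have hinj : Function.Injective ((EtCoh.stalk (ξ₀ ≫ j)).map h) := by
    intro a b hab
    apply ((ConcreteCategory.isIso_iff_bijective ((stalkPullIso j ξ₀).hom.app P)).1 inferInstance).1
    have hr : IsIso ((EtCoh.stalk ξ₀).map ((EtCoh.pull j).map h)) := by rw [hh]; infer_instance
    apply ((ConcreteCategory.isIso_iff_bijective _).1 hr).1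
    have := (stalkPullIso j ξ₀).hom.naturality h
    exact (ConcreteCategory.congr_hom this a).symm.trans
      ((congrArg (fun z => (stalkPullIso j ξ₀).hom.app C z) hab).trans (ConcreteCategory.congr_hom this b))
  refine ⟨W, ν, hν, M, inferInstance, hM, (EtCoh.pullPushAdj ν).homEquiv _ _ h, _, inferInstance,
    inferInstance, (ξ₀ ≫ j) ≫ ν, hpt, stalk_injective_of_adjoint ν _ _ ?_⟩
  rw [Equiv.symm_apply_apply]
  exact hinj

end Groth.EtPbc.GeomEmbed
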