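import Groth.Agent.EtPbc.GmRational
import Mathlib.RingTheory.UniqueFactorizationDomain.Basic

/-!
# The quotient of the generic direct image by `𝔾ₘ` at points with factorial local rings
-/

set_option autoImplicit false
set_option backward.isDefEq.respectTransparency.types false
set_option linter.style.haveILetI false
set_option linter.unusedSectionVars false
set_option maxHeartbeats 1000000

universe u

open CategoryTheory CategoryTheory.Limits CategoryTheory.Abelian AlgebraicGeometry Opposite TopologicalSpace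

namespace Groth.FieldPush

open Groth.EtaleBase Groth.EtaleBase.LocConst Groth.EtaleBase.GmPic Groth.EtaleBase.SitePt Groth.EtaleDeep.Cons

variable {X : Scheme.{u}}

/-- The points of a scheme specializing to `z`, through the local ring. -/
noncomputable abbrev pt {Y : Scheme.{u}} (z : Y) (P : PrimeSpectrum (Y.presheaf.stalk z)) : Y :=
  (Y.fromSpecStalk z).base (show ↥(Spec (Y.presheaf.stalk z)) from P)

theorem pt_specializes {Y : Scheme.{u}} (z : Y) (P : PrimeSpectrum (Y.presheaf.stalk z)) : pt z P ⤳ z :=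
  Y.range_fromSpecStalk.subset ⟨_, rfl⟩

theorem exists_pt {Y : Scheme.{u}} {y z : Y} (h : y ⤳ z) : ∃ P, pt z P = y :=
  Y.range_fromSpecStalk.symm.subset h

theorem pt_injective {Y : Scheme.{u}} (z : Y) : Function.Injective (pt z) :=
  fun _ _ h => (Y.fromSpecStalk z).isEmbedding.injective h

theorem pt_specializes_iff {Y : Scheme.{u}} (z : Y) (P Q : PrimeSpectrum (Y.presheaf.stalk z)) :
    pt z P ⤳ pt z Q ↔ P.asIdeal ≤ Q.asIdeal :=
  ((Y.fromSpecStalk z).isEmbedding.isInducing.specializes_iff).trans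
    ((PrimeSpectrum.le_iff_specializes P Q).symm)

/-- Nonvanishing at a generization of `z` is read in the local ring at `z`. -/
theorem mem_basicOpen_pt {Y : Scheme.{u}} {z : Y} {N : Y.Opens} (hz : z ∈ N) (a : Γ(Y, N))
    (P : PrimeSpectrum (Y.presheaf.stalk z)) :
    pt z P ∈ Y.basicOpen a ↔ Y.presheaf.germ N z hz a ∉ P.asIdeal := by
  show (show ↥(Spec (Y.presheaf.stalk z)) from P) ∈ Y.fromSpecStalk z ⁻¹ᵁ Y.basicOpen a ↔ _
  rw [Scheme.preimage_basicOpen, Scheme.fromSpecStalk_app hz]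
  simp only [ConcreteCategory.comp_apply, Scheme.basicOpen_res, basicOpen_eq_of_affine']
  constructor
  · rintro ⟨-, h⟩ hmem
    simp at h
    exact h hmem
  · intro h
    refine ⟨?_, ?_⟩
    · exact (pt_specializes z P).mem_open N.2 hz
    · simp
      exact h

/-- A point is divisorial if its proper generizations are generic. -/
def IsDivPt (x : X) : Prop := x ∉ genericPoints X ∧ ∀ y : X, y ⤳ x → y = x ∨ y ∈ genericPoints X

variable (V : X.Etale)

/-- Specializations inside a fibre are trivial. -/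
theorem eq_of_specializes_fibre {y z : V.left} (h : y ⤳ z) (he : V.hom.base y = V.hom.base z) : y = z := by
  haveI : Etale V.hom := V.prop
  haveI := (V.hom.isDiscrete_preimage_singleton (V.hom.base z)).to_subtype
  have h' : (⟨y, he⟩ : ↥(V.hom.base ⁻¹' {V.hom.base z})) ⤳ ⟨z, rfl⟩ := (subtype_specializes_iff _ _).2 h
  exact congrArg Subtype.val h'.eq

/-- Generizations lift along étale maps. -/
theorem exists_generization {z : V.left} {y : X} (h : y ⤳ V.hom.base z) :
    ∃ y' : V.left, y' ⤳ z ∧ V.hom.base y' = y := by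
  haveI : Etale V.hom := V.prop
  obtain ⟨y', h1, h2⟩ := Flat.generalizingMap (f := (V.hom : V.left ⟶ X)) h
  exact ⟨y', h1, h2⟩

variable [IsReduced X] [IsNoetherian X]

/-- The class of `e` vanishes near `v`. -/
def Van (e : (gmGen X).obj.obj (op V)) (v : V.left) : Prop := v ∈ vanishSet (gmQ X) V (cls V e)

theorem cls_res {W : X.Etale} (g : W ⟶ V) (e : (gmGen X).obj.obj (op V)) :
    cls W ((gmGen X).obj.map g.op e) = (gmQ X).obj.map g.op (cls V e) :=
  NatTrans.naturality_apply (cokernel.π (toGen X)).hom g.op e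

/-- The class vanishes at `v` iff the fraction is a unit at `v`. -/
theorem van_iff {e : (gmGen X).obj.obj (op V)} {N : V.left.Opens} {a b : Γ(V.left, N)} (h : Rep V e N a b)
    {v : V.left} (hv : v ∈ N) :
    Van V e v ↔ ∃ c : V.left.presheaf.stalk v, IsUnit c ∧
      c * V.left.presheaf.germ N v hv b = V.left.presheaf.germ N v hv a := by
  constructor
  · intro hvan
    let N' : V.left.Opens := N ⊓ ⟨vanishSet (gmQ X) V (cls V e), isOpen_vanishSet _ _ _⟩
    have hz : cls (openObj V N') ((gmGen X).obj.map (openHom V N').op e) = 0 := by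
      rw [cls_res]
      refine section_eq_zero_of_germs _ _ _ fun w => ?_
      obtain ⟨t, ht⟩ := exists_geomPoint_lift (openObj V N') w
      have h0 := (germ_eq_zero_iff_mem _ (gmQ X) V (cls V e) _).2
        (show fiberPoint _ ((Scheme.pointSmallEtale _).fiber.map (openHom V N') t) ∈
            vanishSet (gmQ X) V (cls V e) by
          rw [fiberPoint_map]
          exact (congrArg (openHom V N').left.base ht).symm ▸ (show ↥N' from w).2.2)
      rw [← germ_res] at h0
      obtain ⟨W, g, ⟨w', hw'⟩, hz⟩ := (germ_eq_zero_iff_mem _ _ _ _ t).1 h0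
      exact ⟨W, g, ⟨w', hw'.trans ht⟩, hz⟩
    obtain ⟨c, hc⟩ := (h.res V (inf_le_left : N' ≤ N)).exists_unit V hz
    refine ⟨V.left.presheaf.germ N' v ⟨hv, hvan⟩ c, c.isUnit.map (V.left.presheaf.germ N' v ⟨hv, hvan⟩).hom, ?_⟩
    have h1 := congrArg (V.left.presheaf.germ N' v ⟨hv, hvan⟩) hc
    rw [map_mul, TopCat.Presheaf.germ_res_apply, TopCat.Presheaf.germ_res_apply] at h1
    exact h1
  · rintro ⟨c, hc, hcb⟩
    obtain ⟨N₀, hN₀, c₀, rfl⟩ := TopCat.Presheaf.exists_germ_eq V.left.presheaf c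
    let D := V.left.basicOpen c₀
    have hvD : v ∈ D := (Scheme.mem_basicOpen V.left c₀ _ hN₀).2 hc
    let cD : Γ(V.left, D) := V.left.presheaf.map (homOfLE (V.left.basicOpen_le c₀)).op c₀
    have hcD : IsUnit cD := V.left.toRingedSpace.isUnit_res_basicOpen c₀
    have h1 : V.left.presheaf.germ (D ⊓ N) v ⟨hvD, hv⟩
        (V.left.presheaf.map (homOfLE (inf_le_left : D ⊓ N ≤ D)).op cD *
          V.left.presheaf.map (homOfLE (inf_le_right : D ⊓ N ≤ N)).op b) =
        V.left.presheaf.germ (D ⊓ N) v ⟨hvD, hv⟩ (V.left.presheaf.map (homOfLE (inf_le_right : D ⊓ N ≤ N)).op a) := by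
      rw [map_mul, TopCat.Presheaf.germ_res_apply, TopCat.Presheaf.germ_res_apply,
        TopCat.Presheaf.germ_res_apply, TopCat.Presheaf.germ_res_apply]
      exact hcb
    obtain ⟨N', hvN', i₁, i₂, hN'⟩ := TopCat.Presheaf.germ_eq V.left.presheaf v _ _ _ _ h1
    have hN'N : N' ≤ N := (leOfHom i₁).trans inf_le_right
    have hN'D : N' ≤ D := (leOfHom i₁).trans inf_le_left
    have hz := (h.res V hN'N).cls_eq_zero V
      (Units.map (V.left.presheaf.map (homOfLE hN'D).op).hom.toMonoidHom hcD.unit) (by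
        rw [map_mul] at hN'
        refine Eq.trans ?_ (hN'.trans (res_res V _ _ a))
        exact congrArg₂ (· * ·) (res_res V _ _ cD).symm (res_res V _ _ b).symm)
    rw [cls_res] at hz
    exact ⟨openObj V N', openHom V N', ⟨⟨v, hvN'⟩, rfl⟩, hz⟩

/-- The points over generic points of an affine étale scheme are finitely many. -/
theorem finite_over_generic (N : V.left.affineOpens) :
    {w : V.left | w ∈ N.1 ∧ V.hom.base w ∈ genericPoints X}.Finite := by
  haveI : Etale V.hom := V.prop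
  let g : V.left ⟶ X := V.hom
  haveI : LocallyOfFiniteType g := inferInstanceAs (LocallyOfFiniteType V.hom)
  have hfib : ∀ η : X, ((N.1 : Set V.left) ∩ g.base ⁻¹' {η}).Finite := fun η => by
    haveI : QuasiCompact (N.1.ι ≫ g) := by
      haveI : IsAffine (N.1 : Scheme.{u}) := N.2
      haveI : QuasiCompact ((N.1.ι ≫ g) ≫ terminal.from X) := by rw [terminal.comp_from]; infer_instance
      exact QuasiCompact.of_comp (N.1.ι ≫ g) (terminal.from X)
    haveI : LocallyQuasiFinite (N.1.ι ≫ g) :=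
      locallyQuasiFinite_of_formallyUnramified (N.1.ι ≫ g)
    refine ((Scheme.Hom.finite_preimage_singleton (N.1.ι ≫ g) η).image N.1.ι.base).subset ?_
    rintro w ⟨hw, hwη⟩
    exact ⟨⟨w, hw⟩, hwη, rfl⟩
  refine ((genericPoints.finite NoetherianSpace.finite_irreducibleComponents).biUnion fun η _ => hfib η).subset ?_
  rintro w ⟨hw, hwη⟩
  exact Set.mem_biUnion hwη ⟨hw, rfl⟩

section Stalk

variable (z : V.left) [IsDomain (V.left.presheaf.stalk z)]

/-- The generic point through `z`. -/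
noncomputable abbrev gz : V.left := pt z ⟨⊥, Ideal.isPrime_bot⟩

theorem gz_specializes {y : V.left} (hy : y ⤳ z) : gz V z ⤳ y := by
  obtain ⟨P, rfl⟩ := exists_pt hy
  exact (pt_specializes_iff z _ _).2 bot_le

theorem eq_gz_of_specializes {y : V.left} (h : y ⤳ gz V z) : y = gz V z := by
  obtain ⟨P, rfl⟩ := exists_pt (h.trans (pt_specializes z _))
  exact congrArg (pt z) (PrimeSpectrum.ext (le_bot_iff.1 ((pt_specializes_iff z _ _).1 h)))

theorem hom_gz_mem : V.hom.base (gz V z) ∈ genericPoints X := by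
  obtain ⟨η, hη, hηz⟩ : ∃ η ∈ genericPoints X, η ⤳ V.hom.base (gz V z) := by
    obtain ⟨η, hη⟩ := QuasiSober.sober (isIrreducible_irreducibleComponent (x := V.hom.base (gz V z)))
      isClosed_irreducibleComponent
    exact ⟨η, show closure {η} ∈ irreducibleComponents X from
      hη.def.symm ▸ irreducibleComponent_mem_irreducibleComponents _, hη.specializes mem_irreducibleComponent⟩
  obtain ⟨y', hy', rfl⟩ := exists_generization V hηz
  rwa [eq_gz_of_specializes V z hy'] at hη

theorem eq_gz_of_generic {y : V.left} (hy : y ⤳ z) (hg : V.hom.base y ∈ genericPoints X) : y = gz V z :=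
  have h := gz_specializes V z hy
  (eq_of_specializes_fibre V h (eq_of_specializes_genericPoints hg (h.map V.hom.continuous))).symm

/-- Near `z`, the only point over a generic point is the generic one through `z`. -/
theorem exists_affine_gz : ∃ W : V.left.affineOpens, z ∈ W.1 ∧
    ∀ w ∈ W.1, V.hom.base w ∈ genericPoints X → w = gz V z := by
  obtain ⟨_, ⟨W₀, hW₀, rfl⟩, hzW₀, -⟩ :=
    V.left.isBasis_affineOpens.exists_subset_of_mem_open (Set.mem_univ z) isOpen_univ
  let S : Set V.left := {w | w ∈ W₀ ∧ V.hom.base w ∈ genericPoints X ∧ ¬ w ⤳ z}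
  have hS : S.Finite := (finite_over_generic V ⟨W₀, hW₀⟩).subset fun w hw => ⟨hw.1, hw.2.1⟩
  let C : Set V.left := ⋃ w ∈ S, closure {w}
  have hC : IsClosed C := hS.isClosed_biUnion fun _ _ => isClosed_closure
  have hzC : z ∉ C := fun h => by
    obtain ⟨w, hw, h'⟩ := Set.mem_iUnion₂.1 h
    exact hw.2.2 (specializes_iff_mem_closure.2 h')
  obtain ⟨_, ⟨W, hW, rfl⟩, hzW, hWsub⟩ := V.left.isBasis_affineOpens.exists_subset_of_mem_open
    (show z ∈ (W₀ : Set V.left) ∩ Cᶜ from ⟨hzW₀, hzC⟩) (W₀.2.inter hC.isOpen_compl)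
  refine ⟨⟨W, hW⟩, hzW, fun w hw hg => ?_⟩
  by_cases h : w ⤳ z
  · exact eq_gz_of_generic V z h hg
  · exact absurd (Set.mem_biUnion (show w ∈ S from ⟨(hWsub hw).1, hg, h⟩) (subset_closure (Set.mem_singleton w))) (hWsub hw).2

/-- Every section is a fraction near `z`. -/
theorem exists_rep (e : (gmGen X).obj.obj (op V)) :
    ∃ (N : V.left.Opens) (_ : z ∈ N) (a b : Γ(V.left, N)), Rep V e N a b := by
  obtain ⟨W, hzW, huniq⟩ := exists_affine_gz V z
  obtain ⟨O, hgO, c, hc⟩ := exists_lift_gen V (gz V z) (hom_gz_mem V z) e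
  obtain ⟨g, hgW, hgmem⟩ := W.2.exists_basicOpen_le (V := O) ⟨gz V z, hgO⟩
    ((pt_specializes z _).mem_open W.1.2 hzW)
  have hz : cls (openObj V O) ((gmGen X).obj.map (openHom V O).op e) = 0 := by
    rw [← hc]
    exact ConcreteCategory.congr_hom (congrArg (fun m => m.hom.app (op (openObj V O))) (cokernel.condition (toGen X))) c
  obtain ⟨u, hu⟩ := exists_lu V O _ hz
  let D := V.left.basicOpen g
  let uD := Units.map (V.left.presheaf.map (homOfLE hgW).op).hom.toMonoidHom u
  haveI := W.2.isLocalization_basicOpen g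
  obtain ⟨⟨a, ⟨s, n, rfl⟩⟩, ha⟩ := IsLocalization.surj (Submonoid.powers g) (uD : Γ(V.left, D))
  refine ⟨W.1, hzW, a, g ^ n, D, V.left.basicOpen_le g, ?_, ?_, uD, ?_, ?_⟩
  · intro w hw hg
    rw [huniq w hw hg]
    exact hgmem
  · rw [map_pow]
    exact (V.left.toRingedSpace.isUnit_res_basicOpen g).pow n
  · exact ha
  · rw [← lu_res, hu, map_oh_openHom]

theorem Rep.germ_ne_zero {e : (gmGen X).obj.obj (op V)} {N : V.left.Opens} {a b : Γ(V.left, N)}
    (h : Rep V e N a b) (hz : z ∈ N) :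
    V.left.presheaf.germ N z hz a ≠ 0 ∧ V.left.presheaf.germ N z hz b ≠ 0 := by
  obtain ⟨O, hO, hg, hb, u, hu, -⟩ := h
  have hgO : gz V z ∈ O := hg _ ((pt_specializes z _).mem_open N.2 hz) (hom_gz_mem V z)
  have key : ∀ x : Γ(V.left, N), IsUnit (V.left.presheaf.map (homOfLE hO).op x) →
      V.left.presheaf.germ N z hz x ≠ 0 := fun x hx h0 => by
    have hmem : gz V z ∈ V.left.basicOpen x := by
      have : gz V z ∈ V.left.basicOpen (V.left.presheaf.map (homOfLE hO).op x) := by
        rw [Scheme.basicOpen_of_isUnit _ hx]; exact hgO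
      rw [Scheme.basicOpen_res] at this
      exact this.2
    exact (mem_basicOpen_pt hz x _).1 hmem (by rw [h0]; exact Ideal.zero_mem _)
  exact ⟨key a (hu ▸ u.isUnit.mul hb), key b hb⟩

variable [UniqueFactorizationMonoid (V.left.presheaf.stalk z)]

/-- The primes below a principal prime. -/
theorem eq_bot_or_eq_span {π : V.left.presheaf.stalk z} (hπ : Prime π) (Q : PrimeSpectrum (V.left.presheaf.stalk z))
    (h : Q.asIdeal ≤ Ideal.span {π}) : Q.asIdeal = ⊥ ∨ Q.asIdeal = Ideal.span {π} := by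
  by_cases hQ : Q.asIdeal = ⊥
  · exact Or.inl hQ
  obtain ⟨ρ, hρQ, hρ⟩ := Ideal.IsPrime.exists_mem_prime_of_ne_bot Q.isPrime hQ
  refine Or.inr (le_antisymm h ?_)
  rw [Ideal.span_singleton_le_iff_mem]
  obtain ⟨t, ht⟩ := (hπ.associated_of_dvd hρ (Ideal.mem_span_singleton.1 (h hρQ))).symm
  rw [← ht]
  exact Q.asIdeal.mul_mem_right _ hρQ

/-- The point of a prime element. -/
noncomputable abbrev ptp {π : V.left.presheaf.stalk z} (hπ : Prime π) : V.left :=
  pt z ⟨Ideal.span {π}, (Ideal.span_singleton_prime hπ.ne_zero).2 hπ⟩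

theorem isDivPt_ptp {π : V.left.presheaf.stalk z} (hπ : Prime π) : IsDivPt (V.hom.base (ptp V z hπ)) := by
  constructor
  · intro hg
    have h := congrArg PrimeSpectrum.asIdeal (pt_injective z (eq_gz_of_generic V z (pt_specializes z _) hg))
    exact hπ.ne_zero (Ideal.span_singleton_eq_bot.1 h)
  · intro y hy
    obtain ⟨y', hy', rfl⟩ := exists_generization V hy
    obtain ⟨Q, rfl⟩ := exists_pt (hy'.trans (pt_specializes z _))
    rcases eq_bot_or_eq_span V z hπ Q ((pt_specializes_iff z _ _).1 hy') with h | h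
    · exact Or.inr ((show Q = ⟨⊥, Ideal.isPrime_bot⟩ from PrimeSpectrum.ext h) ▸ hom_gz_mem V z)
    · exact Or.inl (congrArg (fun P => V.hom.base (pt z P))
        (show Q = ⟨Ideal.span {π}, _⟩ from PrimeSpectrum.ext h))

/-- Divisorial points through `z` are given by prime elements. -/
theorem exists_prime_of_isDivPt {v : V.left} (hv : v ⤳ z) (hd : IsDivPt (V.hom.base v)) :
    ∃ (π : V.left.presheaf.stalk z) (hπ : Prime π), ptp V z hπ = v := by
  obtain ⟨P, rfl⟩ := exists_pt hv
  have hP : P.asIdeal ≠ ⊥ := fun h => hd.1 ((show P = ⟨⊥, Ideal.isPrime_bot⟩ from PrimeSpectrum.ext h) ▸ hom_gz_mem V z)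
  obtain ⟨π, hπP, hπ⟩ := Ideal.IsPrime.exists_mem_prime_of_ne_bot P.isPrime hP
  have hle : ptp V z hπ ⤳ pt z P := (pt_specializes_iff z _ _).2 ((Ideal.span_singleton_le_iff_mem _).2 hπP)
  exact ⟨π, hπ, eq_of_specializes_fibre V hle
    ((hd.2 _ (hle.map V.hom.continuous)).resolve_right (isDivPt_ptp V z hπ).1)⟩

/-- Every section is a fraction with coprime germs near `z`. -/
theorem exists_rep_relPrime (e : (gmGen X).obj.obj (op V)) :
    ∃ (N : V.left.Opens) (hN : z ∈ N) (a b : Γ(V.left, N)), Rep V e N a b ∧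
      IsRelPrime (V.left.presheaf.germ N z hN a) (V.left.presheaf.germ N z hN b) := by
  obtain ⟨N, hzN, a, b, hrep⟩ := exists_rep V z e
  obtain ⟨ha0, -⟩ := hrep.germ_ne_zero V z hzN
  obtain ⟨A, B, C, hrel, hA, hB⟩ := UniqueFactorizationMonoid.exists_reduced_factors _ ha0
    (V.left.presheaf.germ N z hzN b)
  obtain ⟨M₁, h₁, a₁, rfl⟩ := TopCat.Presheaf.exists_germ_eq V.left.presheaf A
  obtain ⟨M₂, h₂, b₁, rfl⟩ := TopCat.Presheaf.exists_germ_eq V.left.presheaf B
  obtain ⟨M₃, h₃, c₁, rfl⟩ := TopCat.Presheaf.exists_germ_eq V.left.presheaf C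
  let M := N ⊓ M₁ ⊓ M₂ ⊓ M₃
  have hM : z ∈ M := ⟨⟨⟨hzN, h₁⟩, h₂⟩, h₃⟩
  have l0 : M ≤ N := fun w hw => hw.1.1.1
  have l1 : M ≤ M₁ := fun w hw => hw.1.1.2
  have l2 : M ≤ M₂ := fun w hw => hw.1.2
  have l3 : M ≤ M₃ := fun w hw => hw.2
  let r := fun {O' : V.left.Opens} (h : M ≤ O') (x : Γ(V.left, O')) => V.left.presheaf.map (homOfLE h).op x
  have ea : V.left.presheaf.germ M z hM (r l3 c₁ * r l1 a₁) = V.left.presheaf.germ M z hM (r l0 a) := by
    simp only [r, map_mul, TopCat.Presheaf.germ_res_apply]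
    exact hA
  have eb : V.left.presheaf.germ M z hM (r l3 c₁ * r l2 b₁) = V.left.presheaf.germ M z hM (r l0 b) := by
    simp only [r, map_mul, TopCat.Presheaf.germ_res_apply]
    exact hB
  obtain ⟨Na, hNa, iA, iA', hNa'⟩ := TopCat.Presheaf.germ_eq V.left.presheaf z _ _ _ _ ea
  obtain ⟨Nb, hNb, iB, iB', hNb'⟩ := TopCat.Presheaf.germ_eq V.left.presheaf z _ _ _ _ eb
  let N' := Na ⊓ Nb
  have m : N' ≤ M := fun w hw => leOfHom iA hw.1
  let q := fun {O' : V.left.Opens} (h : M ≤ O') (x : Γ(V.left, O')) =>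
    V.left.presheaf.map (homOfLE m).op (r h x)
  obtain ⟨O, hO, hg, hb, u, hu, he⟩ := hrep.res V (m.trans l0)
  refine ⟨N', ⟨hNa, hNb⟩, q l1 a₁, q l2 b₁, ⟨O, hO, hg, ?_⟩, ?_⟩
  · have qa : q l3 c₁ * q l1 a₁ = V.left.presheaf.map (homOfLE (m.trans l0)).op a := by
      have h := congrArg (V.left.presheaf.map (homOfLE (inf_le_left : N' ≤ Na)).op) hNa'
      rw [Subsingleton.elim iA (homOfLE (leOfHom iA)), Subsingleton.elim iA' (homOfLE (leOfHom iA'))] at h
      simp only [r, map_mul, res_res] at h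
      simp only [q, r, res_res]
      exact h
    have qb : q l3 c₁ * q l2 b₁ = V.left.presheaf.map (homOfLE (m.trans l0)).op b := by
      have h := congrArg (V.left.presheaf.map (homOfLE (inf_le_right : N' ≤ Nb)).op) hNb'
      rw [Subsingleton.elim iB (homOfLE (leOfHom iB)), Subsingleton.elim iB' (homOfLE (leOfHom iB'))] at h
      simp only [r, map_mul, res_res] at h
      simp only [q, r, res_res]
      exact h
    rw [← qb, map_mul] at hb hu
    rw [← qa, map_mul] at hu
    refine ⟨isUnit_of_mul_isUnit_right hb, u, (isUnit_of_mul_isUnit_left hb).mul_left_cancel ?_, he⟩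
    rw [← hu]; ring
  · simp only [q, r, TopCat.Presheaf.germ_res_apply]
    exact fun p h₁ h₂ => hrel h₁ h₂

/-- The class vanishes at `z` if it vanishes at the divisorial points through `z`. -/
theorem van_of_divPts (e : (gmGen X).obj.obj (op V))
    (h : ∀ v : V.left, v ⤳ z → IsDivPt (V.hom.base v) → Van V e v) : Van V e z := by
  obtain ⟨N, hzN, a, b, hrep, hrel⟩ := exists_rep_relPrime V z e
  obtain ⟨hA0, hB0⟩ := hrep.germ_ne_zero V z hzN
  have key : ∀ π, Prime π → ¬ π ∣ V.left.presheaf.germ N z hzN a ∧ ¬ π ∣ V.left.presheaf.germ N z hzN b := by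
    intro π hπ
    have hvN : ptp V z hπ ∈ N := (pt_specializes z _).mem_open N.2 hzN
    obtain ⟨c, hc, hcb⟩ := (van_iff V hrep hvN).1 (h _ (pt_specializes z _) (isDivPt_ptp V z hπ))
    have hiff : ∀ x : Γ(V.left, N), IsUnit (V.left.presheaf.germ N (ptp V z hπ) hvN x) ↔
        ¬ π ∣ V.left.presheaf.germ N z hzN x := fun x => by
      rw [← Scheme.mem_basicOpen, mem_basicOpen_pt hzN, Ideal.mem_span_singleton]
    have hAB : IsUnit (V.left.presheaf.germ N (ptp V z hπ) hvN a) ↔
        IsUnit (V.left.presheaf.germ N (ptp V z hπ) hvN b) := by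
      rw [← hcb]
      exact ⟨fun h => isUnit_of_mul_isUnit_right h, fun h => hc.mul h⟩
    rw [hiff, hiff] at hAB
    by_cases hπA : π ∣ V.left.presheaf.germ N z hzN a
    · exact absurd (hrel hπA (not_not.1 fun h => hAB.2 h hπA)) hπ.not_isUnit
    · exact ⟨hπA, hAB.1 hπA⟩
  have hunit : ∀ x : V.left.presheaf.stalk z, x ≠ 0 → (∀ π, Prime π → ¬ π ∣ x) → IsUnit x := by
    intro x hx h
    by_contra hnu
    obtain ⟨π, hπ, hd⟩ := WfDvdMonoid.exists_irreducible_factor hnu hx
    exact h π (UniqueFactorizationMonoid.irreducible_iff_prime.1 hπ) hd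
  have hA := hunit _ hA0 fun π hπ => (key π hπ).1
  have hB := hunit _ hB0 fun π hπ => (key π hπ).2
  refine (van_iff V hrep hzN).2 ⟨_, hA.mul (hB.unit⁻¹).isUnit, ?_⟩
  rw [mul_assoc, IsUnit.val_inv_mul, mul_one]

end Stalk

end Groth.FieldPush
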