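import Groth.Agent.EtPbc.GmDivisorLocal

/-!
# The divisor sheaf is the union of its parts supported at finitely many divisorial points
-/

set_option autoImplicit false
set_option backward.isDefEq.respectTransparency.types false
set_option linter.style.haveILetI false
set_option linter.unusedSectionVars false
set_option maxHeartbeats 1000000

universe u

open CategoryTheory CategoryTheory.Limits CategoryTheory.Abelian AlgebraicGeometry Opposite TopologicalSpace

namespace Groth.FieldPush

open Groth.EtaleBase Groth.EtaleBase.LocConst Groth.EtaleBase.GmPic Groth.EtaleBase.SitePt Groth.EtaleDeep.Cons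
  Groth.EtPbc.PointSupp

variable {X : Scheme.{u}}

variable (X) in
/-- All local rings of all étale schemes are factorial domains. -/
def LocFact : Prop :=
  ∀ (U : X.Etale) (u : U.left), IsDomain (U.left.presheaf.stalk u) ∧ UniqueFactorizationMonoid (U.left.presheaf.stalk u)

/-- Such schemes are reduced. -/
theorem LocFact.isReduced (hf : LocFact X) : IsReduced X := by
  haveI : ∀ x : X, _root_.IsReduced (X.presheaf.stalk x) := fun x =>
    haveI : IsDomain (X.presheaf.stalk x) := (hf (EtCoh.top X) x).1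
    inferInstance
  exact isReduced_of_isReduced_stalk X

/-- Vanishing of pulled back sections. -/
theorem mem_vanishSet_map (F : EtCoh.Ab X) {T V : X.Etale} (g : T ⟶ V) (σ : F.obj.obj (op V)) (t : T.left) :
    t ∈ vanishSet F T (F.obj.map g.op σ) ↔ g.left.base t ∈ vanishSet F V σ := by
  obtain ⟨s, hs⟩ := exists_geomPoint_lift T t
  rw [← hs, ← fiberPoint_map, ← germ_eq_zero_iff_mem, ← germ_eq_zero_iff_mem, germ_res]

/-- Vanishing of images. -/
theorem mem_vanishSet_app {F G : EtCoh.Ab X} (φ : F ⟶ G) (V : X.Etale) (σ : F.obj.obj (op V)) {v : V.left}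
    (h : v ∈ vanishSet F V σ) : v ∈ vanishSet G V (φ.hom.app (op V) σ) := by
  obtain ⟨T, g, hg, hz⟩ := h
  refine ⟨T, g, hg, ?_⟩
  rw [← NatTrans.naturality_apply, hz, map_zero]

/-- Sections vanish outside the support. -/
theorem mem_vanishSet_of_not_mem_supp (F : EtCoh.Ab X) {S : Set X} (hF : EtPBC.supp F ⊆ S) (V : X.Etale)
    (σ : F.obj.obj (op V)) {v : V.left} (hv : V.hom.base v ∉ S) : v ∈ vanishSet F V σ := by
  obtain ⟨s, hs⟩ := exists_geomPoint_lift V v
  have hz : IsZero ((EtCoh.stalk (geomPoint (V.hom.base v))).obj F) :=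
    (supp_subset_iff F S).1 hF _ inferInstance inferInstance _ (by rw [geomPoint_apply]; exact hv)
  have h := (germ_eq_zero_iff_mem _ F V σ s).1 ((AddCommGrpCat.subsingleton_of_isZero hz).elim _ _)
  exact (show fiberPoint _ s = v from hs) ▸ h

variable [IsReduced X] [IsNoetherian X]

/-- Sections of the quotient lift locally. -/
theorem exists_local_lift (V : X.Etale) (σ : (gmQ X).obj.obj (op V)) (v : V.left) :
    ∃ (T : X.Etale) (g : T ⟶ V) (t : T.left) (e : (gmGen X).obj.obj (op T)),
      g.left.base t = v ∧ cls T e = (gmQ X).obj.map g.op σ := by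
  have hmem := ((Sheaf.isLocallySurjective_iff_epi' (A := AddCommGrpCat.{u + 1}) (cokernel.π (toGen X))).2
    inferInstance : Presheaf.IsLocallySurjective _ (cokernel.π (toGen X)).hom).imageSieve_mem σ
  rw [mem_topology_iff] at hmem
  obtain ⟨T, g, t, ⟨e, he⟩, ht⟩ := hmem v
  exact ⟨T, g, t, e, ht, he⟩

/-- Where a section of the quotient does not vanish, a divisorial generization does not either. -/
theorem exists_divPt_not_vanish (hf : LocFact X) (V : X.Etale) (σ : (gmQ X).obj.obj (op V)) {v : V.left}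
    (hv : v ∉ vanishSet (gmQ X) V σ) :
    ∃ d : V.left, d ⤳ v ∧ IsDivPt (V.hom.base d) ∧ d ∉ vanishSet (gmQ X) V σ := by
  by_contra hcon
  push Not at hcon
  obtain ⟨T, g, t, e, rfl, he⟩ := exists_local_lift V σ v
  haveI := (hf T t).1
  haveI := (hf T t).2
  refine hv ((mem_vanishSet_map _ g σ t).1 ?_)
  rw [← he]
  refine van_of_divPts T t e fun t' ht' hd => ?_
  show t' ∈ vanishSet _ _ _
  rw [he, mem_vanishSet_map]
  refine hcon _ (ht'.map g.left.continuous) ?_
  rwa [show V.hom.base (g.left.base t') = T.hom.base t' from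
    congrArg (fun m : T.left ⟶ X => m.base t') (MorphismProperty.Over.w g)]

/-- A section of the quotient vanishing at the divisorial points is zero. -/
theorem eq_zero_of_divPts (hf : LocFact X) (V : X.Etale) (σ : (gmQ X).obj.obj (op V))
    (h : ∀ d : V.left, IsDivPt (V.hom.base d) → d ∈ vanishSet (gmQ X) V σ) : σ = 0 := by
  refine section_eq_zero_of_germs _ _ _ fun v => ?_
  by_contra hv
  obtain ⟨d, -, hd, hd'⟩ := exists_divPt_not_vanish hf V σ (v := v) hv
  exact hd' (h d hd)

/-- A section of the quotient on an affine scheme is nonzero at finitely many divisorial points. -/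
theorem finite_divPts_not_vanish (hf : LocFact X) (V : X.Etale) [IsAffine V.left]
    (σ : (gmQ X).obj.obj (op V)) :
    {d : V.left | d ∉ vanishSet (gmQ X) V σ ∧ IsDivPt (V.hom.base d)}.Finite := by
  haveI : AlgebraicGeometry.Etale V.hom := V.prop
  let Vh : V.left ⟶ X := V.hom
  haveI : LocallyOfFiniteType Vh := inferInstanceAs (LocallyOfFiniteType V.hom)
  haveI : IsLocallyNoetherian V.left := LocallyOfFiniteType.isLocallyNoetherian Vh
  haveI : AlgebraicGeometry.IsNoetherian V.left := {}
  obtain ⟨S, hS, hSc, hSi, hSC⟩ := NoetherianSpace.exists_finite_set_isClosed_irreducible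
    (isOpen_vanishSet (gmQ X) V σ).isClosed_compl
  have hd : ∀ t ∈ S, ∃ d : V.left, d ∉ vanishSet (gmQ X) V σ ∧ IsDivPt (V.hom.base d) ∧ ∀ w ∈ t, d ⤳ w := by
    intro t ht
    obtain ⟨g, hg⟩ := QuasiSober.sober (hSi t ht) (hSc t ht)
    have hgC : g ∈ (vanishSet (gmQ X) V σ)ᶜ := hSC ▸ Set.mem_sUnion.2 ⟨t, ht, hg.mem⟩
    obtain ⟨d, hdg, hdiv, hd'⟩ := exists_divPt_not_vanish hf V σ hgC
    exact ⟨d, hd', hdiv, fun w hw => hdg.trans (hg.specializes hw)⟩
  choose d hd₁ hd₂ hd₃ using hd
  haveI := hS.to_subtype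
  refine (Set.finite_range fun t : S => d t.1 t.2).subset ?_
  rintro w ⟨hw, hwd⟩
  have hw' : w ∈ (vanishSet (gmQ X) V σ)ᶜ := hw
  rw [hSC] at hw'
  obtain ⟨t, ht, hwt⟩ := Set.mem_sUnion.1 hw'
  have hs := hd₃ t ht w hwt
  refine ⟨⟨t, ht⟩, eq_of_specializes_fibre V hs ?_⟩
  exact ((hwd.2 _ (hs.map V.hom.continuous)).resolve_right (hd₂ t ht).1)

/-- Finite sets of divisorial points. -/
abbrev DivIdx (X : Scheme.{u}) : Type u := Finset {x : X // IsDivPt x}

/-- The union of their closures. -/
def closD (T : DivIdx X) : Closeds X :=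
  ⟨⋃ x ∈ T, closure {x.1}, T.finite_toSet.isClosed_biUnion fun _ _ => isClosed_closure⟩

theorem closD_mono {T T' : DivIdx X} (h : T ≤ T') : (closD T : Set X) ⊆ closD T' :=
  Set.biUnion_subset_biUnion_left fun _ hx => h hx

/-- The divisorial points of the closure are those of the set. -/
theorem mem_of_mem_closD {T : DivIdx X} {x : X} (hx : IsDivPt x) (h : x ∈ (closD T : Set X)) :
    ∃ y ∈ T, y.1 = x := by
  obtain ⟨y, hy, hyx⟩ := Set.mem_iUnion₂.1 h
  exact ⟨y, hy, ((hx.2 _ (specializes_iff_mem_closure.2 hyx)).resolve_right y.2.1)⟩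

variable (X) in
/-- The parts of the quotient supported at finitely many divisors. -/
noncomputable def diagD : DivIdx X ⥤ EtCoh.Ab X where
  obj T := suppPart (closD T) (gmQ X)
  map {T T'} h := kernel.lift _ (kernel.ι _)
    (comp_unitCompl ((supp_suppPart (closD T) (gmQ X)).trans (closD_mono (leOfHom h))) _)
  map_id T := by rw [← cancel_mono (kernel.ι _), kernel.lift_ι, Category.id_comp]
  map_comp f g := by
    rw [← cancel_mono (kernel.ι _), kernel.lift_ι, Category.assoc, kernel.lift_ι, kernel.lift_ι]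

variable (X) in
/-- The cocone. -/
noncomputable def coconeD : Cocone (diagD X) where
  pt := gmQ X
  ι :=
    { app := fun T => kernel.ι (unitCompl (closD T) (gmQ X))
      naturality := fun T T' h => by
        refine Eq.trans ?_ (Category.comp_id _).symm
        exact kernel.lift_ι _ _ _ }

/-- A section whose divisorial points of non-vanishing lie over `T` is killed by the unit of the complement. -/
theorem unitCompl_eq_zero (hf : LocFact X) (V : X.Etale) (σ : (gmQ X).obj.obj (op V)) (T : DivIdx X)
    (h : ∀ d : V.left, d ∉ vanishSet (gmQ X) V σ → IsDivPt (V.hom.base d) →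
      V.hom.base d ∈ (closD T : Set X)) :
    (unitCompl (closD T) (gmQ X)).hom.app (op V) σ = 0 := by
  refine (unit_eq_zero_iff (compl (closD T)).ι (gmQ X) V σ).2 ?_
  rintro _ ⟨p, rfl⟩
  by_contra hp
  obtain ⟨d, hdp, hdiv, hd⟩ := exists_divPt_not_vanish hf V σ hp
  have h2 : V.hom.base ((pullback.fst V.hom (compl (closD T)).ι).base p) ∈ (closD T : Set X) :=
    (hdp.map V.hom.continuous).mem_closed (closD T).2 (h d hd hdiv)
  rw [← Scheme.Hom.comp_apply, pullback.condition, Scheme.Hom.comp_apply] at h2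
  exact ((pullback.snd V.hom (compl (closD T)).ι).base p).2 h2

/-- The quotient is the colimit of these parts. -/
theorem nonempty_isColimit_coconeD (hf : LocFact X) : Nonempty (IsColimit (coconeD X)) := by
  classical
  let θ : colimit (diagD X) ⟶ gmQ X := colimit.desc _ (coconeD X)
  have hpres : ∀ x : X, PreservesColimitsOfShape (DivIdx X) (EtCoh.stalk (geomPoint x)) := fun x =>
    have : PreservesColimitsOfSize.{u, u} (EtCoh.stalk (geomPoint x)) :=
      ((Scheme.pointSmallEtale (geomPoint x)).skyscraperSheafAdjunction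
        (A := AddCommGrpCat.{u + 1})).leftAdjoint_preservesColimits
    inferInstance
  haveI : Epi θ := epi_of_stalk_surjective _ fun x y => by
    obtain ⟨U, t, σ, rfl⟩ := germ_surjective (geomPoint x) (gmQ X) y
    obtain ⟨_, ⟨W, hW, rfl⟩, htW, -⟩ := U.left.isBasis_affineOpens.exists_subset_of_mem_open
      (Set.mem_univ (fiberPoint (geomPoint x) t)) isOpen_univ
    obtain ⟨t', ht'⟩ := exists_lift_open (geomPoint x) W t htW
    let V := openObj U W
    let σ' : (gmQ X).obj.obj (op V) := (gmQ X).obj.map (openHom U W).op σ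
    haveI : IsAffine V.left := hW
    let T : DivIdx X := (((finite_divPts_not_vanish hf V σ').image fun d => V.hom.base d).toFinset).subtype _
    have hη : (unitCompl (closD T) (gmQ X)).hom.app (op V) σ' = 0 := by
      refine unitCompl_eq_zero hf V σ' T fun d hd hdiv => Set.mem_iUnion₂.2 ⟨⟨_, hdiv⟩, ?_, subset_closure rfl⟩
      simp only [T, Finset.mem_subtype, Set.Finite.mem_toFinset]
      exact ⟨d, ⟨hd, hdiv⟩, rfl⟩
    obtain ⟨w, hw⟩ := exists_kernel_lift (unitCompl (closD T) (gmQ X)) V σ' hη
    refine ⟨(EtCoh.stalk (geomPoint x)).map (colimit.ι (diagD X) T)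
      (germ (geomPoint x) ((diagD X).obj T) V t' w), ?_⟩
    rw [← ConcreteCategory.comp_apply, ← Functor.map_comp,
      show colimit.ι (diagD X) T ≫ θ = (coconeD X).ι.app T from colimit.ι_desc _ _]
    refine (germ_map _ _ _ _ _).trans ((congrArg _ hw).trans ?_)
    rw [germ_res, ht']
  haveI : Mono θ := mono_of_stalk_injective _ fun x => by
    rw [injective_iff_map_eq_zero]
    intro z hz
    haveI := hpres x
    obtain ⟨T, w, rfl⟩ := Types.jointly_surjective _
      (isColimitOfPreserves (EtCoh.stalk (geomPoint x) ⋙ CategoryTheory.forget AddCommGrpCat.{u + 1})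
        (colimit.isColimit (diagD X))) z
    suffices ∀ w : (EtCoh.stalk (geomPoint x)).obj ((diagD X).obj T),
        (EtCoh.stalk (geomPoint x)).map θ ((EtCoh.stalk (geomPoint x)).map (colimit.ι (diagD X) T) w) = 0 →
          (EtCoh.stalk (geomPoint x)).map (colimit.ι (diagD X) T) w = 0 from this w hz
    intro w hz
    rw [← ConcreteCategory.comp_apply, ← Functor.map_comp,
      show colimit.ι (diagD X) T ≫ θ = (coconeD X).ι.app T from colimit.ι_desc _ _] at hz
    have : Mono ((EtCoh.stalk (geomPoint x)).map ((coconeD X).ι.app T)) :=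
      inferInstanceAs (Mono ((EtCoh.stalk (geomPoint x)).map (kernel.ι (unitCompl (closD T) (gmQ X)))))
    rw [(AddCommGrpCat.mono_iff_injective _).1 this (hz.trans (map_zero _).symm), map_zero]
  haveI : IsIso θ := isIso_of_mono_of_epi _
  haveI : IsIso ((colimit.isColimit (diagD X)).desc (coconeD X)) := ‹IsIso θ›
  exact ⟨IsColimit.ofPointIso (t := coconeD X) (colimit.isColimit (diagD X))⟩

/-- Torsion of the cohomology of the parts gives torsion of the cohomology of the quotient. -/
theorem isAddTorsion_H_gmQ (hf : LocFact X) (q : ℕ)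
    (h : ∀ T : DivIdx X, IsAddTorsion (EtCoh.H X (suppPart (closD T) (gmQ X)) q)) :
    IsAddTorsion (EtCoh.H X (gmQ X) q) := fun z => by
  classical
  obtain ⟨hc⟩ := nonempty_isColimit_coconeD hf
  haveI := Groth.FlatMor2.ColimCoh.Etale.preservesColimitsOfShape_HF_small (X := X) q (DivIdx X)
  obtain ⟨T, y, rfl⟩ := Types.jointly_surjective _
    (isColimitOfPreserves (EtCoh.HF X q ⋙ CategoryTheory.forget AddCommGrpCat.{u + 1}) hc) z
  suffices ∀ y : EtCoh.H X (suppPart (closD T) (gmQ X)) q,
      IsOfFinAddOrder ((EtCoh.HF X q).map ((coconeD X).ι.app T) y : EtCoh.H X (gmQ X) q) from this y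
  exact fun y => ((EtCoh.HF X q).map ((coconeD X).ι.app T)).hom.isOfFinAddOrder (h T y)

end Groth.FieldPush
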