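import Groth.Agent.EtPbc.GmDivisorSum
import Groth.Agent.EtPbc.FieldConstH1

/-!
# `H¹` of the divisor sheaf vanishes
-/

set_option autoImplicit false
set_option backward.isDefEq.respectTransparency.types false
set_option linter.style.haveILetI false
set_option linter.unusedSectionVars false
set_option maxHeartbeats 1000000

universe u

open CategoryTheory CategoryTheory.Limits CategoryTheory.Abelian AlgebraicGeometry Opposite TopologicalSpace

namespace Groth.FieldPush

open Groth.EtaleBase Groth.EtaleBase.LocConst Groth.EtaleBase.GmPic Groth.EtaleBase.SitePt Groth.EtaleDeep.Cons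
  Groth.EtPbc.PointSupp

/-- A sheaf with a global section generating all stalks freely is constant. -/
theorem nonempty_const_iso_of_generator {S : Scheme.{u}} (F : EtCoh.Ab S) (g : F.obj.obj (op (EtCoh.top S)))
    (h : ∀ s : S, ∀ t : (Scheme.pointSmallEtale (geomPoint s)).fiber.obj (EtCoh.top S),
      Function.Bijective fun k : ℤ => k • germ (geomPoint s) F (EtCoh.top S) t g) :
    Nonempty (EtCoh.const S ℤ ≅ F) := by
  let M : AddCommGrpCat.{u + 1} := AddCommGrpCat.of (ULift.{u + 1} ℤ)
  let tt : ∀ T : S.Etale, T ⟶ EtCoh.top S := fun T => MorphismProperty.Over.homMk T.hom (Category.comp_id _)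
  let φ : (Functor.const S.Etaleᵒᵖ).obj M ⟶ F.obj :=
    { app := fun T => AddCommGrpCat.ofHom
        ((zmultiplesHom _ (F.obj.map (tt T.unop).op g)).comp AddEquiv.ulift.toAddMonoidHom)
      naturality := fun T T' e => AddCommGrpCat.ext fun m => by
        change m.down • F.obj.map (tt T'.unop).op g = F.obj.map e.unop.op (m.down • F.obj.map (tt T.unop).op g)
        rw [map_zsmul, ← Functor.map_comp_apply, ← op_comp,
          (EtCore.topIsTerminal _).hom_ext (e.unop ≫ tt T.unop) (tt T'.unop)] }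
  let η := CategoryTheory.toSheafify S.smallEtaleTopology ((Functor.const S.Etaleᵒᵖ).obj M)
  let ψ : EtCoh.const S ℤ ⟶ F := ⟨CategoryTheory.sheafifyLift S.smallEtaleTopology φ F.property⟩
  have hψ : ∀ m : ULift.{u + 1} ℤ,
      ψ.hom.app (op (EtCoh.top S)) (η.app (op (EtCoh.top S)) m) = m.down • g := fun m => by
    refine (ConcreteCategory.congr_hom (congrArg (fun t : (Functor.const S.Etaleᵒᵖ).obj M ⟶ F.obj =>
      t.app (op (EtCoh.top S)))
      (CategoryTheory.toSheafify_sheafifyLift S.smallEtaleTopology φ F.property)) m).trans ?_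
    change m.down • F.obj.map (tt _).op g = _
    rw [(EtCore.topIsTerminal _).hom_ext (tt (EtCoh.top S)) (𝟙 _), op_id, CategoryTheory.Functor.map_id]
    rfl
  haveI : IsIso ψ := isIso_of_exists_stalk _ fun s => by
    obtain ⟨t, -⟩ := exists_fiber_of_point (geomPoint s) (EtCoh.top S) ((geomPoint s).base default) rfl
    refine ⟨_, inferInstance, inferInstance, geomPoint s, geomPoint_apply _ _, ?_⟩
    have hs := exists_stalkBij_const (X := S) (EtCoh.top S) (ULift.{u + 1} ℤ) _ inferInstance inferInstance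
      (geomPoint s) t
    refine (Function.Bijective.of_comp_iff _ hs).1 ?_
    have e : (fun m : ULift.{u + 1} ℤ => m.down • germ (geomPoint s) F (EtCoh.top S) t g) =
        fun m => (EtCoh.stalk (geomPoint s)).map ψ (germ (geomPoint s) (EtCoh.const S ℤ) (EtCoh.top S) t
          (η.app (op (EtCoh.top S)) m)) :=
      funext fun m => ((germ_map _ ψ _ t _).trans ((congrArg _ (hψ m)).trans (map_zsmul _ _ _))).symm
    exact Eq.mp (congrArg Function.Bijective e) ((h s t).comp (Equiv.ulift.bijective))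
  exact ⟨asIso ψ⟩

variable {X : Scheme.{u}} [IsReduced X] [IsNoetherian X]

/-- On the residue field of a divisorial point the divisor sheaf is constant. -/
theorem nonempty_const_iso_pull (hf : LocFact X) (T : DivIdx X) {x : {x : X // IsDivPt x}} (hx : x ∈ T) :
    Nonempty (EtCoh.const (Spec (X.residueField x.1)) ℤ ≅
      (EtCoh.pull (X.fromSpecResidueField x.1)).obj (suppPart (closD T) (gmQ X))) := by
  classical
  obtain ⟨W, hzW, hW⟩ := exists_affine_over (EtCoh.top X) x.1 (genericPoints.finite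
    (NoetherianSpace.finite_irreducibleComponents (α := X)))
  let V := openObj (EtCoh.top X) W.1
  let v : V.left := ⟨x.1, hzW⟩
  haveI : IsAffine V.left := W.2
  haveI : IsOpenImmersion V.hom := MorphismProperty.comp_mem @IsOpenImmersion W.1.ι (EtCoh.top X).hom inferInstance
    (inferInstanceAs (IsOpenImmersion (𝟙 X)))
  haveI := (hf V v).1
  haveI := (hf V v).2
  have huniq : ∀ w : V.left, V.hom.base w ∈ genericPoints X → w = gz V v := fun w hw =>
    eq_gz_of_generic V v ((W.1.ι.isOpenEmbedding.isInducing.specializes_iff).1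
      (hW _ (show ↥W.1 from w).2 hw)) hw
  have hdiv : IsDivPt (V.hom.base v) := x.2
  obtain ⟨π, hπ, hptp⟩ := exists_prime_of_isDivPt V v (specializes_rfl : v ⤳ v) hdiv
  obtain ⟨N, hvN, a, ha⟩ := TopCat.Presheaf.exists_germ_eq V.left.presheaf π
  obtain ⟨e, hrep⟩ := exists_section_of_germ V v huniq hvN a (by rw [ha]; exact hπ.ne_zero)
  let σ := cls V e
  let D : Set V.left := {d | (d ∉ vanishSet (gmQ X) V σ ∧ IsDivPt (V.hom.base d)) ∧ ¬ d ⤳ v}
  have hD : D.Finite := (finite_divPts_not_vanish hf V σ).subset fun _ h => h.1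
  let C : Set V.left := ⋃ w ∈ D, closure {w}
  let N₀ : V.left.Opens := ⟨Cᶜ, (hD.isClosed_biUnion fun _ _ => isClosed_closure).isOpen_compl⟩
  have hvN₀ : v ∈ N₀ := fun h => by
    obtain ⟨w, hw, h'⟩ := Set.mem_iUnion₂.1 h
    exact hw.2 (specializes_iff_mem_closure.2 h')
  obtain ⟨γ, hγ⟩ := exists_kernel_lift (unitCompl (closD T) (gmQ X)) (openObj V N₀)
      ((gmQ X).obj.map (openHom V N₀).op σ) <| by
    refine unitCompl_eq_zero hf (openObj V N₀) _ T fun d hd hdd => ?_
    rw [mem_vanishSet_map] at hd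
    have hdz : ((openHom V N₀).left.base d) ⤳ v := by
      by_contra h
      exact (show ↥N₀ from d).2 (Set.mem_biUnion (show (openHom V N₀).left.base d ∈ D from ⟨⟨hd, hdd⟩, h⟩)
        (subset_closure rfl))
    have h1 : V.hom.base ((openHom V N₀).left.base d) ⤳ x.1 := hdz.map V.hom.continuous
    have h2 : V.hom.base ((openHom V N₀).left.base d) = x.1 := (x.2.2 _ h1).resolve_right hdd.1
    exact Set.mem_iUnion₂.2 ⟨x, hx, subset_closure h2⟩
  let V₀ := openObj V N₀
  let i := X.fromSpecResidueField x.1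
  haveI : IsOpenImmersion V₀.hom := inferInstanceAs (IsOpenImmersion (N₀.ι ≫ V.hom))
  have hr : Set.range i.base ⊆ Set.range V₀.hom.base := by
    rw [Scheme.range_fromSpecResidueField]
    rintro _ rfl
    exact ⟨⟨v, hvN₀⟩, rfl⟩
  let r : EtCoh.top (Spec (X.residueField x.1)) ⟶ (EtCoh.bc i).obj V₀ :=
    MorphismProperty.Over.homMk (pullback.lift (IsOpenImmersion.lift V₀.hom i hr) (𝟙 _)
      ((IsOpenImmersion.lift_fac _ _ _).trans (Category.id_comp _).symm)) (pullback.lift_snd _ _ _)
  let G := suppPart (closD T) (gmQ X)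
  let u₀ : ((EtCoh.pull i).obj G).obj.obj (op ((EtCoh.bc i).obj V₀)) :=
    ((EtCoh.pullPushAdj i).unit.app G).hom.app (op V₀) γ
  refine nonempty_const_iso_of_generator _ (((EtCoh.pull i).obj G).obj.map r.op u₀) fun p t => ?_
  let t' := (Scheme.pointSmallEtale (geomPoint p)).fiber.map r t
  let s := bcFiberEquiv i (geomPoint p) V₀ t'
  have hs : pushLift i (geomPoint p) rfl V₀ s = t' := (bcFiberEquiv i (geomPoint p) V₀).symm_apply_apply t'
  let s₀ := (Scheme.pointSmallEtale (geomPoint p ≫ i)).fiber.map (openHom V N₀) s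
  have hs₀ : fiberPoint (geomPoint p ≫ i) s₀ = ptp V v hπ := by
    rw [hptp]
    refine V.hom.isOpenEmbedding.injective ?_
    rw [hom_fiberPoint, Scheme.Hom.comp_apply]
    exact Scheme.fromSpecResidueField_apply _ _
  have hι : (EtCoh.stalk (geomPoint p ≫ i)).map (kernel.ι (unitCompl (closD T) (gmQ X)))
      (germ (geomPoint p ≫ i) G V₀ s γ) = germ (geomPoint p ≫ i) (gmQ X) V s₀ σ :=
    (germ_map _ _ _ _ _).trans ((congrArg _ hγ).trans (germ_res _ _ _ _ _))
  have hbij : Function.Bijective fun k : ℤ => k • germ (geomPoint p ≫ i) G V₀ s γ := by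
    constructor
    · suffices ∀ k : ℕ, k • germ (geomPoint p ≫ i) (gmQ X) V s₀ σ = 0 → k = 0 by
        intro k l hkl
        by_contra hne
        have h0 : (k - l) • germ (geomPoint p ≫ i) G V₀ s γ = 0 := by
          rw [sub_smul]; exact sub_eq_zero.2 hkl
        have h1 : (k - l).natAbs • germ (geomPoint p ≫ i) G V₀ s γ = 0 := by
          rcases Int.natAbs_eq (k - l) with h | h
          · rwa [h, natCast_zsmul] at h0
          · rwa [h, neg_smul, neg_eq_zero, natCast_zsmul] at h0
        refine hne (sub_eq_zero.1 (Int.natAbs_eq_zero.1 (this _ ?_)))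
        rw [← hι, ← map_nsmul, h1, map_zero]
      intro k hk
      rw [← map_nsmul, ← map_nsmul, germ_eq_zero_iff_mem, hs₀, hptp] at hk
      obtain ⟨c, hc, hck⟩ := (van_iff V (hrep.nsmul k) hvN).1 hk
      rw [one_pow, map_one, mul_one, map_pow, ha] at hck
      by_contra hk0
      exact hπ.not_isUnit ((isUnit_pow_iff hk0).1 (hck ▸ hc))
    · intro y
      obtain ⟨k, hk⟩ := exists_germ_eq_zsmul hf V v hπ hvN a ha hrep (geomPoint p ≫ i) s₀ hs₀
        ((EtCoh.stalk (geomPoint p ≫ i)).map (kernel.ι (unitCompl (closD T) (gmQ X))) y)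
      refine ⟨k, mono_stalk_injective (geomPoint p ≫ i) (kernel.ι (unitCompl (closD T) (gmQ X))) ?_⟩
      rw [map_zsmul, hι]
      exact hk.symm
  have key : (fun k : ℤ => k • germ (geomPoint p) ((EtCoh.pull i).obj G) (EtCoh.top _) t
      (((EtCoh.pull i).obj G).obj.map r.op u₀)) =
      fun k => (stalkPullIso i (geomPoint p)).hom.app G (k • germ (geomPoint p ≫ i) G V₀ s γ) :=
    funext fun k => by
      rw [map_zsmul, germ_res, stalkPullIso_germ, hs]
  rw [key]
  exact ((ConcreteCategory.isIso_iff_bijective ((stalkPullIso i (geomPoint p)).hom.app G)).1 inferInstance).comp hbij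

/-- `H¹` of the part supported at finitely many divisors vanishes. -/
theorem subsingleton_H_one_part (hf : LocFact X) (T : DivIdx X) :
    Subsingleton (EtCoh.H X (suppPart (closD T) (gmQ X)) 1) := by
  classical
  haveI := mono_toSum T hf
  haveI := epi_toSum T hf
  haveI : IsIso (toSum T) := isIso_of_mono_of_epi _
  have h : Subsingleton (EtCoh.H X (⨁ fun x : ↥T => summand T x.1) 1) := by
    refine subsingleton_of_forall_eq 0 fun z => ?_
    rw [ext_eq_sum_components (fun x : ↥T => summand T x.1) z]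
    refine Finset.sum_eq_zero fun x _ => ?_
    haveI := pull_preservesFiniteLimits (X.fromSpecResidueField x.1.1)
    obtain ⟨e⟩ := nonempty_const_iso_pull hf T x.2
    haveI : Subsingleton (EtCoh.H (Spec (X.residueField x.1.1))
        (EtCoh.const (Spec (X.residueField x.1.1)) ℤ) 1) :=
      subsingleton_H_one_const (K := X.residueField x.1.1) ℤ
    haveI : Subsingleton (EtCoh.H (Spec (X.residueField x.1.1))
        ((EtCoh.pull (X.fromSpecResidueField x.1.1)).obj (suppPart (closD T) (gmQ X))) 1) :=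
      @Equiv.subsingleton _ _ ((EtCoh.HF _ 1).mapIso e).addCommGroupIsoToAddEquiv.toEquiv.symm
        (by assumption)
    haveI : Subsingleton (EtCoh.H X (summand T x.1) 1) :=
      (HofPush_one_injective (X.fromSpecResidueField x.1.1) _).subsingleton
    rw [Subsingleton.elim (α := EtCoh.H X (summand T x.1) 1)
      (z.comp (Ext.mk₀ (biproduct.π (fun x : ↥T => summand T x.1) x)) (add_zero 1)) 0]
    exact Ext.zero_comp _ _ _ _ _
  exact @Equiv.subsingleton _ _ ((EtCoh.HF X 1).mapIso (asIso (toSum T))).addCommGroupIsoToAddEquiv.toEquiv h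

/-- `H¹` of the divisor sheaf vanishes. -/
theorem subsingleton_H_one_gmQ (hf : LocFact X) : Subsingleton (EtCoh.H X (gmQ X) 1) := by
  classical
  refine subsingleton_of_forall_eq 0 fun z => ?_
  obtain ⟨hc⟩ := nonempty_isColimit_coconeD hf
  haveI := Groth.FlatMor2.ColimCoh.Etale.preservesColimitsOfShape_HF_small (X := X) 1 (DivIdx X)
  obtain ⟨T, y, rfl⟩ := Types.jointly_surjective _
    (isColimitOfPreserves (EtCoh.HF X 1 ⋙ CategoryTheory.forget AddCommGrpCat.{u + 1}) hc) z
  suffices ∀ y : EtCoh.H X (suppPart (closD T) (gmQ X)) 1,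
      ((EtCoh.HF X 1).map ((coconeD X).ι.app T) y : EtCoh.H X (gmQ X) 1) = 0 from this y
  intro y
  haveI := subsingleton_H_one_part hf T
  rw [Subsingleton.elim y 0]
  exact map_zero ((EtCoh.HF X 1).map ((coconeD X).ι.app T)).hom

omit [AlgebraicGeometry.IsReduced X] in
/-- Classes of degree two are detected at the generic points. -/
theorem eq_zero_of_restrict_maximal (hf : LocFact X)
    [∀ x : X, PreservesFiniteLimits (EtCoh.pull (X.fromSpecStalk x))] (ξ : EtCoh.H X (EtCoh.Gm X) 2)
    (hξ : ∀ η ∈ genericPoints X, EtLim.HGmPull (X.fromSpecStalk η) 2 ξ = 0) : ξ = 0 := by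
  haveI := hf.isReduced
  classical
  letI := Fintype.ofFinite (Gen X)
  have hcomp : ∀ η : Gen X, ((ξ : Ext _ (EtCoh.Gm X) 2).comp (Ext.mk₀ (toGen X)) (add_zero 2)).comp
      (Ext.mk₀ (biproduct.π (fun η : Gen X => gmAt η.1) η)) (add_zero 2) = 0 := fun η => by
    letI : Field (X.presheaf.stalk η.1) :=
      (isField_stalk_of_closure_mem_irreducibleComponents X η.1 η.2).toField
    rw [Ext.comp_assoc_of_third_deg_zero, Ext.mk₀_comp_mk₀, biproduct.lift_π]
    exact (injective_iff_map_eq_zero _).1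
      ((GmPic.push_Gm_of_field (K := X.presheaf.stalk η.1) (X.fromSpecStalk η.1)).2) _ (hξ η.1 η.2)
  have h0 : (ξ : Ext _ (EtCoh.Gm X) 2).comp (Ext.mk₀ (toGen X)) (add_zero 2) = 0 := by
    rw [ext_eq_sum_components (fun η : Gen X => gmAt η.1) ((ξ : Ext _ (EtCoh.Gm X) 2).comp (Ext.mk₀ (toGen X)) (add_zero 2))]
    exact Finset.sum_eq_zero fun η _ => by rw [hcomp η, Ext.zero_comp]
  have hS : (ShortComplex.mk (toGen X) (cokernel.π _) (cokernel.condition _)).ShortExact :=
    CohFin.cokerSeq_shortExact' (toGen X)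
  obtain ⟨y, rfl⟩ := Ext.covariant_sequence_exact₁ _ hS ξ h0 (n₀ := 1) rfl
  haveI := subsingleton_H_one_gmQ hf
  rw [Subsingleton.elim (α := EtCoh.H X (gmQ X) 1) y 0]
  exact Ext.zero_comp _ _ _ _ _

end Groth.FieldPush
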