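import Groth.Agent.EtPbc.GmDivisor
import Mathlib.RingTheory.Unramified.LocalRing
import Mathlib.AlgebraicGeometry.Morphisms.FormallyUnramified

/-!
# Sections attached to prime elements, and their behaviour on étale neighbourhoods
-/

set_option autoImplicit false
set_option backward.isDefEq.respectTransparency.types false
set_option linter.style.haveILetI false
set_option linter.unusedSectionVars false
set_option maxHeartbeats 1000000

universe u

open CategoryTheory CategoryTheory.Limits CategoryTheory.Abelian AlgebraicGeometry Opposite TopologicalSpace IsLocalRing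

namespace Groth.FieldPush

open Groth.EtaleBase Groth.EtaleBase.LocConst Groth.EtaleBase.GmPic Groth.EtaleBase.SitePt Groth.EtaleDeep.Cons

variable {X : Scheme.{u}} (V : X.Etale)

/-- The whole scheme as an open piece of itself. -/
noncomputable def toTopObj : V ⟶ openObj V ⊤ :=
  MorphismProperty.Over.homMk V.left.topIso.inv ((Category.assoc _ _ _).symm.trans
    ((congrArg (· ≫ V.hom) V.left.topIso.inv_hom_id).trans (Category.id_comp _)))

theorem toTopObj_openHom : toTopObj V ≫ openHom V ⊤ = 𝟙 V :=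
  MorphismProperty.Over.Hom.ext V.left.topIso.inv_hom_id

theorem openHom_toTopObj : openHom V ⊤ ≫ toTopObj V = 𝟙 (openObj V ⊤) :=
  MorphismProperty.Over.Hom.ext V.left.topIso.hom_inv_id

variable [IsReduced X] [IsNoetherian X]

theorem lu_mul (O : V.left.Opens) (u₁ u₂ : (Γ(V.left, O) : Type u)ˣ) :
    lu V O (u₁ * u₂) = lu V O u₁ + lu V O u₂ := by
  rw [lu, map_mul, gm_mul, map_add]
  rfl

theorem lu_one (O : V.left.Opens) : lu V O 1 = 0 := by
  have h := lu_mul V O 1 1
  rw [one_mul] at h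
  exact left_eq_add.1 h

theorem lu_inv (O : V.left.Opens) (u : (Γ(V.left, O) : Type u)ˣ) : lu V O u⁻¹ = -lu V O u := by
  refine eq_neg_of_add_eq_zero_left ?_
  rw [← lu_mul, inv_mul_cancel, lu_one]

variable {V}

/-- Fractions add. -/
theorem Rep.add {e₁ e₂ : (gmGen X).obj.obj (op V)} {N : V.left.Opens} {a₁ b₁ a₂ b₂ : Γ(V.left, N)}
    (h₁ : Rep V e₁ N a₁ b₁) (h₂ : Rep V e₂ N a₂ b₂) : Rep V (e₁ + e₂) N (a₁ * a₂) (b₁ * b₂) := by
  obtain ⟨O₁, hO₁, hg₁, hb₁, u₁, hu₁, he₁⟩ := h₁
  obtain ⟨O₂, hO₂, hg₂, hb₂, u₂, hu₂, he₂⟩ := h₂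
  let r₁ := (V.left.presheaf.map (homOfLE (inf_le_left : O₁ ⊓ O₂ ≤ O₁)).op).hom
  let r₂ := (V.left.presheaf.map (homOfLE (inf_le_right : O₁ ⊓ O₂ ≤ O₂)).op).hom
  refine ⟨O₁ ⊓ O₂, inf_le_left.trans hO₁, fun w hw hg => ⟨hg₁ w hw hg, hg₂ w hw hg⟩, ?_,
    Units.map r₁.toMonoidHom u₁ * Units.map r₂.toMonoidHom u₂, ?_, ?_⟩
  · rw [map_mul]
    refine IsUnit.mul ?_ ?_
    · rw [← res_res V inf_le_left hO₁]; exact hb₁.map r₁
    · rw [show V.left.presheaf.map (homOfLE (inf_le_left.trans hO₁)).op b₂ =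
          r₂ (V.left.presheaf.map (homOfLE hO₂).op b₂) from (res_res V inf_le_right hO₂ b₂).symm]
      exact hb₂.map r₂
  · have e1 := congrArg r₁ hu₁
    have e2 := congrArg r₂ hu₂
    simp only [r₁, r₂, map_mul, res_res] at e1 e2
    rw [map_mul, map_mul, Units.val_mul, ← e1, ← e2]
    simp only [r₁, r₂, Units.coe_map, RingHom.toMonoidHom_eq_coe, MonoidHom.coe_coe]
    ring
  · rw [lu_mul, map_add]
    congr 1
    · rw [← lu_res V inf_le_left u₁, he₁, map_oh_openHom]
    · rw [← lu_res V inf_le_right u₂, he₂, map_oh_openHom]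

/-- Fractions invert. -/
theorem Rep.neg {e : (gmGen X).obj.obj (op V)} {N : V.left.Opens} {a b : Γ(V.left, N)}
    (h : Rep V e N a b) : Rep V (-e) N b a := by
  obtain ⟨O, hO, hg, hb, u, hu, he⟩ := h
  refine ⟨O, hO, hg, hu ▸ u.isUnit.mul hb, u⁻¹, ?_, by rw [lu_inv, he, map_neg]⟩
  rw [← hu, ← mul_assoc, Units.inv_mul, one_mul]

/-- The zero section is the fraction `1 / 1`. -/
theorem Rep.zero (N : V.left.Opens) : Rep V (0 : (gmGen X).obj.obj (op V)) N 1 1 :=
  ⟨N, le_rfl, fun _ hw _ => hw, by rw [map_one]; exact isUnit_one, 1,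
    by rw [map_one, Units.val_one, one_mul], by rw [lu_one, map_zero]⟩

/-- Multiples of fractions. -/
theorem Rep.nsmul {e : (gmGen X).obj.obj (op V)} {N : V.left.Opens} {a b : Γ(V.left, N)}
    (h : Rep V e N a b) (k : ℕ) : Rep V (k • e) N (a ^ k) (b ^ k) := by
  induction k with
  | zero => rw [zero_nsmul, pow_zero, pow_zero]; exact Rep.zero N
  | succ k ih => rw [succ_nsmul, pow_succ, pow_succ]; exact ih.add h

/-- The lift of a morphism to open pieces. -/
noncomputable def pre {T : X.Etale} (g : T ⟶ V) (O : V.left.Opens) : openObj T (g.left ⁻¹ᵁ O) ⟶ openObj V O :=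
  MorphismProperty.Over.homMk (g.left ∣_ O) (by
    show (g.left ∣_ O) ≫ O.ι ≫ V.hom = (g.left ⁻¹ᵁ O).ι ≫ T.hom
    rw [← Category.assoc, morphismRestrict_ι, Category.assoc]
    exact congrArg (_ ≫ ·) (MorphismProperty.Over.w g))

theorem pre_openHom {T : X.Etale} (g : T ⟶ V) (O : V.left.Opens) :
    pre g O ≫ openHom V O = openHom T (g.left ⁻¹ᵁ O) ≫ g :=
  MorphismProperty.Over.Hom.ext (morphismRestrict_ι g.left O)

theorem morphismRestrict_appTop {A B : Scheme.{u}} (f : A ⟶ B) (O : B.Opens) :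
    O.topIso.inv ≫ (f ∣_ O).appTop = f.app O ≫ (f ⁻¹ᵁ O).topIso.inv := by
  rw [Scheme.Hom.appTop, morphismRestrict_app, Scheme.Opens.topIso_inv, Scheme.Opens.topIso_inv]
  refine (Category.assoc _ _ _).symm.trans ((congrArg (· ≫ _) (f.naturality _)).trans
    ((Category.assoc _ _ _).trans (congrArg (f.app O ≫ ·) ?_)))
  exact (A.presheaf.map_comp _ _).symm.trans (congrArg A.presheaf.map (Subsingleton.elim _ _))

theorem toU_pre {T : X.Etale} (g : T ⟶ V) (O : V.left.Opens) (a : Γ(V.left, O)) :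
    (pre g O).left.appTop (toU V O a) = toU T (g.left ⁻¹ᵁ O) (g.left.app O a) :=
  ConcreteCategory.congr_hom (morphismRestrict_appTop (g.left : T.left ⟶ V.left) O) a

theorem lu_pre {T : X.Etale} (g : T ⟶ V) (O : V.left.Opens) (u : (Γ(V.left, O) : Type u)ˣ) :
    (gmGen X).obj.map (pre g O).op (lu V O u) =
      lu T (g.left ⁻¹ᵁ O) (Units.map (g.left.app O).hom.toMonoidHom u) := by
  rw [lu, ← NatTrans.naturality_apply, gm_map]
  exact congrArg (fun w => (toGen X).hom.app _ (gm _ w)) (Units.ext (toU_pre g O u))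

/-- Fractions pull back along morphisms of étale schemes. -/
theorem Rep.pull {e : (gmGen X).obj.obj (op V)} {N : V.left.Opens} {a b : Γ(V.left, N)}
    (h : Rep V e N a b) {T : X.Etale} (g : T ⟶ V) :
    Rep T ((gmGen X).obj.map g.op e) (g.left ⁻¹ᵁ N) (g.left.app N a) (g.left.app N b) := by
  obtain ⟨O, hO, hg, hb, u, hu, he⟩ := h
  have hnat : ∀ x : Γ(V.left, N), T.left.presheaf.map (homOfLE (g.left.preimage_mono hO)).op (g.left.app N x) =
      g.left.app O (V.left.presheaf.map (homOfLE hO).op x) := fun x =>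
    (ConcreteCategory.congr_hom (g.left.naturality (homOfLE hO).op) x).symm
  refine ⟨g.left ⁻¹ᵁ O, g.left.preimage_mono hO, fun w hw hw' => hg _ hw ?_, ?_,
    Units.map (g.left.app O).hom.toMonoidHom u, ?_, ?_⟩
  · have : T.hom.base w = V.hom.base (g.left.base w) :=
      (congrArg (fun m : T.left ⟶ X => m.base w) (MorphismProperty.Over.w g)).symm
    exact this ▸ hw'
  · rw [hnat]; exact hb.map (g.left.app O).hom
  · rw [hnat, hnat, ← hu, map_mul]; rfl
  · rw [← lu_pre, he, ← ConcreteCategory.comp_apply, ← ConcreteCategory.comp_apply, ← Functor.map_comp,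
      ← Functor.map_comp, ← op_comp, ← op_comp, pre_openHom]

/-- Pulling back vanishing of classes. -/
theorem van_pull {e : (gmGen X).obj.obj (op V)} {T : X.Etale} (g : T ⟶ V) (t : T.left) :
    Van T ((gmGen X).obj.map g.op e) t ↔ Van V e (g.left.base t) := by
  obtain ⟨s, hs⟩ := exists_geomPoint_lift T t
  show t ∈ vanishSet _ _ _ ↔ g.left.base t ∈ vanishSet _ _ _
  rw [cls_res, ← hs, ← fiberPoint_map, ← germ_eq_zero_iff_mem, ← germ_eq_zero_iff_mem, germ_res]

section Prime

variable (V) (z : V.left) [IsDomain (V.left.presheaf.stalk z)]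
  (huniq : ∀ w : V.left, V.hom.base w ∈ genericPoints X → w = gz V z)

include huniq

/-- A nonzero germ at `z` gives a section of the generic direct image. -/
theorem exists_section_of_germ {N : V.left.Opens} (hz : z ∈ N) (a : Γ(V.left, N))
    (ha : V.left.presheaf.germ N z hz a ≠ 0) :
    ∃ e : (gmGen X).obj.obj (op V), Rep V e N a 1 := by
  let O := V.left.basicOpen a
  have hgO : gz V z ∈ O := (mem_basicOpen_pt hz a _).2 fun h => ha (Ideal.mem_bot.1 h)
  have hgen : GenIn V ⊤ O := fun w _ hw => (huniq w hw).symm ▸ hgO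
  have hu := V.left.toRingedSpace.isUnit_res_basicOpen a
  obtain ⟨y, hy⟩ := (gmGen_res_bijective V (le_top : O ≤ ⊤) hgen).2 (lu V O hu.unit)
  refine ⟨(gmGen X).obj.map (toTopObj V).op y, O, V.left.basicOpen_le a,
    fun w _ hw => (huniq w hw).symm ▸ hgO, by rw [map_one]; exact isUnit_one, hu.unit, ?_, ?_⟩
  · rw [map_one, mul_one, IsUnit.unit_spec]
    rfl
  · rw [← hy, ← ConcreteCategory.comp_apply ((gmGen X).obj.map (toTopObj V).op), ← Functor.map_comp,
      ← op_comp]
    congr 3
    rw [← oh_openHom V (le_top : O ≤ ⊤), Category.assoc, openHom_toTopObj, Category.comp_id]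

end Prime

section Uniformizer

variable [∀ v : V.left, IsDomain (V.left.presheaf.stalk v)]
  [∀ v : V.left, UniqueFactorizationMonoid (V.left.presheaf.stalk v)]

/-- A prime element at `z` generates the maximal ideal at its point. -/
theorem maximalIdeal_eq_span {z : V.left} {π : V.left.presheaf.stalk z} (hπ : Prime π) {N : V.left.Opens}
    (hz : z ∈ N) (a : Γ(V.left, N)) (ha : V.left.presheaf.germ N z hz a = π) (hvN : ptp V z hπ ∈ N) :
    maximalIdeal (V.left.presheaf.stalk (ptp V z hπ)) =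
      Ideal.span {V.left.presheaf.germ N (ptp V z hπ) hvN a} := by
  obtain ⟨_, ⟨W, hW, rfl⟩, hzW, -⟩ :=
    V.left.isBasis_affineOpens.exists_subset_of_mem_open (Set.mem_univ z) isOpen_univ
  have hv : ptp V z hπ ∈ W := (pt_specializes z _).mem_open W.2 hzW
  haveI := hW.isLocalization_stalk ⟨ptp V z hπ, hv⟩
  letI := V.left.presheaf.algebra_section_stalk (⟨ptp V z hπ, hv⟩ : ↥W)
  refine le_antisymm (fun x hx => ?_) ((Ideal.span_singleton_le_iff_mem _).2 ((mem_maximalIdeal _).2 ?_))
  · obtain ⟨⟨c, s⟩, hcs⟩ := IsLocalization.surj (hW.primeIdealOf ⟨ptp V z hπ, hv⟩).asIdeal.primeCompl x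
    have hs := IsLocalization.map_units (V.left.presheaf.stalk (ptp V z hπ)) s
    have hcm : ¬ IsUnit (V.left.presheaf.germ W (ptp V z hπ) hv c) := by
      rw [show V.left.presheaf.germ W (ptp V z hπ) hv c = _ from hcs.symm]
      exact fun h => (mem_maximalIdeal _).1 hx (isUnit_of_mul_isUnit_left h)
    rw [← Scheme.mem_basicOpen, mem_basicOpen_pt hzW, not_not, Ideal.mem_span_singleton] at hcm
    obtain ⟨r, hr⟩ := hcm
    rw [Ideal.mem_span_singleton]
    refine hs.dvd_mul_right.1 ?_
    rw [hcs]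
    refine ⟨(V.left.presheaf.stalkSpecializes (pt_specializes z _ : ptp V z hπ ⤳ z)).hom r, ?_⟩
    have h1 := congrArg (V.left.presheaf.stalkSpecializes (pt_specializes z _ : ptp V z hπ ⤳ z)).hom hr
    rw [map_mul] at h1
    refine Eq.trans ?_ (h1.trans (congrArg (· * _) ((congrArg _ ha.symm).trans ?_)))
    · exact (ConcreteCategory.congr_hom (V.left.presheaf.germ_stalkSpecializes hzW _) c).symm
    · exact ConcreteCategory.congr_hom (V.left.presheaf.germ_stalkSpecializes hz _) a
  · rw [mem_nonunits_iff, ← Scheme.mem_basicOpen, mem_basicOpen_pt hz, not_not, ha, Ideal.mem_span_singleton]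

end Uniformizer

/-- A generator of the maximal ideal stays one on étale neighbourhoods. -/
theorem maximalIdeal_eq_span_map {T : X.Etale} (g : T ⟶ V) (t : T.left)
    {p : V.left.presheaf.stalk (g.left.base t)} (hp : maximalIdeal (V.left.presheaf.stalk (g.left.base t)) = Ideal.span {p}) :
    maximalIdeal (T.left.presheaf.stalk t) = Ideal.span {(g.left.stalkMap t).hom p} := by
  haveI : Etale g.left := MorphismProperty.of_postcomp @Etale g.left V.hom V.prop
    (by rw [MorphismProperty.Over.w]; exact T.prop)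
  have hunr := FormallyUnramified.stalkMap g.left t
  have hft := LocallyOfFiniteType.stalkMap g.left t
  have hloc : IsLocalHom (g.left.stalkMap t).hom := inferInstance
  algebraize [(g.left.stalkMap t).hom]
  have : IsLocalHom (algebraMap (V.left.presheaf.stalk (g.left.base t)) (T.left.presheaf.stalk t)) := hloc
  have : Algebra.EssFiniteType (V.left.presheaf.stalk (g.left.base t)) (T.left.presheaf.stalk t) :=
    RingHom.essFiniteType_algebraMap.1 hft
  have : Algebra.FormallyUnramified (V.left.presheaf.stalk (g.left.base t)) (T.left.presheaf.stalk t) :=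
    RingHom.formallyUnramified_algebraMap.1 hunr
  rw [← Algebra.FormallyUnramified.map_maximalIdeal (R := V.left.presheaf.stalk (g.left.base t)), hp,
    Ideal.map_span, Set.image_singleton]
  rfl

/-- Where the maximal ideal is generated by `p`, nonzero elements are powers of `p` times units. -/
theorem exists_pow_mul_unit {R : Type u} [CommRing R] [IsDomain R] [IsLocalRing R] [WfDvdMonoid R] {p : R}
    (hp : maximalIdeal R = Ideal.span {p}) (hp0 : p ≠ 0) {x : R} (hx : x ≠ 0) :
    ∃ (k : ℕ) (c : R), IsUnit c ∧ x = p ^ k * c := by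
  have hnu : ¬ IsUnit p := (mem_maximalIdeal p).1 (hp ▸ Ideal.mem_span_singleton_self p)
  obtain ⟨k, c, hc, rfl⟩ := WfDvdMonoid.max_power_factor hx (show Irreducible p from by
    refine ⟨hnu, fun a b hab => ?_⟩
    by_contra hcon
    push Not at hcon
    obtain ⟨r, hr⟩ := Ideal.mem_span_singleton.1 (hp ▸ (mem_maximalIdeal a).2 hcon.1)
    obtain ⟨s, hs⟩ := Ideal.mem_span_singleton.1 (hp ▸ (mem_maximalIdeal b).2 hcon.2)
    refine hnu (isUnit_of_mul_isUnit_left (y := r * s) ?_)
    have : p * 1 = p * (p * (r * s)) := by rw [mul_one]; calc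
      p = a * b := hab
      _ = p * (p * (r * s)) := by rw [hr, hs]; ring
    rw [← mul_left_cancel₀ hp0 this]
    exact isUnit_one)
  refine ⟨k, c, ?_, rfl⟩
  by_contra h
  exact hc (Ideal.mem_span_singleton.1 (hp ▸ (mem_maximalIdeal c).2 h))

end Groth.FieldPush
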