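import Groth.Agent.EtPbc.GmDivisorColim

/-!
# The parts of the divisor sheaf are sums of direct images from divisorial points
-/

set_option autoImplicit false
set_option backward.isDefEq.respectTransparency.types false
set_option linter.style.haveILetI false
set_option linter.unusedSectionVars false
set_option maxHeartbeats 1000000

universe u

open CategoryTheory CategoryTheory.Limits CategoryTheory.Abelian AlgebraicGeometry Opposite TopologicalSpace

namespace Groth.FieldPush

open Groth.EtaleBase Groth.EtaleBase.LocConst Groth.EtaleBase.GmPic Groth.EtaleBase.SitePt Groth.EtaleDeep.Cons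
  Groth.EtPbc.PointSupp

variable {X : Scheme.{u}}

/-- Sections of a finite sum are determined by their components. -/
theorem sections_biproduct_ext {ι : Type u} [Finite ι] (Φ : ι → EtCoh.Ab X) {V : X.Etale}
    (a b : (⨁ Φ).obj.obj (op V))
    (h : ∀ i, (biproduct.π Φ i).hom.app (op V) a = (biproduct.π Φ i).hom.app (op V) b) : a = b := by
  classical
  letI := Fintype.ofFinite ι
  let ev : EtCoh.Ab X ⥤ AddCommGrpCat.{u + 1} :=
    sheafToPresheaf X.smallEtaleTopology AddCommGrpCat.{u + 1} ⋙ (evaluation _ AddCommGrpCat.{u + 1}).obj (op V)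
  haveI : ev.Additive := ⟨fun {_ _ _ _} => rfl⟩
  have key : ∀ x : ev.obj (⨁ Φ), x = ∑ i, ev.map (biproduct.ι Φ i) (ev.map (biproduct.π Φ i) x) := fun x => by
    have h0 : x = (ev.map (∑ i, biproduct.π Φ i ≫ biproduct.ι Φ i)) x := by
      rw [show (∑ i, biproduct.π Φ i ≫ biproduct.ι Φ i) = 𝟙 _ from
          IsBilimit.total (biproduct.isBilimit Φ), CategoryTheory.Functor.map_id]
      rfl
    refine h0.trans ?_
    rw [Functor.map_sum]
    refine Eq.trans ?_ (Finset.sum_congr rfl fun i _ =>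
      (ConcreteCategory.congr_hom (ev.map_comp (biproduct.π Φ i) (biproduct.ι Φ i)) x).trans
        (ConcreteCategory.comp_apply _ _ x))
    generalize (Finset.univ : Finset ι) = T
    induction T using Finset.induction with
    | empty => rfl
    | insert i T hi ih =>
      rw [Finset.sum_insert hi, Finset.sum_insert hi, ← ih]
      rfl
  refine (key a).trans ((Finset.sum_congr rfl fun i _ => congrArg _ (h i)).trans (key b).symm)

/-- A section of an inverse image along a preimmersion is compared on germs at lifts of points. -/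
theorem unit_eq_of_germs (G : EtCoh.Ab X) {S : Scheme.{u}} (i : S ⟶ X) [IsPreimmersion i] (V : X.Etale)
    (N : V.left.Opens) (γ : G.obj.obj (op (openObj V N)))
    (τ : ((EtCoh.pull i).obj G).obj.obj (op ((EtCoh.bc i).obj V)))
    {Ω : Type u} [Field Ω] [IsSepClosed Ω] (ξ : Spec (CommRingCat.of Ω) ⟶ S)
    (h : ∀ n ∈ N, V.hom.base n ∈ Set.range i.base →
      ∃ s : (Scheme.pointSmallEtale (ξ ≫ i)).fiber.obj V, fiberPoint (ξ ≫ i) s = n ∧
        ∀ sN, (Scheme.pointSmallEtale (ξ ≫ i)).fiber.map (openHom V N) sN = s →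
          germ (ξ ≫ i) G (openObj V N) sN γ = (stalkPullIso i ξ).inv.app G
            (germ ξ ((EtCoh.pull i).obj G) ((EtCoh.bc i).obj V) (pushLift i ξ rfl V s) τ)) :
    ((EtCoh.pullPushAdj i).unit.app G).hom.app (op (openObj V N)) γ =
      ((EtCoh.pull i).obj G).obj.map ((EtCoh.bc i).map (openHom V N)).op τ := by
  let L : ((EtCoh.pull i).obj G).obj.obj (op ((EtCoh.bc i).obj (openObj V N))) :=
    ((EtCoh.pullPushAdj i).unit.app G).hom.app (op (openObj V N)) γ
  show L = ((EtCoh.pull i).obj G).obj.map ((EtCoh.bc i).map (openHom V N)).op τ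
  refine sub_eq_zero.1 (section_eq_zero_of_germs ((EtCoh.pull i).obj G) ((EtCoh.bc i).obj (openObj V N))
    (L - ((EtCoh.pull i).obj G).obj.map ((EtCoh.bc i).map (openHom V N)).op τ) fun p' => ?_)
  let fN : pullback (openObj V N).hom i ⟶ (openObj V N).left := pullback.fst _ _
  obtain ⟨s, hs, hsγ⟩ := h _ (show ↥N from fN.base p').2
    ⟨(pullback.snd (openObj V N).hom i).base p', (congrArg (fun m : pullback (openObj V N).hom i ⟶ X => m.base p')
      (pullback.condition (f := (openObj V N).hom) (g := i))).symm⟩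
  obtain ⟨sN, hsN⟩ := exists_lift_open (ξ ≫ i) N s (by rw [hs]; exact (show ↥N from fN.base p').2)
  let t'' := pushLift i ξ rfl (openObj V N) sN
  have hpt : fiberPoint ξ t'' = p' := by
    haveI : IsPreimmersion fN := MorphismProperty.pullback_fst _ _ inferInstance
    refine fN.isEmbedding.injective (N.ι.isOpenEmbedding.injective ?_)
    refine Eq.trans ?_ (((fiberPoint_map (ξ ≫ i) (openHom V N) sN).symm.trans
      (congrArg (fiberPoint (ξ ≫ i)) hsN)).trans hs)
    refine congrArg N.ι.base ?_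
    exact congrArg (fun m : Spec (CommRingCat.of Ω) ⟶ (openObj V N).left => m.base default)
      (pushLift_fst i ξ rfl (openObj V N) sN)
  have hgerm : germ ξ ((EtCoh.pull i).obj G) ((EtCoh.bc i).obj (openObj V N)) t''
      (L -
        ((EtCoh.pull i).obj G).obj.map ((EtCoh.bc i).map (openHom V N)).op τ) = 0 := by
    rw [map_sub, show germ ξ _ _ t'' L = _ from (stalkPullIso_germ i ξ G (openObj V N) sN γ).symm, germ_res, pushLift_map, hsN, sub_eq_zero,
      hsγ sN hsN]
    exact ConcreteCategory.congr_hom ((stalkPullIso i ξ).inv_hom_id_app G) _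
  obtain ⟨W', g', ⟨w', hw'⟩, hz'⟩ := (germ_eq_zero_iff_mem _ _ _ _ t'').1 hgerm
  exact ⟨W', g', ⟨w', hw'.trans hpt⟩, hz'⟩

variable [IsReduced X] [IsNoetherian X]

omit [AlgebraicGeometry.IsReduced X] in
/-- Near `z`, the points over a finite set specialize to `z`. -/
theorem exists_affine_over (V : X.Etale) (z : V.left) {S₀ : Set X} (hS₀ : S₀.Finite) :
    ∃ W : V.left.affineOpens, z ∈ W.1 ∧ ∀ w ∈ W.1, V.hom.base w ∈ S₀ → w ⤳ z := by
  haveI : Etale V.hom := V.prop
  let g : V.left ⟶ X := V.hom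
  haveI : LocallyOfFiniteType g := inferInstanceAs (LocallyOfFiniteType V.hom)
  obtain ⟨_, ⟨(W₀ : V.left.Opens), hW₀, rfl⟩, hzW₀, -⟩ :=
    V.left.isBasis_affineOpens.exists_subset_of_mem_open (Set.mem_univ z) isOpen_univ
  have hfib : ∀ x : X, ((W₀ : Set V.left) ∩ g.base ⁻¹' {x}).Finite := fun x => by
    haveI : QuasiCompact (W₀.ι ≫ g) := by
      haveI : IsAffine (W₀ : Scheme.{u}) := hW₀
      haveI : QuasiCompact ((W₀.ι ≫ g) ≫ terminal.from X) := by rw [terminal.comp_from]; infer_instance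
      exact QuasiCompact.of_comp (W₀.ι ≫ g) (terminal.from X)
    haveI : LocallyQuasiFinite (W₀.ι ≫ g) :=
      locallyQuasiFinite_of_formallyUnramified (W₀.ι ≫ g)
    refine ((Scheme.Hom.finite_preimage_singleton (W₀.ι ≫ g) x).image W₀.ι.base).subset ?_
    rintro w ⟨hw, hwx⟩
    exact ⟨⟨w, hw⟩, hwx, rfl⟩
  let S : Set V.left := {w | w ∈ W₀ ∧ V.hom.base w ∈ S₀ ∧ ¬ w ⤳ z}
  have hS : S.Finite := (hS₀.biUnion fun x _ => hfib x).subset fun w hw =>
    Set.mem_biUnion hw.2.1 ⟨hw.1, rfl⟩
  let C : Set V.left := ⋃ w ∈ S, closure {w}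
  have hC : IsClosed C := hS.isClosed_biUnion fun _ _ => isClosed_closure
  have hzC : z ∉ C := fun h => by
    obtain ⟨w, hw, h'⟩ := Set.mem_iUnion₂.1 h
    exact hw.2.2 (specializes_iff_mem_closure.2 h')
  obtain ⟨_, ⟨W, hW, rfl⟩, hzW, hWsub⟩ := V.left.isBasis_affineOpens.exists_subset_of_mem_open
    (show z ∈ (W₀ : Set V.left) ∩ Cᶜ from ⟨hzW₀, hzC⟩) (W₀.2.inter hC.isOpen_compl)
  refine ⟨⟨W, hW⟩, hzW, fun w hw hg => ?_⟩
  by_contra h
  exact (hWsub hw).2 (Set.mem_biUnion (show w ∈ S from ⟨(hWsub hw).1, hg, h⟩) (subset_closure rfl))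

/-- The section of a prime vanishes at the other divisorial points. -/
theorem van_of_ne (V : X.Etale) (z : V.left) [IsDomain (V.left.presheaf.stalk z)]
    [UniqueFactorizationMonoid (V.left.presheaf.stalk z)] {π : V.left.presheaf.stalk z} (hπ : Prime π)
    {N : V.left.Opens} (hz : z ∈ N) (a : Γ(V.left, N)) (ha : V.left.presheaf.germ N z hz a = π)
    {e : (gmGen X).obj.obj (op V)} (hrep : Rep V e N a 1) {v : V.left} (hv : v ⤳ z)
    (hd : IsDivPt (V.hom.base v)) (hne : v ≠ ptp V z hπ) : Van V e v := by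
  have hvN : v ∈ N := hv.mem_open N.2 hz
  obtain ⟨π', hπ', rfl⟩ := exists_prime_of_isDivPt V z hv hd
  refine (van_iff V hrep hvN).2 ⟨_, ?_, by rw [map_one, mul_one]⟩
  rw [← Scheme.mem_basicOpen, mem_basicOpen_pt hz, ha]
  intro h
  have heq : Ideal.span {π'} = Ideal.span {π} :=
    Ideal.span_singleton_eq_span_singleton.2 (hπ'.associated_of_dvd hπ (Ideal.mem_span_singleton.1 h))
  exact hne (congrArg (pt z) (PrimeSpectrum.ext heq))

/-- Germs of the quotient at a divisorial point are multiples of the germ of its prime. -/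
theorem exists_germ_eq_zsmul (hf : LocFact X) (V : X.Etale) (z : V.left)
    [IsDomain (V.left.presheaf.stalk z)] [UniqueFactorizationMonoid (V.left.presheaf.stalk z)]
    {π : V.left.presheaf.stalk z} (hπ : Prime π)
    {N : V.left.Opens} (hz : z ∈ N) (a : Γ(V.left, N)) (ha : V.left.presheaf.germ N z hz a = π)
    {e : (gmGen X).obj.obj (op V)} (hrep : Rep V e N a 1)
    {Ω : Type u} [Field Ω] [IsSepClosed Ω] (η : Spec (CommRingCat.of Ω) ⟶ X)
    (s : (Scheme.pointSmallEtale η).fiber.obj V) (hs : fiberPoint η s = ptp V z hπ)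
    (y : (EtCoh.stalk η).obj (gmQ X)) : ∃ k : ℤ, y = k • germ η (gmQ X) V s (cls V e) := by
  haveI : ∀ v : V.left, IsDomain (V.left.presheaf.stalk v) := fun v => (hf V v).1
  haveI : ∀ v : V.left, UniqueFactorizationMonoid (V.left.presheaf.stalk v) := fun v => (hf V v).2
  obtain ⟨W, g, w, σ', hw, rfl⟩ := exists_rep_over η (gmQ X) V s y
  obtain ⟨T, g', t, e', ht, he'⟩ := exists_local_lift W σ' (fiberPoint η w)
  obtain ⟨s', hs', hs''⟩ := exists_fiber_lift η g' w t ht
  subst hs''
  haveI := (hf T (fiberPoint η s')).1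
  haveI := (hf T (fiberPoint η s')).2
  have hmap : (Scheme.pointSmallEtale η).fiber.map (g' ≫ g) s' = s := by
    rw [Functor.map_comp, ConcreteCategory.comp_apply, hs', hw]
  have hgt : (g' ≫ g).left.base (fiberPoint η s') = ptp V z hπ := by rw [← fiberPoint_map, hmap, hs]
  have htN : (g' ≫ g).left.base (fiberPoint η s') ∈ N :=
    hgt.symm ▸ (pt_specializes z _).mem_open N.2 hz
  have key : ∀ (v' : V.left) (_ : v' = ptp V z hπ) (hv' : v' ∈ N),
      IsLocalRing.maximalIdeal (V.left.presheaf.stalk v') = Ideal.span {V.left.presheaf.germ N v' hv' a} := by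
    rintro _ rfl hv'
    exact maximalIdeal_eq_span hπ hz a ha hv'
  have hp := maximalIdeal_eq_span_map (g' ≫ g) (fiberPoint η s') (key _ hgt htN)
  rw [Scheme.Hom.germ_stalkMap_apply] at hp
  have hrepT := hrep.pull (g' ≫ g)
  obtain ⟨hp0, -⟩ := hrepT.germ_ne_zero T (fiberPoint η s') htN
  obtain ⟨N', hN', a', b', hrep'⟩ := exists_rep T (fiberPoint η s') e'
  obtain ⟨ha', hb'⟩ := hrep'.germ_ne_zero T (fiberPoint η s') hN'
  obtain ⟨i, c₁, hc₁, hi⟩ := exists_pow_mul_unit hp hp0 ha'
  obtain ⟨j, c₂, hc₂, hj⟩ := exists_pow_mul_unit hp hp0 hb'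
  let M := N' ⊓ ((g' ≫ g).left ⁻¹ᵁ N)
  have hM : fiberPoint η s' ∈ M := ⟨hN', htN⟩
  have hT := hrepT.res T (inf_le_right : M ≤ (g' ≫ g).left ⁻¹ᵁ N)
  have R := (hrep'.res T (inf_le_left : M ≤ N')).add ((hT.nsmul j).add (hT.nsmul i).neg)
  have hvan := (van_iff T R hM).2 ⟨c₁ * (hc₂.unit⁻¹ : _ˣ), hc₁.mul (hc₂.unit⁻¹).isUnit, by
    simp only [map_mul, map_pow, TopCat.Presheaf.germ_res_apply, map_one, one_pow, mul_one, one_mul]
    rw [hi, hj]
    linear_combination ((T.left.presheaf.germ ((g' ≫ g).left ⁻¹ᵁ N) (fiberPoint η s') htN)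
        ((g' ≫ g).left.app N a) ^ i * c₁ *
      (T.left.presheaf.germ ((g' ≫ g).left ⁻¹ᵁ N) (fiberPoint η s') htN)
        ((g' ≫ g).left.app N a) ^ j) * IsUnit.val_inv_mul hc₂⟩
  let ψ : ((gmGen X).obj.obj (op T) : Type (u + 1)) →+ (EtCoh.stalk η).obj (gmQ X) :=
    (germ η (gmQ X) T s').hom.comp ((cokernel.π (toGen X)).hom.app (op T)).hom
  have h0 : ψ (e' + (j • (gmGen X).obj.map (g' ≫ g).op e + -(i • (gmGen X).obj.map (g' ≫ g).op e))) = 0 :=
    (germ_eq_zero_iff_mem η (gmQ X) T _ s').2 hvan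
  have h1 : ψ ((gmGen X).obj.map (g' ≫ g).op e) = germ η (gmQ X) V s (cls V e) :=
    (congrArg (germ η (gmQ X) T s') (cls_res V (g' ≫ g) e)).trans
      ((germ_res η (gmQ X) (g' ≫ g) s' _).trans (by rw [hmap]))
  have h2 : ψ e' = germ η (gmQ X) W w σ' :=
    (congrArg (germ η (gmQ X) T s') he').trans ((germ_res η (gmQ X) g' s' _).trans (by rw [hs']))
  rw [map_add, map_add, map_neg, map_nsmul, map_nsmul, h1, h2] at h0
  refine ⟨(i : ℤ) - (j : ℤ), ?_⟩
  rw [sub_smul, natCast_zsmul, natCast_zsmul, eq_neg_of_add_eq_zero_left h0]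
  abel

variable (T : DivIdx X)

/-- The summand of a divisorial point. -/
noncomputable abbrev summand (x : {x : X // IsDivPt x}) : EtCoh.Ab X :=
  (EtCoh.push (X.fromSpecResidueField x.1)).obj
    ((EtCoh.pull (X.fromSpecResidueField x.1)).obj (suppPart (closD T) (gmQ X)))

/-- The map to the sum of direct images. -/
noncomputable abbrev toSum : suppPart (closD T) (gmQ X) ⟶ ⨁ fun x : ↥T => summand T x.1 :=
  biproduct.lift fun x : ↥T =>
    (EtCoh.pullPushAdj (X.fromSpecResidueField x.1.1)).unit.app (suppPart (closD T) (gmQ X))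

omit [AlgebraicGeometry.IsReduced X] [AlgebraicGeometry.IsNoetherian X] in
theorem mem_range_fst_residueField (V : X.Etale) {x : X} {v : V.left} (hv : V.hom.base v = x) :
    v ∈ Set.range (pullback.fst V.hom (X.fromSpecResidueField x)).base := by
  rw [Scheme.Pullback.range_fst, Set.mem_preimage, Scheme.range_fromSpecResidueField]
  exact hv

theorem mono_toSum (hf : LocFact X) : Mono (toSum T) := by
  refine Sheaf.mono_of_injective _ fun U => ?_
  rw [injective_iff_map_eq_zero]
  intro γ hγ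
  refine mono_sections_injective (kernel.ι (unitCompl (closD T) (gmQ X))) U.unop (Eq.trans ?_ (map_zero _).symm)
  refine eq_zero_of_divPts hf U.unop _ fun d hd => mem_vanishSet_app (kernel.ι _) U.unop γ ?_
  by_cases hT : U.unop.hom.base d ∈ (closD T : Set X)
  · obtain ⟨y, hy, hyd⟩ := mem_of_mem_closD (X := X) hd hT
    have h0 : ((EtCoh.pullPushAdj (X.fromSpecResidueField y.1)).unit.app (suppPart (closD T) (gmQ X))).hom.app U γ = 0 := by
      refine (ConcreteCategory.congr_hom (congrArg (fun m => m.hom.app U)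
        (biproduct.lift_π (fun x : ↥T => (EtCoh.pullPushAdj (X.fromSpecResidueField x.1.1)).unit.app
          (suppPart (closD T) (gmQ X))) ⟨y, hy⟩)) γ).symm.trans ?_
      exact (congrArg ((biproduct.π (fun x : ↥T => summand T x.1) ⟨y, hy⟩).hom.app U) hγ).trans (map_zero _)
    exact (unit_eq_zero_iff _ _ U.unop γ).1 h0 (mem_range_fst_residueField U.unop hyd.symm)
  · exact mem_vanishSet_of_not_mem_supp _ (supp_suppPart _ _) U.unop γ hT

set_option maxHeartbeats 4000000 in
/-- Sections of the sum lift locally. -/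
theorem exists_local_preimage (hf : LocFact X) (V : X.Etale) [IsAffine V.left] (z : V.left)
    (hov : ∀ w : V.left, V.hom.base w ∈ genericPoints X ∪ Subtype.val '' (T : Set {x : X // IsDivPt x}) → w ⤳ z)
    (τ : (⨁ fun x : ↥T => summand T x.1).obj.obj (op V)) :
    ∃ (N : V.left.Opens), z ∈ N ∧ ∃ γ, (toSum T).hom.app (op (openObj V N)) γ =
      (⨁ fun x : ↥T => summand T x.1).obj.map (openHom V N).op τ := by
  classical
  haveI := (hf V z).1
  haveI := (hf V z).2
  have huniq : ∀ w : V.left, V.hom.base w ∈ genericPoints X → w = gz V z := fun w hw =>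
    eq_gz_of_generic V z (hov w (Or.inl hw)) hw
  let G := suppPart (closD T) (gmQ X)
  let Φ := fun x : ↥T => summand T x.1
  let i := fun x : ↥T => X.fromSpecResidueField x.1.1
  let p₀ : ∀ x : ↥T, Spec (X.residueField x.1.1) := fun x => IsLocalRing.closedPoint (X.residueField x.1.1)
  let η := fun x : ↥T => geomPoint (p₀ x) ≫ i x
  have hη : ∀ x : ↥T, (η x).base default = x.1.1 := fun x => by
    rw [Scheme.Hom.comp_apply]
    exact Scheme.fromSpecResidueField_apply _ _
  let P := Σ x : ↥T, {w : V.left // V.hom.base w = x.1.1}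
  haveI : ∀ x : ↥T, Finite {w : V.left // V.hom.base w = x.1.1} := fun x => by
    haveI : Etale V.hom := V.prop
    let g : V.left ⟶ X := V.hom
    haveI : LocallyOfFiniteType g := inferInstanceAs (LocallyOfFiniteType V.hom)
    haveI : QuasiCompact (g ≫ terminal.from X) := by rw [terminal.comp_from]; infer_instance
    haveI : QuasiCompact g := QuasiCompact.of_comp g (terminal.from X)
    haveI : LocallyQuasiFinite g := locallyQuasiFinite_of_formallyUnramified g
    exact (Scheme.Hom.finite_preimage_singleton g x.1.1).to_subtype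
  letI : Fintype P := Fintype.ofFinite P
  have hPz : ∀ p : P, p.2.1 ⤳ z := fun p => hov _ (Or.inr ⟨p.1.1, p.1.2, p.2.2.symm⟩)
  have hPd : ∀ p : P, IsDivPt (V.hom.base p.2.1) := fun p => p.2.2.symm ▸ p.1.1.2
  choose π hπ hptp using fun p : P => exists_prime_of_isDivPt V z (hPz p) (hPd p)
  choose N hzN a ha using fun p : P => TopCat.Presheaf.exists_germ_eq V.left.presheaf (π p)
  choose e hrep using fun p : P =>
    exists_section_of_germ V z huniq (hzN p) (a p) (by rw [ha p]; exact (hπ p).ne_zero)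
  choose s hs using fun p : P => exists_fiber_of_point (η p.1) V p.2.1 (by rw [hη]; exact p.2.2)
  let y : ∀ p : P, (EtCoh.stalk (η p.1)).obj G := fun p =>
    (stalkPullIso (i p.1) (geomPoint (p₀ p.1))).inv.app G
      (germ (geomPoint (p₀ p.1)) ((EtCoh.pull (i p.1)).obj G) ((EtCoh.bc (i p.1)).obj V)
        (pushLift (i p.1) (geomPoint (p₀ p.1)) rfl V (s p)) ((biproduct.π Φ p.1).hom.app (op V) τ))
  choose k hk using fun p : P => exists_germ_eq_zsmul hf V z (hπ p) (hzN p) (a p) (ha p) (hrep p)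
    (η p.1) (s p) ((hs p).trans (hptp p).symm)
    ((EtCoh.stalk (η p.1)).map (kernel.ι (unitCompl (closD T) (gmQ X))) (y p))
  let σ : (gmQ X).obj.obj (op V) := ∑ p : P, k p • cls V (e p)
  -- the neighbourhood
  let D : Set V.left := {d | (d ∉ vanishSet (gmQ X) V σ ∧ IsDivPt (V.hom.base d)) ∧ ¬ d ⤳ z}
  have hD : D.Finite := (finite_divPts_not_vanish hf V σ).subset fun _ h => h.1
  let C : Set V.left := ⋃ w ∈ D, closure {w}
  have hC : IsClosed C := hD.isClosed_biUnion fun _ _ => isClosed_closure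
  let N₀ : V.left.Opens := ⟨Cᶜ, hC.isOpen_compl⟩
  have hzN₀ : z ∈ N₀ := fun h => by
    obtain ⟨w, hw, h'⟩ := Set.mem_iUnion₂.1 h
    exact hw.2 (specializes_iff_mem_closure.2 h')
  refine ⟨N₀, hzN₀, ?_⟩
  let σN : (gmQ X).obj.obj (op (openObj V N₀)) := (gmQ X).obj.map (openHom V N₀).op σ
  obtain ⟨γ, hγ⟩ := exists_kernel_lift (unitCompl (closD T) (gmQ X)) (openObj V N₀) σN <| by
    refine unitCompl_eq_zero hf (openObj V N₀) σN T fun d hd hdiv => ?_
    rw [mem_vanishSet_map] at hd
    have hdz : ((openHom V N₀).left.base d) ⤳ z := by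
      by_contra h
      exact (show ↥N₀ from d).2 (Set.mem_biUnion (show (openHom V N₀).left.base d ∈ D from ⟨⟨hd, hdiv⟩, h⟩)
        (subset_closure rfl))
    by_contra hTd
    obtain ⟨t, ht⟩ := exists_geomPoint_lift V ((openHom V N₀).left.base d)
    refine hd ?_
    rw [← ht, ← germ_eq_zero_iff_mem, map_sum]
    refine Finset.sum_eq_zero fun p _ => ?_
    rw [map_zsmul, (germ_eq_zero_iff_mem _ _ _ _ t).2, smul_zero]
    rw [show fiberPoint _ t = (openHom V N₀).left.base d from ht]
    refine van_of_ne V z (hπ p) (hzN p) (a p) (ha p) (hrep p) hdz hdiv fun h => hTd ?_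
    refine Set.mem_iUnion₂.2 ⟨p.1.1, p.1.2, subset_closure ?_⟩
    exact (congrArg V.hom.base (h.trans (hptp p))).trans p.2.2
  have hσ : ∀ p : P, germ (η p.1) (gmQ X) V (s p) σ =
      (EtCoh.stalk (η p.1)).map (kernel.ι (unitCompl (closD T) (gmQ X))) (y p) := fun p => by
    rw [hk p, map_sum, Finset.sum_eq_single p, map_zsmul]
    · intro q _ hq
      rw [map_zsmul, (germ_eq_zero_iff_mem (η p.1) _ _ _ (s p)).2, smul_zero]
      rw [show fiberPoint (η p.1) (s p) = p.2.1 from hs p]
      refine van_of_ne V z (hπ q) (hzN q) (a q) (ha q) (hrep q) (hPz p) (hPd p) fun h => hq ?_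
      have hw : q.2.1 = p.2.1 := (h.trans (hptp q)).symm
      obtain ⟨xq, wq, hwq⟩ := q
      obtain ⟨xp, wp, hwp⟩ := p
      dsimp only at hw
      subst hw
      obtain rfl : xq = xp := Subtype.ext (Subtype.ext (hwq.symm.trans hwp))
      rfl
    · exact fun h => absurd (Finset.mem_univ p) h
  refine ⟨γ, sections_biproduct_ext Φ _ _ fun x => ?_⟩
  refine ((ConcreteCategory.congr_hom (congrArg (fun m => m.hom.app (op (openObj V N₀)))
    (biproduct.lift_π (fun x : ↥T => (EtCoh.pullPushAdj (i x)).unit.app G) x)) γ)).trans ?_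
  refine Eq.trans ?_ (NatTrans.naturality_apply (biproduct.π Φ x).hom (openHom V N₀).op τ).symm
  refine unit_eq_of_germs G (i x) V N₀ γ _ (geomPoint (p₀ x)) fun n _ hn => ?_
  have hn' : V.hom.base n = x.1.1 := by
    rw [Scheme.range_fromSpecResidueField] at hn
    exact hn
  refine ⟨s ⟨x, n, hn'⟩, hs ⟨x, n, hn'⟩, fun sN hsN => ?_⟩
  refine mono_stalk_injective (η x) (kernel.ι (unitCompl (closD T) (gmQ X))) ?_
  refine (germ_map _ _ _ _ _).trans ((congrArg _ hγ).trans ?_)
  rw [germ_res, hsN]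
  exact hσ ⟨x, n, hn'⟩

theorem epi_toSum (hf : LocFact X) : Epi (toSum T) := by
  refine epi_of_stalk_surjective _ fun x y => ?_
  obtain ⟨U, t, τ, rfl⟩ := germ_surjective (geomPoint x) _ y
  obtain ⟨W, hzW, hW⟩ := exists_affine_over U (fiberPoint (geomPoint x) t)
    (((genericPoints.finite NoetherianSpace.finite_irreducibleComponents)).union
      (T.finite_toSet.image Subtype.val))
  obtain ⟨t', ht'⟩ := exists_lift_open (geomPoint x) W.1 t hzW
  let V := openObj U W.1
  haveI : IsAffine V.left := W.2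
  have hz : (openHom U W.1).left.base (fiberPoint (geomPoint x) t') = fiberPoint (geomPoint x) t := by
    rw [← fiberPoint_map, ht']
  obtain ⟨N, hN, γ, hγ⟩ := exists_local_preimage T hf V (fiberPoint (geomPoint x) t')
    (fun w hw => (W.1.ι.isOpenEmbedding.isInducing.specializes_iff).1
      (hz.symm ▸ hW _ (show ↥W.1 from w).2 hw))
    ((⨁ fun x : ↥T => summand T x.1).obj.map (openHom U W.1).op τ)
  obtain ⟨t'', ht''⟩ := exists_lift_open (geomPoint x) N t' hN
  refine ⟨germ (geomPoint x) _ (openObj V N) t'' γ, ?_⟩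
  refine (germ_map _ _ _ _ _).trans ((congrArg _ hγ).trans ?_)
  rw [germ_res, ht'', germ_res, ht']

/-- Cohomology of the parts supported at finitely many divisors is torsion in positive degrees. -/
theorem isAddTorsion_H_part (hf : LocFact X) (q : ℕ) :
    IsAddTorsion (EtCoh.H X (suppPart (closD T) (gmQ X)) (q + 1)) := by
  haveI := mono_toSum T hf
  haveI := epi_toSum T hf
  haveI : IsIso (toSum T) := isIso_of_mono_of_epi _
  have h : IsAddTorsion (EtCoh.H X (⨁ fun x : ↥T => summand T x.1) (q + 1)) := fun z =>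
    isOfFinAddOrder_ext_biproduct (fun x : ↥T => summand T x.1) z fun x => by
      haveI := pull_preservesFiniteLimits (X.fromSpecResidueField x.1.1)
      exact isAddTorsion_H_push (K := X.residueField x.1.1) (X.fromSpecResidueField x.1.1) q _ _
  exact EtPbc.Torsion.isAddTorsion_of_iso ((EtCoh.HF X (q + 1)).mapIso (asIso (toSum T))).symm h

omit [AlgebraicGeometry.IsReduced X] in
/-- `Hᵠ(X, 𝔾ₘ)` is torsion for `q ≥ 2` when all étale local rings are factorial. -/
theorem isAddTorsion_H_Gm_of_locFact (hf : LocFact X) (q : ℕ) :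
    IsAddTorsion (EtCoh.H X (EtCoh.Gm X) (q + 2)) := by
  haveI := hf.isReduced
  exact isAddTorsion_H_Gm q (isAddTorsion_H_gmQ hf (q + 1) fun T => isAddTorsion_H_part T hf q)

end Groth.FieldPush
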