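import Groth.Agent.EtPbc.FieldPush
import Groth.Agent.EtaleBase.Limit.FlasquePush
import Groth.Agent.EtaleBase.GmPurity
import Groth.Agent.GaloisBrauer.NormTower
import Groth.Agent.S0229

/-!
# Direct images of `𝔾ₘ` from the spectrum of a field with vanishing cohomology
-/

set_option autoImplicit false
set_option backward.isDefEq.respectTransparency.types false
set_option linter.style.haveILetI false
set_option maxHeartbeats 1000000

universe u

open CategoryTheory CategoryTheory.Limits CategoryTheory.Abelian AlgebraicGeometry Opposite TopologicalSpace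

namespace Groth.FieldPush

open Groth.EtaleBase Groth.EtaleBase.EtLimit Groth.GaloisBrauer.FieldTrace

variable {K : Type u} [Field K]

/-- `𝔾ₘ` on all finite separable extensions of `K` has no higher cohomology. -/
def GmAcyclic (K : Type u) [Field K] : Prop :=
  ∀ (L : Type u) [Field L] [Algebra K L] [FiniteDimensional K L] [Algebra.IsSeparable K L] (q : ℕ), 1 ≤ q →
    Subsingleton (EtCoh.H (Spec (CommRingCat.of L)) (EtCoh.Gm (Spec (CommRingCat.of L))) q)

/-- Cycles of an injective resolution of `𝔾ₘ` over a field point are boundaries. -/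
theorem exists_boundary_obj (h : GmAcyclic K) (L : Type u) [Field L] [Algebra K L] [FiniteDimensional K L]
    [Algebra.IsSeparable K L] (I : InjectiveResolution (EtCoh.Gm (Spec (CommRingCat.of K)))) (q : ℕ)
    (z : ((injResn I).X (q + 1)).obj.obj (op (obj K L)))
    (hz : ((injResn I).d (q + 1)).hom.app (op (obj K L)) z = 0) :
    ∃ b, ((injResn I).d q).hom.app (op (obj K L)) b = z := by
  refine exists_boundary_of_clsAt I (obj K L) hz ?_
  haveI := mor_etale K L
  haveI := InjCoh.jCont (mor K L)
  haveI := h L (q + 1) (Nat.succ_pos q)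
  let θ : (EtCoh.pull (mor K L)).obj (EtCoh.Gm (Spec (CommRingCat.of K))) ≅ EtCoh.Gm (Spec (CommRingCat.of L)) :=
    (pullRestrIso (mor K L)).app _ ≪≫ Supp.gmRestr (mor K L)
  haveI : Subsingleton (EtCoh.H (Spec (CommRingCat.of L))
      ((EtCoh.pull (mor K L)).obj (EtCoh.Gm (Spec (CommRingCat.of K)))) (q + 1)) :=
    @Equiv.subsingleton _ _ ((EtCoh.HF _ (q + 1)).mapIso θ).addCommGroupIsoToAddEquiv.toEquiv
      (by assumption)
  exact Subsingleton.elim (α := EtCoh.H (Spec (CommRingCat.of L))
      ((EtCoh.pull (mor K L)).obj (EtCoh.Gm (Spec (CommRingCat.of K)))) (q + 1)) _ _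

/-- Cycles of an injective resolution of `𝔾ₘ` on quasi-compact étale schemes over `K` are boundaries. -/
theorem exists_boundary_compact (h : GmAcyclic K) (I : InjectiveResolution (EtCoh.Gm (Spec (CommRingCat.of K))))
    (V : (Spec (CommRingCat.of K)).Etale) [CompactSpace V.left] (q : ℕ)
    (z : ((injResn I).X (q + 1)).obj.obj (op V))
    (hz : ((injResn I).d (q + 1)).hom.app (op V) z = 0) :
    ∃ b, ((injResn I).d q).hom.app (op V) b = z := by
  classical
  haveI : Etale V.hom := V.prop
  haveI : LocallyQuasiFinite V.hom := locallyQuasiFinite_of_formallyUnramified V.hom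
  haveI : DiscreteTopology V.left :=
    @locallyQuasiFinite_discreteTopology _ (Spec (CommRingCat.of K)) V.hom inferInstance
      (inferInstanceAs (Subsingleton (PrimeSpectrum K)))
  haveI : Finite V.left := finite_of_compact_of_discrete
  let W : V.left → V.left.Opens := fun v => ⟨{v}, isOpen_discrete _⟩
  have hW : ∀ a b, a ≠ b → Disjoint (W a) (W b) := fun a b h => disjoint_iff.2 (Opens.ext <|
    Set.eq_empty_of_forall_notMem fun x hx => h ((show x = a from hx.1).symm.trans hx.2))
  have hsup : ⨆ v, W v = ⊤ := top_le_iff.1 fun x _ => Opens.mem_iSup.2 ⟨x, rfl⟩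
  have hpt : ∀ v, ∃ b, ((injResn I).d q).hom.app (op (openObj V (W v))) b =
      ((injResn I).X (q + 1)).obj.map (openHom V (W v)).op z := fun v => by
    obtain ⟨L, _, _, _, _, ⟨e⟩⟩ := exists_iso_singleton V (W v) v rfl
    obtain ⟨b, hb⟩ := exists_boundary_obj h L I q (((injResn I).X (q + 1)).obj.map (e.hom ≫ openHom V (W v)).op z)
      (by rw [NatTrans.naturality_apply, hz, map_zero])
    refine ⟨((injResn I).X q).obj.map e.inv.op b, ?_⟩
    rw [NatTrans.naturality_apply, hb, ← ConcreteCategory.comp_apply, ← Functor.map_comp, ← op_comp,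
      Iso.inv_hom_id_assoc]
  choose b hb using hpt
  obtain ⟨d, hd⟩ := exists_glue_disjoint V W hW hsup ((injResn I).X q) b
  refine ⟨d, ext_disjoint V W hW hsup ((injResn I).X (q + 1)) _ _ fun v => ?_⟩
  rw [← NatTrans.naturality_apply, hd, hb]

variable {X : Scheme.{u}} (i : Spec (CommRingCat.of K) ⟶ X)

/-- Higher direct images of `𝔾ₘ` vanish. -/
theorem isZero_Rpush_Gm [QuasiSeparatedSpace X] (h : GmAcyclic K) (n : ℕ) :
    IsZero ((EtCoh.Rpush i (n + 1)).obj (EtCoh.Gm (Spec (CommRingCat.of K)))) := by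
  rw [IsZero.iff_id_eq_zero]
  refine stalkAt_jointlyReflectIsomorphisms.jointlyFaithful.map_injective fun s => ?_
  rw [CategoryTheory.Functor.map_id, Functor.map_zero]
  ext x
  let I := injectiveResolution (EtCoh.Gm (Spec (CommRingCat.of K)))
  obtain ⟨V, t, z, hrep⟩ := exists_rep i I (geomPoint s) (n + 1) x
  obtain ⟨_, ⟨N, hN, rfl⟩, hzN, -⟩ := V.left.isBasis_affineOpens.exists_subset_of_mem_open
    (Set.mem_univ (fiberPoint (geomPoint s) t)) isOpen_univ
  obtain ⟨t', ht'⟩ := SitePt.exists_lift_open (geomPoint s) N t hzN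
  let V' := openObj V N
  have hrep' := hrep.res (openHom V N) t' ht'
  haveI : IsAffine V'.left := hN
  haveI : CompactSpace ((EtCoh.bc i).obj V').left := by
    haveI : QuasiCompact i := quasiCompact i
    have hq : QuasiCompact (pullback.fst V'.hom i) := MorphismProperty.pullback_fst (P := @QuasiCompact) _ _ ‹_›
    haveI : CompactSpace ((𝟭 Scheme.{u}).obj V'.left : Scheme.{u}) := inferInstanceAs (CompactSpace V'.left)
    exact @QuasiCompact.compactSpace_of_compactSpace _ _ (pullback.fst V'.hom i) hq (inferInstanceAs (CompactSpace ((𝟭 Scheme.{u}).obj V'.left : Scheme.{u})))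
  obtain ⟨b, hb⟩ := exists_boundary_compact h I ((EtCoh.bc i).obj V') n _ hrep'.cycle
  have h0 := rep_boundary i I (geomPoint s) n V' t' b
  exact hrep'.unique (hb ▸ h0)

/-- Cohomology of the direct image of `𝔾ₘ` vanishes in positive degrees. -/
theorem subsingleton_H_push_Gm [QuasiSeparatedSpace X] [PreservesFiniteLimits (EtCoh.pull i)]
    (h : GmAcyclic K) (q : ℕ) (hq : 1 ≤ q) :
    Subsingleton (EtCoh.H X ((EtCoh.push i).obj (EtCoh.Gm (Spec (CommRingCat.of K)))) q) := by
  haveI := h K q hq
  refine (InjCoh.HofPush_bijective i (EtCoh.Gm _) (fun p hp => ?_) q).1.subsingleton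
  obtain ⟨p, rfl⟩ := Nat.exists_eq_succ_of_ne_zero hp.ne'
  exact isZero_Rpush_Gm i h p

/-- Fields of transcendence degree at most one over an algebraically closed field. -/
theorem gmAcyclic_of_trdeg_le_one (k : Type u) [Field k] [IsAlgClosed k] [Algebra k K]
    (hK : Algebra.trdeg k K ≤ 1) : GmAcyclic K := by
  intro L _ _ _ _ q hq
  letI : Algebra k L := ((algebraMap K L).comp (algebraMap k K)).toAlgebra
  haveI : IsScalarTower k K L := IsScalarTower.of_algebraMap_eq fun _ => rfl
  have hL : Algebra.trdeg k L = Algebra.trdeg k K := by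
    rw [← trdeg_add_eq k K (A := L), trdeg_eq_zero (R := K) (A := L), add_zero]
  obtain ⟨j, hj⟩ := Cardinal.lt_aleph0.1 (lt_of_le_of_lt hK Cardinal.one_lt_aleph0)
  have hj1 : j ≤ 1 := by exact_mod_cast hj ▸ hK
  obtain rfl | rfl : j = 1 ∨ j = 0 := by omega
  · exact Groth.Agent.S0229.result k L (by rw [hL, hj, Nat.cast_one]) q hq
  · haveI : Algebra.IsAlgebraic k L := trdeg_eq_zero_iff.1 (by rw [hL, hj, Nat.cast_zero])
    haveI : IsAlgClosed L := IsAlgClosure.isAlgClosed (R := k) (K := L) (self :=
      ⟨IsAlgClosed.of_ringEquiv k L (RingEquiv.ofBijective (algebraMap k L)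
        (IsAlgClosed.algebraMap_bijective_of_isIntegral (k := k))), inferInstance⟩)
    refine Groth.Agent.S0228.result L (fun K' _ _ _ D _ _ _ _ => ?_) q hq
    haveI : IsAlgClosed K' := IsAlgClosed.of_ringEquiv L K' (RingEquiv.ofBijective (algebraMap L K')
      (IsAlgClosed.algebraMap_bijective_of_isIntegral (k := L)))
    exact ((AlgEquiv.ofBijective (Algebra.ofId K' D)
      (IsAlgClosed.algebraMap_bijective_of_isIntegral (k := K'))).toLinearEquiv.finrank_eq).symm.trans
        (Module.finrank_self K')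

end Groth.FieldPush
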