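import Groth.Agent.EtPbc.GmGenericKernel
import Groth.Agent.EtPbc.CdKilled
import Groth.Agent.EtaleBase.GmPic.LowDegree

/-!
# `ℓ`-torsion of `H^i(X, 𝔾ₘ)` in dimension one
-/

set_option autoImplicit false
set_option backward.isDefEq.respectTransparency.types false
set_option linter.style.haveILetI false
set_option maxHeartbeats 1000000

universe u

open CategoryTheory CategoryTheory.Limits CategoryTheory.Abelian AlgebraicGeometry Opposite TopologicalSpace

namespace Groth.FieldPush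

open Groth.EtaleBase Groth.EtaleBase.GmPic Groth.EtPbc.PointSupp Groth.Misc1.Kummer
  Groth.GaloisBrauer.FieldTrace

/-- Over a one-point scheme a sheaf quotient by `𝔾ₘ` is surjective on all sections. -/
theorem surjective_app_of_subsingleton {S : Scheme.{u}} [Subsingleton S] {I Q : EtCoh.Ab S}
    (f : EtCoh.Gm S ⟶ I) (g : I ⟶ Q) (w : f ≫ g = 0)
    (hS : (ShortComplex.mk f g w).ShortExact) (T : S.Etale) :
    Function.Surjective (g.hom.app (op T)) := by
  intro q
  haveI : AlgebraicGeometry.Etale (T.hom : T.left ⟶ S) := T.prop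
  haveI : LocallyQuasiFinite (T.hom : T.left ⟶ S) :=
    Groth.DescentBase.locallyQuasiFinite_of_etale _
  have hdisc : DiscreteTopology T.left := by
    refine discreteTopology_iff_forall_isClosed.2 fun A => ?_
    rcases isEmpty_or_nonempty T.left with hS0 | ⟨⟨z₀⟩⟩
    · rw [Set.eq_empty_of_isEmpty A]; exact isClosed_empty
    let p : S := (T.hom : T.left ⟶ S).base z₀
    have h := (T.hom : T.left ⟶ S).isDiscrete_preimage_singleton p
    rw [show (T.hom : T.left ⟶ S) ⁻¹' {p} = Set.univ from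
      Set.eq_univ_of_forall fun a => Subsingleton.elim (α := S) _ _] at h
    haveI : DiscreteTopology T.left := isDiscrete_univ_iff.1 h
    exact isClosed_discrete A
  let W : T.left → T.left.Opens := fun z => ⟨{z}, isOpen_discrete _⟩
  have hd : ∀ a b, a ≠ b → Disjoint (W a) (W b) := fun a b hab => by
    rw [disjoint_iff]
    refine eq_bot_iff.2 fun z ⟨h1, h2⟩ => hab ?_
    exact (Set.mem_singleton_iff.1 h1).symm.trans (Set.mem_singleton_iff.1 h2)
  have hsup : ⨆ a, W a = ⊤ := top_unique fun z _ =>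
    TopologicalSpace.Opens.mem_iSup.2 ⟨z, rfl⟩
  choose U hU y hy using fun z => exists_open_lift_at f g w hS T q z
  have hle : ∀ z, W z ≤ U z := fun z a (ha : a ∈ ({z} : Set T.left)) => by
    rw [Set.mem_singleton_iff.1 ha]; exact hU z
  let c : ∀ z, openObj T (W z) ⟶ openObj T (U z) := fun z =>
    MorphismProperty.Over.homMk (T.left.homOfLE (hle z))
      ((Category.assoc _ _ _).symm.trans (congrArg (· ≫ T.hom) (T.left.homOfLE_ι (hle z))))
  have hc : ∀ z, c z ≫ openHom T (U z) = openHom T (W z) := fun z =>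
    MorphismProperty.Over.Hom.ext (T.left.homOfLE_ι (hle z))
  obtain ⟨s, hs⟩ := exists_glue_disjoint T W hd hsup I fun z => I.obj.map (c z).op (y z)
  refine ⟨s, ext_disjoint T W hd hsup Q _ _ fun z => ?_⟩
  rw [← NatTrans.naturality_apply g.hom, hs, NatTrans.naturality_apply g.hom, hy,
    ← ConcreteCategory.comp_apply, ← Q.obj.map_comp, ← op_comp, hc]

variable {X S : Scheme.{u}} [Subsingleton S] (i : S ⟶ X) [PreservesFiniteLimits (EtCoh.pull i)]

/-- Restriction to a one-point scheme is injective on `H²` of the direct image of `𝔾ₘ`. -/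
theorem HofPush_two_injective : Function.Injective (EtLim.HofPush i (EtCoh.Gm S) 2) := by
  let P := EtCoh.push i
  let f := Injective.ι (EtCoh.Gm S)
  let g := cokernel.π f
  have hS : (ShortComplex.mk f g (cokernel.condition f)).ShortExact :=
    { exact := ShortComplex.exact_of_g_is_cokernel _ (cokernelIsCokernel f) }
  haveI : PreservesLimitsOfSize.{0, 0} P := (EtCoh.pullPushAdj i).rightAdjoint_preservesLimits
  haveI : PreservesFiniteLimits P := PreservesLimitsOfSize.preservesFiniteLimits _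
  haveI : P.PreservesZeroMorphisms := inferInstance
  have hsurj := surjective_app_of_subsingleton f g (cokernel.condition f) hS
  haveI hepi : Epi (P.map g) :=
    (Sheaf.isLocallySurjective_iff_epi' (A := AddCommGrpCat.{u + 1}) _).1
      (Presheaf.isLocallySurjective_of_surjective X.smallEtaleTopology (P.map g).hom
        fun T => hsurj ((EtCoh.bc i).obj T.unop))
  have w : P.map f ≫ P.map g = 0 := by rw [← P.map_comp, cokernel.condition, P.map_zero]
  have hT : (ShortComplex.mk (P.map f) (P.map g) w).ShortExact :=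
    { exact := hS.exact.map_of_mono_of_preservesKernel P hS.mono_f inferInstance
      mono_f := inferInstanceAs (Mono (P.map f)) }
  have hv0 : ∀ n : ℕ, ∀ c : EtCoh.H X (P.obj (EtCoh.Gm S)) (n + 1),
      c.comp (Ext.mk₀ (P.map f)) (add_zero (n + 1)) = 0 := fun n c =>
    (InjCoh.H_injective (P.obj (Injective.under (EtCoh.Gm S))) (n + 1) (by omega)).elim _ _
  refine (injective_iff_map_eq_zero _).2 fun c hc => ?_
  obtain ⟨x, rfl⟩ := Ext.covariant_sequence_exact₁ _ hT c (hv0 1 c) (rfl : 1 + 1 = 2)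
  rw [HofPush_delta i _ hS (P.map g) (𝟙 _) (Category.comp_id _) w hT 1 x] at hc
  obtain ⟨y, hy⟩ := Ext.covariant_sequence_exact₃ _ hS _ rfl hc
  have hy0 : y = 0 := (InjCoh.H_injective (Injective.under (EtCoh.Gm S)) 1 le_rfl).elim _ _
  rw [hy0, Ext.zero_comp, Ext.comp_mk₀_id] at hy
  rw [(injective_iff_map_eq_zero _).1 (HofPush_one_injective i _) x hy.symm, Ext.zero_comp]

omit [Subsingleton S] in
/-- No `ℓ`-torsion in `Hᵠ(X, 𝔾ₘ)` when `Hᵠ(X, μ_ℓ) = 0` and `ℓ` is invertible. -/
theorem eq_zero_of_mu {ℓ : ℕ} (hinv : Dix.InvertibleOn X ℓ) {q : ℕ}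
    (h : Subsingleton (EtCoh.H X (EtCoh.mu X ℓ) q)) (ξ : EtCoh.H X (EtCoh.Gm X) q)
    (hξ : ∃ k : ℕ, ℓ ^ k • ξ = 0) : ξ = 0 := by
  obtain ⟨k, hk⟩ := hξ
  refine eq_zero_of_pow (fun η hη => ?_) k ξ hk
  haveI := epi_powMap hinv
  have hS : (ShortComplex.mk (EtCoh.muι X ℓ) (EtCoh.powMap X ℓ) (kernel.condition _)).ShortExact :=
    { exact := ShortComplex.exact_of_f_is_kernel _ (kernelIsKernel _)
      mono_f := inferInstanceAs (Mono (kernel.ι _))
      epi_g := ‹_› }
  obtain ⟨z, rfl⟩ := Ext.covariant_sequence_exact₂ _ hS η ((comp_mk₀_powMap ℓ η).trans hη)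
  rw [Subsingleton.elim (α := EtCoh.H X (EtCoh.mu X ℓ) q) z 0]
  exact Ext.zero_comp _ _ _ _ _

omit [Subsingleton S] in
/-- `H^q` of a sheaf killed by `ℓ` on the spectrum of a local ring at a generic point. -/
theorem subsingleton_H_spec_stalk [AlgebraicGeometry.IsNoetherian X] {ℓ : ℕ} (hℓ : 0 < ℓ) {η : X}
    (hη : η ∈ genericPoints X) (hcd : ∀ p : ℕ, p.Prime → p ∣ ℓ → Dix.CohDimLEAt (Spec (X.residueField η)) p 1)
    (F : EtCoh.Ab (Spec (X.presheaf.stalk η))) (hF : ℓ • 𝟙 F = 0) (q : ℕ) (hq : 2 ≤ q) :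
    Subsingleton (EtCoh.H (Spec (X.presheaf.stalk η)) F q) := by
  haveI := subsingleton_spec_stalk hη
  let a : Spec (CommRingCat.of (X.residueField η)) ⟶ Spec (X.presheaf.stalk η) := Spec.map (X.residue η)
  haveI : IsClosedImmersion a := IsClosedImmersion.spec_of_surjective _ (X.residue_surjective _)
  have hr : EtPBC.supp F ⊆ Set.range a.base := fun x _ => ⟨default, Subsingleton.elim _ _⟩
  obtain ⟨G, ⟨e⟩⟩ := (essImage_push_iff a F).2 hr
  haveI := isIso_counit a G
  haveI := pull_preservesFiniteLimits a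
  haveI : (EtCoh.pull a).Additive := Adjunction.left_adjoint_additive (EtCoh.pullPushAdj a)
  let e' : (EtCoh.pull a).obj F ≅ G :=
    ((EtCoh.pull a).mapIso e).symm ≪≫ asIso ((EtCoh.pullPushAdj a).counit.app G)
  have hG : ℓ • 𝟙 G = 0 := by
    rw [← cancel_epi e'.hom, comp_zero, Preadditive.comp_nsmul, Category.comp_id,
      show ℓ • e'.hom = (ℓ • 𝟙 _) ≫ e'.hom by rw [Preadditive.nsmul_comp, Category.id_comp],
      map_nsmul_id_eq_zero (EtCoh.pull a) hF, zero_comp]
  obtain ⟨r, rfl⟩ : ∃ r, q = r + 2 := ⟨q - 2, by omega⟩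
  haveI := (cdOne_of_killed (K := X.residueField η) hℓ hcd G hG r).2
  have hb := InjCoh.HofPush_bijective a G (fun n hn => isZero_Rpush a G n hn) (r + 2)
  haveI : Subsingleton (EtCoh.H (Spec (X.presheaf.stalk η)) ((EtCoh.push a).obj G) (r + 2)) := hb.1.subsingleton
  exact @Equiv.subsingleton _ _ ((EtCoh.HF _ (r + 2)).mapIso e).symm.addCommGroupIsoToAddEquiv.toEquiv (by assumption)

omit [Subsingleton S] in
/-- No `ℓ`-primary torsion in `H²(X, 𝔾ₘ)` in dimension one. -/
theorem eq_zero_two [AlgebraicGeometry.IsNoetherian X] (hdim : topologicalKrullDim X ≤ 1) {ℓ : ℕ} (hℓ : 0 < ℓ)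
    (hinv : Dix.InvertibleOn X ℓ)
    (hcd : ∀ η ∈ genericPoints X, ∀ p : ℕ, p.Prime → p ∣ ℓ → Dix.CohDimLEAt (Spec (X.residueField η)) p 1)
    (hcl : ∀ x : X, IsClosed ({x} : Set X) → IsSepClosed (X.residueField x))
    (ξ : EtCoh.H X (EtCoh.Gm X) 2) (hξ : ∃ k : ℕ, ℓ ^ k • ξ = 0) : ξ = 0 := by
  refine eq_zero_of_toGen hdim hcl ξ fun η => ?_
  haveI := subsingleton_spec_stalk η.2
  haveI := pull_preservesFiniteLimits (X.fromSpecStalk η.1)
  refine (injective_iff_map_eq_zero _).1 (HofPush_two_injective (X.fromSpecStalk η.1)) _ ?_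
  have hinv' : Dix.InvertibleOn (Spec (X.presheaf.stalk η.1)) ℓ := fun y h0 => by
    apply hinv ((X.fromSpecStalk η.1).base y)
    apply ((X.fromSpecStalk η.1).residueFieldMap y).hom.injective
    rw [map_natCast, map_zero]
    exact h0
  refine eq_zero_of_mu hinv' (subsingleton_H_spec_stalk hℓ η.2 (hcd η.1 η.2) _ (nsmul_id_mu ℓ) 2 le_rfl) _ ?_
  obtain ⟨k, hk⟩ := hξ
  refine ⟨k, ?_⟩
  change ℓ ^ k • EtLim.HGmPull (X.fromSpecStalk η.1) 2 ξ = 0
  rw [← map_nsmul, hk, map_zero]

end Groth.FieldPush
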