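import Groth.Agent.EtPbc.GmGeneric
import Mathlib.AlgebraicGeometry.Morphisms.UniversallyOpen

/-!
# Sections of the generic direct image of `𝔾ₘ` as fractions
-/

set_option autoImplicit false
set_option backward.isDefEq.respectTransparency.types false
set_option linter.style.haveILetI false
set_option maxHeartbeats 1000000

universe u

open CategoryTheory CategoryTheory.Limits CategoryTheory.Abelian AlgebraicGeometry Opposite TopologicalSpace

namespace Groth.FieldPush

open Groth.EtaleBase Groth.EtaleBase.LocConst Groth.EtaleBase.GmPic Groth.EtaleBase.SitePt Groth.EtaleDeep.Cons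

variable {X : Scheme.{u}} (V : X.Etale)

/-- The inclusion between open subschemes of an étale scheme. -/
noncomputable def oh {O' O : V.left.Opens} (h : O' ≤ O) : openObj V O' ⟶ openObj V O :=
  MorphismProperty.Over.homMk (V.left.homOfLE h)
    ((Category.assoc _ _ _).symm.trans (congrArg (· ≫ V.hom) (Scheme.homOfLE_ι _ h)))

theorem oh_openHom {O' O : V.left.Opens} (h : O' ≤ O) : oh V h ≫ openHom V O = openHom V O' :=
  MorphismProperty.Over.Hom.ext (Scheme.homOfLE_ι _ h)

theorem oh_oh {O'' O' O : V.left.Opens} (h : O'' ≤ O') (h' : O' ≤ O) :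
    oh V h ≫ oh V h' = oh V (h.trans h') :=
  MorphismProperty.Over.Hom.ext (Scheme.homOfLE_homOfLE _ h h')

theorem map_oh_openHom (F : EtCoh.Ab X) {O' O : V.left.Opens} (h : O' ≤ O) (x : F.obj.obj (op V)) :
    F.obj.map (oh V h).op (F.obj.map (openHom V O).op x) = F.obj.map (openHom V O').op x := by
  rw [← ConcreteCategory.comp_apply, ← Functor.map_comp, ← op_comp, oh_openHom]

/-- Functions on an open as functions on the open subscheme. -/
noncomputable def toU (O : V.left.Opens) : Γ(V.left, O) →+* Γ((openObj V O).left, ⊤) :=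
  O.topIso.inv.hom

theorem toU_bijective (O : V.left.Opens) : Function.Bijective (toU V O) :=
  ConcreteCategory.bijective_of_isIso O.topIso.inv

theorem toU_res {O' O : V.left.Opens} (h : O' ≤ O) (a : Γ(V.left, O)) :
    (oh V h).left.appTop (toU V O a) = toU V O' (V.left.presheaf.map (homOfLE h).op a) := by
  show (V.left.homOfLE h).appTop (O.topIso.inv a) = O'.topIso.inv _
  refine (ConcreteCategory.comp_apply _ _ _).symm.trans (Eq.trans ?_ (ConcreteCategory.comp_apply _ _ _))
  congr 2
  rw [Scheme.homOfLE_appTop, Scheme.Opens.topIso_inv, Scheme.Opens.topIso_inv]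
  refine (V.left.presheaf.map_comp _ _).symm.trans (Eq.trans ?_ (V.left.presheaf.map_comp _ _))
  rfl

theorem res_res {O'' O' O : V.left.Opens} (h : O'' ≤ O') (h' : O' ≤ O) (a : Γ(V.left, O)) :
    V.left.presheaf.map (homOfLE h).op (V.left.presheaf.map (homOfLE h').op a) =
      V.left.presheaf.map (homOfLE (h.trans h')).op a := by
  rw [← ConcreteCategory.comp_apply, ← Functor.map_comp]
  rfl

variable [IsReduced X] [IsNoetherian X]

/-- The section of the generic direct image given by a unit on an open. -/
noncomputable def lu (O : V.left.Opens) (u : (Γ(V.left, O) : Type u)ˣ) :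
    (gmGen X).obj.obj (op (openObj V O)) :=
  (toGen X).hom.app (op (openObj V O)) (gm (openObj V O) (Units.map (toU V O).toMonoidHom u))

theorem lu_res {O' O : V.left.Opens} (h : O' ≤ O) (u : (Γ(V.left, O) : Type u)ˣ) :
    (gmGen X).obj.map (oh V h).op (lu V O u) =
      lu V O' (Units.map (V.left.presheaf.map (homOfLE h).op).hom.toMonoidHom u) := by
  rw [lu, ← NatTrans.naturality_apply, gm_map]
  exact congrArg (fun w => (toGen X).hom.app _ (gm _ w)) (Units.ext (toU_res V h u))

theorem lu_injective (O : V.left.Opens) : Function.Injective (lu V O) := fun a b h => by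
  have h1 := gm_injective _ (LocConst.mono_sections_injective (toGen X) (openObj V O) h)
  exact Units.ext ((toU_bijective V O).1 (congrArg Units.val h1))

/-- An open subset containing the points over generic points. -/
def GenIn (N O : V.left.Opens) : Prop := ∀ w : V.left, w ∈ N → V.hom.base w ∈ genericPoints X → w ∈ O

omit [AlgebraicGeometry.IsReduced X] in
/-- A nonempty open subset contains a point over a generic point. -/
theorem exists_over_generic (N : V.left.Opens) {w : V.left} (hw : w ∈ N) :
    ∃ w', w' ∈ N ∧ V.hom.base w' ∈ genericPoints X := by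
  haveI : Etale V.hom := V.prop
  let O : X.Opens := ⟨V.hom.base '' (N : Set V.left), V.hom.isOpenMap _ N.2⟩
  obtain ⟨η, hη, w', hw', rfl⟩ := exists_genericPoint_mem O (show V.hom.base w ∈ O from ⟨w, hw, rfl⟩)
  exact ⟨w', hw', hη⟩

/-- Functions agreeing near the points over generic points are equal. -/
theorem eq_of_genIn {N O : V.left.Opens} (hO : O ≤ N) (hg : GenIn V N O) (a b : Γ(V.left, N))
    (h : V.left.presheaf.map (homOfLE hO).op a = V.left.presheaf.map (homOfLE hO).op b) : a = b := by
  haveI := isReduced_left V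
  rw [← sub_eq_zero]
  refine eq_zero_of_basicOpen_eq_bot _ (Opens.ext (Set.eq_empty_of_forall_notMem fun w hw => ?_))
  obtain ⟨w', hw', hgen⟩ := exists_over_generic V (V.left.basicOpen (a - b)) hw
  have hN := V.left.basicOpen_le (a - b) hw'
  have h2 : w' ∈ V.left.basicOpen (V.left.presheaf.map (homOfLE hO).op (a - b)) := by
    rw [Scheme.basicOpen_res]
    exact ⟨hg w' hN hgen, hw'⟩
  rw [map_sub, h, sub_self, Scheme.basicOpen_zero] at h2
  exact h2

/-- Restriction to an open containing the points over generic points is bijective. -/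
theorem gmGen_res_bijective {N O : V.left.Opens} (hO : O ≤ N) (hg : GenIn V N O) :
    Function.Bijective ((gmGen X).obj.map (oh V hO).op) := by
  haveI : Etale V.hom := V.prop
  have hiso : ∀ η : Gen X, IsIso ((EtCoh.bc (X.fromSpecStalk η.1)).map (oh V hO)) := fun η => by
    let i := X.fromSpecStalk η.1
    let q := ((EtCoh.bc i).map (oh V hO)).left
    have hsq := EtCoh.isPullback_bc_map i (oh V hO)
    haveI : IsOpenImmersion (oh V hO).left := inferInstanceAs (IsOpenImmersion (V.left.homOfLE hO))
    haveI : IsOpenImmersion q := MorphismProperty.of_isPullback hsq.flip inferInstance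
    haveI : Surjective q := ⟨fun z => by
      let p : pullback (openObj V N).hom i ⟶ (openObj V N).left := pullback.fst _ _
      let w : ↥N := p.base z
      have h0 : V.hom.base w.1 = i.base ((pullback.snd (openObj V N).hom i).base z) :=
        congrArg (fun m : _ ⟶ X => m.base z) (pullback.condition (f := (openObj V N).hom) (g := i))
      have h1 : i.base ((pullback.snd (openObj V N).hom i).base z) ⤳ η.1 :=
        X.range_fromSpecStalk.subset ⟨_, rfl⟩
      have h2 : V.hom.base w.1 ∈ genericPoints X := by
        rw [h0, eq_of_specializes_genericPoints η.2 h1]; exact η.2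
      obtain ⟨z₀, hz₀, -⟩ := Scheme.Pullback.exists_preimage_pullback
        (f := pullback.fst (openObj V N).hom i) (g := (oh V hO).left) z
        (show ↥(openObj V O).left from (⟨w.1, hg w.1 w.2 h2⟩ : ↥O))
        (Subtype.ext (V.left.homOfLE_apply hO (⟨w.1, hg w.1 w.2 h2⟩ : ↥O)).symm)
      exact ⟨hsq.isoPullback.inv.base z₀, (Scheme.Hom.comp_apply _ _ z₀).symm.trans
        ((congrArg (fun m : pullback (pullback.fst (openObj V N).hom i) (oh V hO).left ⟶ pullback (openObj V N).hom i => m.base z₀) hsq.isoPullback_inv_fst).trans hz₀)⟩⟩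
    haveI : IsIso q := isIso_iff_isOpenImmersion_and_surjective q |>.2 ⟨inferInstance, inferInstance⟩
    let r : (EtCoh.bc i).obj (openObj V N) ⟶ (EtCoh.bc i).obj (openObj V O) :=
      MorphismProperty.Over.homMk (inv q) (by
        rw [IsIso.inv_comp_eq]; exact (MorphismProperty.Over.w ((EtCoh.bc i).map (oh V hO))).symm)
    exact ⟨r, MorphismProperty.Over.Hom.ext (IsIso.hom_inv_id q), MorphismProperty.Over.Hom.ext (IsIso.inv_hom_id q)⟩
  have hbij : ∀ η : Gen X, Function.Bijective ((gmAt η.1).obj.map (oh V hO).op) := fun η => by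
    haveI := hiso η
    exact ConcreteCategory.bijective_of_isIso
      ((EtCoh.Gm (Spec (X.presheaf.stalk η.1))).obj.map ((EtCoh.bc (X.fromSpecStalk η.1)).map (oh V hO)).op)
  constructor
  · intro a b h
    refine gmGen_ext _ _ fun η => (hbij η).1 ?_
    rw [← NatTrans.naturality_apply, ← NatTrans.naturality_apply, h]
  · intro y
    classical
    letI := Fintype.ofFinite (Gen X)
    choose x hx using fun η : Gen X => (hbij η).2
      ((biproduct.π (fun η : Gen X => gmAt η.1) η).hom.app (op (openObj V O)) y)
    refine ⟨∑ η : Gen X, (biproduct.ι (fun η : Gen X => gmAt η.1) η).hom.app (op (openObj V N)) (x η),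
      gmGen_ext _ _ fun η => ?_⟩
    rw [NatTrans.naturality_apply, map_sum]
    rw [Finset.sum_eq_single η (fun j _ hj => ?_) (fun h => absurd (Finset.mem_univ η) h)]
    · refine (congrArg _ ?_).trans (hx η)
      exact ConcreteCategory.congr_hom (congrArg (fun m => m.hom.app (op (openObj V N)))
        (biproduct.ι_π_self (fun η : Gen X => gmAt η.1) η)) (x η)
    · exact ConcreteCategory.congr_hom (congrArg (fun m => m.hom.app (op (openObj V N)))
        (biproduct.ι_π_ne (fun η : Gen X => gmAt η.1) hj)) (x j)

variable (X) in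
/-- The quotient of the generic direct image by `𝔾ₘ`. -/
noncomputable abbrev gmQ : EtCoh.Ab X := cokernel (toGen X)

/-- The class of a section of the generic direct image. -/
noncomputable abbrev cls (W : X.Etale) (e : (gmGen X).obj.obj (op W)) : (gmQ X).obj.obj (op W) :=
  (cokernel.π (toGen X)).hom.app (op W) e

theorem cls_lu (O : V.left.Opens) (u : (Γ(V.left, O) : Type u)ˣ) : cls (openObj V O) (lu V O u) = 0 :=
  ConcreteCategory.congr_hom (congrArg (fun m => m.hom.app (op (openObj V O))) (cokernel.condition (toGen X))) _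

/-- A section with trivial class is given by a unit. -/
theorem exists_lu (O : V.left.Opens) (e : (gmGen X).obj.obj (op (openObj V O)))
    (h : cls (openObj V O) e = 0) : ∃ u, lu V O u = e := by
  have hS : (ShortComplex.mk (toGen X) (cokernel.π _) (cokernel.condition _)).ShortExact :=
    CohFin.cokerSeq_shortExact' (toGen X)
  let Γ := sheafToPresheaf X.smallEtaleTopology AddCommGrpCat.{u + 1} ⋙
    (evaluation _ AddCommGrpCat.{u + 1}).obj (op (openObj V O))
  obtain ⟨c, hc⟩ := (ShortComplex.ab_exact_iff _).1
    (hS.exact.map_of_mono_of_preservesKernel Γ hS.mono_f inferInstance) e h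
  obtain ⟨a, rfl⟩ := gm_surjective _ c
  let ε := RingEquiv.ofBijective _ (toU_bijective V O)
  refine ⟨Units.map ε.symm.toRingHom.toMonoidHom a, ?_⟩
  refine Eq.trans ?_ hc
  exact congrArg (fun w => (toGen X).hom.app _ (gm _ w)) (Units.ext (ε.apply_symm_apply _))

/-- `e` is the fraction `a / b` near the points of `N`. -/
def Rep (e : (gmGen X).obj.obj (op V)) (N : V.left.Opens) (a b : Γ(V.left, N)) : Prop :=
  ∃ (O : V.left.Opens) (hO : O ≤ N), GenIn V N O ∧ IsUnit (V.left.presheaf.map (homOfLE hO).op b) ∧
    ∃ u : (Γ(V.left, O) : Type u)ˣ,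
      (u : Γ(V.left, O)) * V.left.presheaf.map (homOfLE hO).op b = V.left.presheaf.map (homOfLE hO).op a ∧
      lu V O u = (gmGen X).obj.map (openHom V O).op e

/-- Fractions restrict. -/
theorem Rep.res {e : (gmGen X).obj.obj (op V)} {N : V.left.Opens} {a b : Γ(V.left, N)} (h : Rep V e N a b)
    {N' : V.left.Opens} (hN : N' ≤ N) :
    Rep V e N' (V.left.presheaf.map (homOfLE hN).op a) (V.left.presheaf.map (homOfLE hN).op b) := by
  obtain ⟨O, hO, hg, hb, u, hu, he⟩ := h
  refine ⟨O ⊓ N', inf_le_right, fun w hw hw' => ⟨hg w (hN hw) hw', hw⟩, ?_,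
    Units.map (V.left.presheaf.map (homOfLE (inf_le_left : O ⊓ N' ≤ O)).op).hom.toMonoidHom u, ?_, ?_⟩
  · rw [res_res]
    have h1 := hb.map (V.left.presheaf.map (homOfLE (inf_le_left : O ⊓ N' ≤ O)).op).hom
    rw [show (V.left.presheaf.map (homOfLE (inf_le_left : O ⊓ N' ≤ O)).op).hom _ = _ from res_res V _ _ b] at h1
    exact h1
  · have h1 := congrArg (V.left.presheaf.map (homOfLE (inf_le_left : O ⊓ N' ≤ O)).op) hu
    rw [map_mul, res_res, res_res] at h1
    rw [res_res, res_res]
    exact h1
  · rw [← lu_res, he, map_oh_openHom]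

/-- The class vanishes near a point where the fraction is a unit. -/
theorem Rep.cls_eq_zero {e : (gmGen X).obj.obj (op V)} {N : V.left.Opens} {a b : Γ(V.left, N)}
    (h : Rep V e N a b) (c : (Γ(V.left, N) : Type u)ˣ) (hc : (c : Γ(V.left, N)) * b = a) :
    cls (openObj V N) ((gmGen X).obj.map (openHom V N).op e) = 0 := by
  obtain ⟨O, hO, hg, hb, u, hu, he⟩ := h
  have hu' : Units.map (V.left.presheaf.map (homOfLE hO).op).hom.toMonoidHom c = u := by
    refine Units.ext (hb.mul_right_cancel ?_)
    rw [hu, ← hc, map_mul]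
    rfl
  have : (gmGen X).obj.map (openHom V N).op e = lu V N c := by
    refine (gmGen_res_bijective V hO hg).1 ?_
    rw [map_oh_openHom, lu_res, hu', he]
  rw [this, cls_lu]

/-- Conversely, where the class vanishes the fraction is a unit. -/
theorem Rep.exists_unit {e : (gmGen X).obj.obj (op V)} {N : V.left.Opens} {a b : Γ(V.left, N)}
    (h : Rep V e N a b) (hz : cls (openObj V N) ((gmGen X).obj.map (openHom V N).op e) = 0) :
    ∃ c : (Γ(V.left, N) : Type u)ˣ, (c : Γ(V.left, N)) * b = a := by
  obtain ⟨c, hc⟩ := exists_lu V N _ hz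
  obtain ⟨O, hO, hg, hb, u, hu, he⟩ := h
  refine ⟨c, eq_of_genIn V hO hg _ _ ?_⟩
  have h1 : Units.map (V.left.presheaf.map (homOfLE hO).op).hom.toMonoidHom c = u := lu_injective V O (by
    rw [← lu_res, hc, map_oh_openHom, he])
  rw [map_mul, ← hu, ← h1]
  rfl

end Groth.FieldPush
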