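import Groth.Agent.EtPbc.DimFunDevissage

/-!
# Vanishing from the higher direct images
-/

set_option autoImplicit false
set_option linter.style.haveILetI false
set_option backward.isDefEq.respectTransparency.types false
set_option maxHeartbeats 1000000

universe u

open CategoryTheory CategoryTheory.Limits CategoryTheory.Abelian AlgebraicGeometry Opposite TopologicalSpace

namespace Groth.FieldPush

open Groth.EtaleBase

variable {S X : Scheme.{u}} (i : S ⟶ X) [PreservesFiniteLimits (EtCoh.pull i)]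

/-- Cohomology on the source vanishes when that of all direct images does. -/
theorem subsingleton_H_of_Rpush_all :
    ∀ (n : ℕ) (G : EtCoh.Ab S), Subsingleton (EtCoh.H X ((EtCoh.push i).obj G) (n + 1)) →
      (∀ p j, 0 < p → j + p = n + 1 → Subsingleton (EtCoh.H X ((EtCoh.Rpush i p).obj G) j)) →
      Subsingleton (EtCoh.H S G (n + 1)) := by
  intro n
  induction n with
  | zero =>
    intro G h0 hR
    haveI := h0
    haveI : (EtCoh.push i).Additive := Adjunction.right_adjoint_additive (EtCoh.pullPushAdj i)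
    let T : ShortComplex (EtCoh.Ab S) :=
      ShortComplex.mk (Injective.ι G) (cokernel.π (Injective.ι G)) (cokernel.condition _)
    have hT : T.ShortExact := CohFin.cokerSeq_shortExact' (Injective.ι G)
    let g : (EtCoh.push i).obj T.X₂ ⟶ (EtCoh.push i).obj T.X₃ := (EtCoh.push i).map T.g
    obtain ⟨e₂⟩ := CohFin.nonempty_rightDerived_one_iso_of_injective (F := EtCoh.push i) hT
    let e₃ : cokernel (Abelian.factorThruCoimage g) ≅ cokernel g :=
      (cokernelEpiComp (Abelian.coimage.π g) (Abelian.factorThruCoimage g)).symm ≪≫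
        cokernelIsoOfEq (Abelian.coimage.fac g)
    haveI : Subsingleton (EtCoh.H X (cokernel (Abelian.factorThruCoimage g)) 0) := by
      haveI := hR 1 0 Nat.one_pos rfl
      exact @Equiv.subsingleton _ _ ((EtCoh.HF X 0).mapIso (e₃ ≪≫ e₂.symm)).addCommGroupIsoToAddEquiv.toEquiv
        (by assumption)
    obtain ⟨e₁⟩ : Nonempty ((EtCoh.push i).obj G ≅ kernel g) :=
      ⟨((isLimitForkMapOfIsLimit' (EtCoh.push i) T.zero hT.fIsKernel).conePointUniqueUpToIso
        (limit.isLimit _))⟩
    haveI : Subsingleton (EtCoh.H X (kernel g) 1) :=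
      @Equiv.subsingleton _ _ ((EtCoh.HF X 1).mapIso e₁).symm.addCommGroupIsoToAddEquiv.toEquiv h0
    refine subsingleton_of_forall_eq 0 fun x => ?_
    obtain ⟨y, rfl⟩ := Ext.covariant_sequence_exact₁ _ hT x (Ext.eq_zero_of_injective (I := Injective.under G) _)
      (n₀ := 0) rfl
    obtain ⟨y, rfl⟩ := (Ext.mk₀_bijective _ _).2 y
    obtain ⟨w, hw⟩ := (GmPic.adjct_bijective i _).2 y
    obtain ⟨v, hv⟩ : ∃ v, v ≫ Abelian.factorThruCoimage g = w := by
      have hU : (ShortComplex.mk (Abelian.factorThruCoimage g) (cokernel.π _) (cokernel.condition _)).ShortExact :=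
        CohFin.cokerSeq_shortExact' (Abelian.factorThruCoimage g)
      obtain ⟨v, hv⟩ := Ext.covariant_sequence_exact₂ _ hU (Ext.mk₀ w)
        (Subsingleton.elim (α := EtCoh.H X (cokernel (Abelian.factorThruCoimage g)) 0) _ _)
      obtain ⟨v, rfl⟩ := (Ext.mk₀_bijective _ _).2 v
      rw [Ext.mk₀_comp_mk₀] at hv
      exact ⟨v, (Ext.mk₀_bijective _ _).1 hv⟩
    obtain ⟨s, hs⟩ : ∃ s, s ≫ g = w := by
      have hU : (ShortComplex.mk (kernel.ι g) (cokernel.π _) (cokernel.condition _)).ShortExact :=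
        CohFin.cokerSeq_shortExact' (kernel.ι g)
      obtain ⟨s, hs⟩ := Ext.covariant_sequence_exact₃ _ hU (Ext.mk₀ v) (zero_add 1)
        (Subsingleton.elim (α := EtCoh.H X (kernel g) 1) _ _)
      obtain ⟨s, rfl⟩ := (Ext.mk₀_bijective _ _).2 s
      rw [Ext.mk₀_comp_mk₀] at hs
      refine ⟨s, ?_⟩
      rw [← hv, ← (Ext.mk₀_bijective _ _).1 hs, Category.assoc]
      exact congrArg (s ≫ ·) (Abelian.coimage.fac g).symm
    rw [← hw, ← hs, GmPic.adjct_comp, ← Ext.mk₀_comp_mk₀_assoc, hT.comp_extClass, Ext.comp_zero]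
  | succ n ih =>
    intro G h0 hR
    haveI := h0
    haveI : (EtCoh.push i).Additive := Adjunction.right_adjoint_additive (EtCoh.pullPushAdj i)
    let T : ShortComplex (EtCoh.Ab S) :=
      ShortComplex.mk (Injective.ι G) (cokernel.π (Injective.ι G)) (cokernel.condition _)
    have hT : T.ShortExact := CohFin.cokerSeq_shortExact' (Injective.ι G)
    have hac := CohFin.rightAcyclic_of_injective (F := EtCoh.push i) T.X₂
    let g : (EtCoh.push i).obj T.X₂ ⟶ (EtCoh.push i).obj T.X₃ := (EtCoh.push i).map T.g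
    obtain ⟨e₂⟩ := CohFin.nonempty_rightDerived_one_iso_of_injective (F := EtCoh.push i) hT
    let e₃ : cokernel (Abelian.factorThruCoimage g) ≅ cokernel g :=
      (cokernelEpiComp (Abelian.coimage.π g) (Abelian.factorThruCoimage g)).symm ≪≫
        cokernelIsoOfEq (Abelian.coimage.fac g)
    haveI : Subsingleton (EtCoh.H X (cokernel (Abelian.factorThruCoimage g)) (n + 1)) := by
      haveI := hR 1 (n + 1) Nat.one_pos rfl
      exact @Equiv.subsingleton _ _ ((EtCoh.HF X (n + 1)).mapIso (e₃ ≪≫ e₂.symm)).addCommGroupIsoToAddEquiv.toEquiv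
        (by assumption)
    haveI : Injective ((EtCoh.push i).obj T.X₂) :=
      Injective.injective_of_adjoint (EtCoh.pullPushAdj i) (J := T.X₂)
    obtain ⟨e₁⟩ : Nonempty ((EtCoh.push i).obj G ≅ kernel g) :=
      ⟨((isLimitForkMapOfIsLimit' (EtCoh.push i) T.zero hT.fIsKernel).conePointUniqueUpToIso
        (limit.isLimit _))⟩
    haveI : Subsingleton (EtCoh.H X (kernel g) (n + 1 + 1)) :=
      @Equiv.subsingleton _ _ ((EtCoh.HF X (n + 1 + 1)).mapIso e₁).symm.addCommGroupIsoToAddEquiv.toEquiv h0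
    haveI : Subsingleton (EtCoh.H X (cokernel (kernel.ι g)) (n + 1)) := by
      refine subsingleton_of_forall_eq 0 fun x => ?_
      have hU : (ShortComplex.mk (kernel.ι g) (cokernel.π _) (cokernel.condition _)).ShortExact :=
        CohFin.cokerSeq_shortExact' (kernel.ι g)
      obtain ⟨y, rfl⟩ := Ext.covariant_sequence_exact₃ _ hU x (show n + 1 + 1 = n + 1 + 1 from rfl)
        (Subsingleton.elim (α := EtCoh.H X (kernel g) (n + 1 + 1)) _ _)
      rw [Ext.eq_zero_of_injective (I := (EtCoh.push i).obj T.X₂) y]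
      exact Ext.zero_comp _ _ _ _ _
    have h3 : Subsingleton (EtCoh.H X ((EtCoh.push i).obj T.X₃) (n + 1)) := by
      refine subsingleton_of_forall_eq 0 fun x => ?_
      have hU : (ShortComplex.mk (Abelian.factorThruCoimage g) (cokernel.π _) (cokernel.condition _)).ShortExact :=
        CohFin.cokerSeq_shortExact' (Abelian.factorThruCoimage g)
      obtain ⟨y, rfl⟩ := Ext.covariant_sequence_exact₂ _ hU x
        (Subsingleton.elim (α := EtCoh.H X (cokernel (Abelian.factorThruCoimage g)) (n + 1)) _ _)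
      rw [Subsingleton.elim (α := EtCoh.H X (cokernel (kernel.ι g)) (n + 1)) y 0]
      exact Ext.zero_comp _ _ _ _ _
    haveI := ih T.X₃ h3 (fun p j hp hpj => by
      obtain ⟨p, rfl⟩ := Nat.exists_eq_succ_of_ne_zero hp.ne'
      obtain ⟨e⟩ := CohFin.nonempty_rightDerived_shift (F := EtCoh.push i) p T hT hac
      haveI := hR (p + 2) j (by omega) (by omega)
      exact @Equiv.subsingleton _ _ ((EtCoh.HF X j).mapIso e).symm.addCommGroupIsoToAddEquiv.toEquiv
        (by assumption))
    refine subsingleton_of_forall_eq 0 fun x => ?_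
    obtain ⟨y, rfl⟩ := Ext.covariant_sequence_exact₁ _ hT x (Ext.eq_zero_of_injective (I := Injective.under G) _)
      (n₀ := n + 1) rfl
    rw [Subsingleton.elim (α := EtCoh.H S T.X₃ (n + 1)) y 0]
    exact Ext.zero_comp _ _ _ _ _

end Groth.FieldPush
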