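import Groth.Agent.S0646
import Groth.Agent.Limits.GlueLocal
import Groth.Agent.EtaleBase.MayerVietoris
import Groth.Agent.EtaleBase.Limit.HpullFunctorial
import Groth.Agent.EtaleBase.StrictVanish

/-!
# Vanishing of cohomology on affine schemes with cohomologically trivial local rings

If all local schemes have no higher cohomology and the first cohomology satisfies the
Mayer–Vietoris kernel condition on basic opens, then all higher cohomology vanishes.
-/

set_option autoImplicit false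

universe u

open CategoryTheory CategoryTheory.Limits CategoryTheory.Abelian AlgebraicGeometry Opposite

namespace Groth.EtPbc.LocalCriterion

open Groth.EtaleBase Groth.EtaleBase.EtLimit Groth.Limits

attribute [local instance] pull_preservesFiniteLimits

variable {X : Scheme.{u}}

/-- An empty scheme has no cohomology. -/
lemma subsingleton_H_of_isEmpty [IsEmpty X] (G : EtCoh.Ab X) (q : ℕ) : Subsingleton (EtCoh.H X G q) := by
  have hz : IsZero (EtCoh.const X ℤ) := by
    rw [IsZero.iff_id_eq_zero]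
    ext U σ
    have : IsEmpty U.unop.left := ⟨fun p => IsEmpty.false (show X from U.unop.hom.base p)⟩
    haveI := subsingleton_sections_of_isEmpty (EtCoh.const X ℤ) U.unop
    exact Subsingleton.elim (α := (EtCoh.const X ℤ).obj.obj (op U.unop)) _ _
  refine ⟨fun a b => ?_⟩
  rw [← Ext.mk₀_id_comp a, ← Ext.mk₀_id_comp b, (IsZero.iff_id_eq_zero _).1 hz, Ext.mk₀_zero,
    Ext.zero_comp, Ext.zero_comp]

/-- Cohomological triviality of the local schemes. -/
def LocalTrivial (X : Scheme.{u}) : Prop :=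
  ∀ (x : X) (G : EtCoh.Ab (Spec (X.presheaf.stalk x))) (q : ℕ), 1 ≤ q →
    Subsingleton (EtCoh.H (Spec (X.presheaf.stalk x)) G q)

/-- Strictly henselian local rings are cohomologically trivial. -/
lemma subsingleton_H_of_iso (R : Type u) [CommRing R] (hR : EtCoh.IsStrictlyHenselianLocalRing R)
    {Y : Scheme.{u}} (e : Y ≅ Spec (CommRingCat.of R)) (G : EtCoh.Ab Y) (q : ℕ) (hq : 1 ≤ q) :
    Subsingleton (EtCoh.H Y G q) := by
  obtain ⟨_, _⟩ := hR
  exact H_subsingleton e.hom G q hq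

variable (F : EtCoh.Ab X)

/-- Restriction between opens. -/
noncomputable def res {V W : X.Opens} (h : V ≤ W) (q : ℕ) :
    EtCoh.H ↑W ((EtCoh.pull W.ι).obj F) q →+ EtCoh.H ↑V ((EtCoh.pull V.ι).obj F) q :=
  EtCore.HpullVia (X.homOfLE h) W.ι V.ι (X.homOfLE_ι h) F q

lemma HpullVia_congr {A B Y : Scheme.{u}} {f f' : A ⟶ B} (hf : f = f') (t : B ⟶ Y) (a : A ⟶ Y)
    (w : f ≫ t = a) (w' : f' ≫ t = a) (G : EtCoh.Ab Y) (q : ℕ) (y : EtCoh.H B ((EtCoh.pull t).obj G) q) :
    EtCore.HpullVia f t a w G q y = EtCore.HpullVia f' t a w' G q y := by subst hf; rfl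

lemma res_res {V W T : X.Opens} (h : V ≤ W) (h' : W ≤ T) (q : ℕ)
    (ξ : EtCoh.H ↑T ((EtCoh.pull T.ι).obj F) q) : res F h q (res F h' q ξ) = res F (h.trans h') q ξ := by
  rw [res, res, res, Groth.DescentBase.HpullVia_comp _ _ T.ι W.ι V.ι _ _ (by simp)]
  exact HpullVia_congr (X.homOfLE_homOfLE h h') _ _ _ _ _ _ _

lemma HpullVia_injective_iso {A B Y : Scheme.{u}} (f : A ⟶ B) (t : B ⟶ Y) (a : A ⟶ Y) (w : f ≫ t = a)
    (G : EtCoh.Ab Y) (q : ℕ) :
    Function.Injective ((EtCoh.HF A q).map (((EtCore.pullComp f t).symm ≪≫ EtCore.pullCongr w).app G).hom) :=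
  ((EtCoh.HF A q).mapIso (((EtCore.pullComp f t).symm ≪≫ EtCore.pullCongr w).app G)).addCommGroupIsoToAddEquiv.injective

lemma HpullVia_eq_zero_iff {A B Y : Scheme.{u}} (f : A ⟶ B) (t : B ⟶ Y) (a : A ⟶ Y) (w : f ≫ t = a)
    (G : EtCoh.Ab Y) (q : ℕ) (y : EtCoh.H B ((EtCoh.pull t).obj G) q) :
    EtCore.HpullVia f t a w G q y = 0 ↔ EtCore.Hpull f ((EtCoh.pull t).obj G) q y = 0 := by
  refine ⟨fun h => HpullVia_injective_iso f t a w G q (h.trans (map_zero _).symm), fun h => ?_⟩
  let E := ((EtCoh.HF A q).mapIso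
    (((EtCore.pullComp f t).symm ≪≫ EtCore.pullCongr w).app G)).addCommGroupIsoToAddEquiv
  exact (congrArg E h).trans E.map_zero

lemma Hpull_zero_of_comp {A B Y : Scheme.{u}} (f : A ⟶ B) (t : B ⟶ Y) (G : EtCoh.Ab Y) (q : ℕ)
    (y : EtCoh.H Y G q) (h : EtCore.Hpull f _ q (EtCore.Hpull t G q y) = 0) :
    EtCore.Hpull (f ≫ t) G q y = 0 := by
  rw [← Hpull_comp_inv f t G q y, h, Ext.zero_comp]

lemma range_homOfLE {V W : X.Opens} (h : V ≤ W) :
    Set.range (X.homOfLE h).base = {p : ↥(W : Scheme.{u}) | (W.ι.base p : X) ∈ V} := by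
  ext p
  constructor
  · rintro ⟨v, rfl⟩
    show W.ι.base ((X.homOfLE h).base v) ∈ V
    rw [← Scheme.Hom.comp_apply, X.homOfLE_ι]
    exact v.2
  · intro hp
    refine ⟨⟨W.ι.base p, hp⟩, W.ι.isOpenEmbedding.injective ?_⟩
    rw [← Scheme.Hom.comp_apply, X.homOfLE_ι]
    rfl

/-- The Mayer–Vietoris kernel, from vanishing on the intersection. -/
theorem eq_zero_of_two {U V W : X.Opens} (hU : U ≤ W) (hV : V ≤ W) (hcov : W ≤ U ⊔ V) (n : ℕ)
    (hsub : Subsingleton (EtCoh.H ↑(U ⊓ V) ((EtCoh.pull (U ⊓ V).ι).obj F) n))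
    (η : EtCoh.H ↑W ((EtCoh.pull W.ι).obj F) (n + 1)) (h₁ : res F hU (n + 1) η = 0)
    (h₂ : res F hV (n + 1) η = 0) : η = 0 := by
  let j := X.homOfLE hU
  let l := X.homOfLE hV
  let k := X.homOfLE ((inf_le_left : U ⊓ V ≤ U).trans hU)
  obtain ⟨δ, -, hker, -, -⟩ := MV.exists_seq j ((EtCoh.pull W.ι).obj F) (X.homOfLE (inf_le_left : U ⊓ V ≤ U)) k
    (X.homOfLE_homOfLE _ _) l (X.homOfLE (inf_le_right : U ⊓ V ≤ V)) (X.homOfLE_homOfLE _ _)
    (fun p => by
      rw [range_homOfLE, range_homOfLE]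
      exact hcov p.2)
    (by
      rw [range_homOfLE, range_homOfLE, range_homOfLE]
      rfl)
  have hz : η ∈ (MV.P j ((EtCoh.pull W.ι).obj F) (n + 1) l).ker := by
    refine AddMonoidHom.mem_ker.2 (Prod.ext ?_ ?_)
    · exact (HpullVia_eq_zero_iff _ _ _ _ F (n + 1) η).1 h₁
    · exact (HpullVia_eq_zero_iff _ _ _ _ F (n + 1) η).1 h₂
  rw [hker n] at hz
  obtain ⟨y, rfl⟩ := hz
  have hy : y = 0 := by
    let e := (EtCore.pullComp k W.ι).symm ≪≫ EtCore.pullCongr (X.homOfLE_ι ((inf_le_left : U ⊓ V ≤ U).trans hU))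
    exact ((EtCoh.HF _ n).mapIso (e.app F)).addCommGroupIsoToAddEquiv.injective
      (@Subsingleton.elim _ hsub _ _)
  rw [hy, map_zero]

/-- The system of basic neighbourhoods, indexed by the opposite order. -/
noncomputable def sys (W : X.Opens) (x : X) : ((BasicNhd W x)ᵒᵈ)ᵒᵖ ⥤ Scheme.{u} where
  obj a := ((OrderDual.ofDual a.unop).1 : Scheme.{u})
  map {_ _} h := X.homOfLE (OrderDual.ofDual_le_ofDual.2 (leOfHom h.unop))
  map_id _ := by simp
  map_comp _ _ := by simp

set_option backward.isDefEq.respectTransparency false in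
/-- The local scheme as a cone. -/
noncomputable def sysCone (W : X.Opens) (x : X) : Cone (sys W x) where
  pt := Spec (X.presheaf.stalk x)
  π :=
    { app := fun a => (OrderDual.ofDual a.unop).1.fromSpecStalkOfMem x (OrderDual.ofDual a.unop).2.1
      naturality := fun a b h => by
        rw [← cancel_mono (OrderDual.ofDual b.unop).1.ι]
        simp [sys] }

lemma nonempty_isLimit_sysCone {W : X.Opens} (hW : IsAffineOpen W) {x : X} (hx : x ∈ W) :
    Nonempty (IsLimit (sysCone W x)) := by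
  obtain ⟨L⟩ := nonempty_isLimit_nhdCone hW hx
  let dual : Cone (sys W x) → Cone (nhdDiagram W x) := fun s =>
    { pt := s.pt
      π :=
        { app := fun V => s.π.app (op (OrderDual.toDual V))
          naturality := fun V V' h => by
            have := s.w (j := op (OrderDual.toDual V)) (j' := op (OrderDual.toDual V'))
              (homOfLE (OrderDual.toDual_le_toDual.2 (leOfHom h))).op
            simpa [nhdDiagram, sys] using this.symm } }
  exact ⟨{ lift := fun s => L.lift (dual s)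
           fac := fun s a => L.fac (dual s) (OrderDual.ofDual a.unop)
           uniq := fun s m hm => L.uniq (dual s) m fun V => hm (op (OrderDual.toDual V)) }⟩

/-- Classes vanish near each point. -/
theorem exists_basicOpen_zero [IsAffine X] (hX : LocalTrivial X) (h : Γ(X, ⊤)) (q : ℕ) (hq : 1 ≤ q)
    (ξ : EtCoh.H ↑(X.basicOpen h) ((EtCoh.pull (X.basicOpen h).ι).obj F) q) (x : X)
    (hx : x ∈ X.basicOpen h) :
    ∃ g : Γ(X, ⊤), x ∈ X.basicOpen g ∧ ∀ hle : X.basicOpen (g * h) ≤ X.basicOpen h, res F hle q ξ = 0 := by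
  let W := X.basicOpen h
  have hW : IsAffineOpen W := (isAffineOpen_top X).basicOpen h
  let ι := (BasicNhd W x)ᵒᵈ
  haveI : IsDirectedOrder ι := inferInstanceAs (IsDirectedOrder (BasicNhd W x)ᵒᵈ)
  let i₀ : ι := OrderDual.toDual (BasicNhd.top hx)
  have haff : ∀ a : ιᵒᵖ, IsAffine ((sys W x).obj a) := fun a => isAffineOpen_nhd hW (OrderDual.ofDual a.unop)
  haveI := haff
  have hle₀ : (BasicNhd.top hx).1 ≤ W := X.basicOpen_le _
  let ξ₀ : EtCoh.H ((sys W x).obj (op i₀)) ((EtCoh.pull (BasicNhd.top hx).1.ι).obj F) q := res F hle₀ q ξ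
  obtain ⟨lim⟩ := nonempty_isLimit_sysCone hW hx
  obtain ⟨-, hinj⟩ := Groth.Agent.S0646.result (sys W x) (fun a b f => inferInstance)
    (fun a => inferInstance) (fun a => inferInstance) (sysCone W x) lim i₀
    ((EtCoh.pull (BasicNhd.top hx).1.ι).obj F) q
  obtain ⟨k, hk, hz⟩ := hinj i₀ le_rfl (EtCore.Hpull _ _ q ξ₀) (@Subsingleton.elim _ (hX x _ q hq) _ _)
  obtain ⟨g, hg, hgx⟩ := (isAffineOpen_top X).exists_basicOpen_le
    (V := (OrderDual.ofDual k).1) ⟨x, (OrderDual.ofDual k).2.1⟩ (Set.mem_univ x)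
  refine ⟨g, hgx, fun hle => ?_⟩
  have h1 := Hpull_zero_of_comp _ _ _ q ξ₀ hz
  have hk' : (OrderDual.ofDual k).1 ≤ (BasicNhd.top hx).1 := OrderDual.ofDual_le_ofDual.2 hk
  have e : (sys W x).map (homOfLE hk).op ≫ (sys W x).map (homOfLE (le_refl i₀)).op = X.homOfLE hk' := by
    simp [sys]
    rfl
  have h2 : EtCore.Hpull (X.homOfLE hk') _ q ξ₀ = 0 := by
    revert h1
    rw [e]
    exact id
  have h3 : res F hk' q ξ₀ = 0 := (HpullVia_eq_zero_iff _ _ _ _ F q ξ₀).2 h2
  have hle' : X.basicOpen (g * h) ≤ (OrderDual.ofDual k).1 :=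
    ((X.basicOpen_mul g h).trans_le inf_le_left).trans hg
  calc res F hle q ξ = res F hle' q (res F hk' q ξ₀) := by
        rw [res_res, show ξ₀ = res F hle₀ q ξ from rfl, res_res]
    _ = 0 := by rw [h3, map_zero]

/-- The kernel condition in degree one. -/
def H1Kernel (F : EtCoh.Ab X) : Prop :=
  ∀ (f g : Γ(X, ⊤)) (ξ : EtCoh.H ↑(X.basicOpen (f + g)) ((EtCoh.pull (X.basicOpen (f + g)).ι).obj F) 1),
    res F ((X.basicOpen_mul f (f + g)).trans_le inf_le_right) 1 ξ = 0 →
      res F ((X.basicOpen_mul g (f + g)).trans_le inf_le_right) 1 ξ = 0 → ξ = 0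

/-- Higher cohomology of basic opens vanishes. -/
theorem subsingleton_basicOpen [IsAffine X] (hX : LocalTrivial X) (hker : H1Kernel F) :
    ∀ (n : ℕ) (h : Γ(X, ⊤)),
      Subsingleton (EtCoh.H ↑(X.basicOpen h) ((EtCoh.pull (X.basicOpen h).ι).obj F) (n + 1)) := by
  intro n
  induction n using Nat.strong_induction_on with
  | _ n ih => ?_
  intro h
  suffices ∀ ξ : EtCoh.H ↑(X.basicOpen h) ((EtCoh.pull (X.basicOpen h).ι).obj F) (n + 1), ξ = 0 from
    ⟨fun a b => (this a).trans (this b).symm⟩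
  intro ξ
  have hle : ∀ g : Γ(X, ⊤), X.basicOpen (g * h) ≤ X.basicOpen h := fun g =>
    (X.basicOpen_mul g h).trans_le inf_le_right
  let good : Set Γ(X, ⊤) := {g | res F (hle g) (n + 1) ξ = 0}
  have hmul : ∀ a g, g ∈ good → a * g ∈ good := fun a g hg => by
    have h' : X.basicOpen (a * g * h) ≤ X.basicOpen (g * h) := by
      rw [mul_assoc]; exact (X.basicOpen_mul a (g * h)).trans_le inf_le_right
    show res F (hle (a * g)) (n + 1) ξ = 0
    rw [← res_res F h' (hle g), show res F (hle g) (n + 1) ξ = 0 from hg, map_zero]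
  have hzero : (0 : Γ(X, ⊤)) ∈ good := by
    have hbot : X.basicOpen (0 * h) = ⊥ := by rw [zero_mul, Scheme.basicOpen_zero]
    haveI : IsEmpty ↥(X.basicOpen (0 * h) : Scheme.{u}) := ⟨fun p => by
      have := hbot.le p.2
      exact this⟩
    exact @Subsingleton.elim _ (subsingleton_H_of_isEmpty _ _) _ _
  have hadd : ∀ a b, a ∈ good → b ∈ good → a + b ∈ good := by
    intro a b ha hb
    let f := a * h
    let g := b * h
    have hW : X.basicOpen ((a + b) * h) = X.basicOpen (f + g) := by rw [add_mul]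
    have hWh : X.basicOpen (f + g) ≤ X.basicOpen h := hW.ge.trans (hle (a + b))
    let η := res F hWh (n + 1) ξ
    suffices η = 0 by
      show res F (hle (a + b)) (n + 1) ξ = 0
      rw [← res_res F hW.le hWh]
      exact (congrArg _ this).trans (map_zero _)
    have hUW := (X.basicOpen_mul f (f + g)).trans_le inf_le_right
    have hVW := (X.basicOpen_mul g (f + g)).trans_le inf_le_right
    have h₁ : res F hUW (n + 1) η = 0 := by
      rw [res_res, ← res_res F ((X.basicOpen_mul f (f + g)).trans_le inf_le_left) (hle a),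
        show res F (hle a) (n + 1) ξ = 0 from ha, map_zero]
    have h₂ : res F hVW (n + 1) η = 0 := by
      rw [res_res, ← res_res F ((X.basicOpen_mul g (f + g)).trans_le inf_le_left) (hle b),
        show res F (hle b) (n + 1) ξ = 0 from hb, map_zero]
    rcases n with _ | m
    · exact hker f g η h₁ h₂
    · refine eq_zero_of_two F hUW hVW (fun p hp => ?_) (m + 1) ?_ η h₁ h₂
      · rcases (X.basicOpen_add_le f g) hp with hpf | hpg
        · exact Or.inl (by rw [X.basicOpen_mul]; exact ⟨hpf, hp⟩)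
        · exact Or.inr (by rw [X.basicOpen_mul]; exact ⟨hpg, hp⟩)
      · rw [← X.basicOpen_mul]
        exact ih m (Nat.lt_succ_self m) _
  let I : Ideal Γ(X, ⊤) :=
    { carrier := good
      zero_mem' := hzero
      add_mem' := fun ha hb => hadd _ _ ha hb
      smul_mem' := fun a g hg => hmul a g hg }
  have hrad : h ∈ I.radical := by
    rw [Ideal.radical_eq_sInf, Ideal.mem_sInf]
    intro P hP
    haveI := hP.2
    by_contra hh
    let x : X := (isAffineOpen_top X).fromSpec ⟨P, hP.2⟩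
    have hxb : ∀ g : Γ(X, ⊤), x ∈ X.basicOpen g ↔ g ∉ P := fun g => by
      show (⟨P, hP.2⟩ : PrimeSpectrum Γ(X, ⊤)) ∈ (isAffineOpen_top X).fromSpec ⁻¹ᵁ X.basicOpen g ↔ _
      rw [(isAffineOpen_top X).fromSpec_preimage_basicOpen]
      rfl
    obtain ⟨g, hgx, hg⟩ := exists_basicOpen_zero F hX h (n + 1) (Nat.le_add_left 1 n) ξ x ((hxb h).2 hh)
    exact (hxb g).1 hgx (hP.1 (hg (hle g)))
  obtain ⟨m, hm⟩ := hrad
  have e : X.basicOpen h ≤ X.basicOpen (h ^ m * h) := by
    rw [← pow_succ, X.basicOpen_pow h (Nat.succ_pos m)]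
  have hzero' : res F (hle (h ^ m)) (n + 1) ξ = 0 := hm
  have := congrArg (res F e (n + 1)) hzero'
  rw [res_res, map_zero] at this
  have hid : res F (le_refl (X.basicOpen h)) (n + 1) ξ = ξ := by
    refine (HpullVia_congr (X.homOfLE_rfl _) _ _ _ (Category.id_comp _) F _ ξ).trans ?_
    rw [Groth.DescentBase.HpullVia_id]
    rfl
  exact hid.symm.trans this

/-- Higher cohomology vanishes. -/
theorem subsingleton_H [IsAffine X] (hX : LocalTrivial X) (hker : H1Kernel F) (q : ℕ) (hq : 1 ≤ q) :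
    Subsingleton (EtCoh.H X F q) := by
  obtain ⟨n, rfl⟩ := Nat.exists_eq_succ_of_ne_zero (by omega : q ≠ 0)
  have htop : X.basicOpen (1 : Γ(X, ⊤)) = ⊤ := X.basicOpen_of_isUnit isUnit_one
  haveI : IsIso (X.basicOpen (1 : Γ(X, ⊤))).ι := by
    rw [htop]; exact X.topIso.isIso_hom
  have := subsingleton_basicOpen F hX hker n 1
  exact (InjCoh.Hpull_bijective_univHomeo (X.basicOpen (1 : Γ(X, ⊤))).ι F (n + 1)).1.subsingleton

end Groth.EtPbc.LocalCriterion
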