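import Groth.Agent.EtPbc.ProperStalk
import Groth.Agent.EtaleBase.BaseChange0

/-!
# Proper base change in degree zero
-/

set_option autoImplicit false
set_option linter.style.haveILetI false
set_option backward.isDefEq.respectTransparency.types false

universe u

open CategoryTheory CategoryTheory.Limits AlgebraicGeometry Opposite

namespace Groth.EtPbc.ProperBC0

open Groth.EtaleBase Groth.EtaleBase.EtLimit PullTop ProperStalk

variable {X Y X' Y' : Scheme.{u}} (f : X ⟶ Y) (g : Y' ⟶ Y) (f' : X' ⟶ Y') (g' : X' ⟶ X)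
  (h : IsPullback g' f' f g) (F : EtCoh.Ab X) {Ω : Type u} [Field Ω] [IsAlgClosed Ω]
  (η' : Spec (CommRingCat.of Ω) ⟶ Y')

/-- Base change on stalks is restriction to the common geometric fibre. -/
theorem toFibre_baseChange0 (V : Y.Etale) (s : (Scheme.pointSmallEtale (η' ≫ g)).fiber.obj V)
    (σ : F.obj.obj (op ((EtCoh.bc f).obj V))) :
    via (pullback.fst f' η') g' rfl F
        (toFibre f' η' (IsPullback.of_hasPullback f' η') ((EtCoh.pull g').obj F)
          ((EtCoh.stalk η').map (EtCoh.baseChange0 f g f' g' h.w F)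
            ((stalkPullIso g η').hom.app _ (germ (η' ≫ g) ((EtCoh.push f).obj F) V s σ)))) =
      toFibre f (η' ≫ g) ((IsPullback.of_hasPullback f' η').paste_horiz h) F
        (germ (η' ≫ g) ((EtCoh.push f).obj F) V s σ) := by
  let sq' := IsPullback.of_hasPullback f' η'
  let t' := pushLift g η' rfl V s
  let W' := (EtCoh.bc g).obj V
  let φ := bcSq f g f' g' h.w V
  let m := fibMap f' η' sq' W' t' ≫ φ.left
  have hm : m ≫ ((EtCoh.bc g').obj ((EtCoh.bc f).obj V)).hom = pullback.fst f' η' :=
    (Category.assoc _ _ _).trans ((congrArg (fibMap f' η' sq' W' t' ≫ ·) (Over.w φ.hom)).trans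
      (fibMap_hom f' η' sq' W' t'))
  have hfst : m ≫ pullback.fst ((EtCoh.bc f).obj V).hom g' =
      fibMap f (η' ≫ g) (sq'.paste_horiz h) V s := by
    refine pullback.hom_ext ?_ ?_
    · refine (Category.assoc _ _ _).trans ((Category.assoc _ _ _).trans
        ((congrArg (fibMap f' η' sq' W' t' ≫ ·) (bcSq_fst f g f' g' h.w V)).trans ?_))
      refine (Category.assoc _ _ _).symm.trans ((congrArg (· ≫ pullback.fst V.hom g) (pullback.lift_fst _ _ _)).trans ?_)
      refine (Category.assoc _ _ _).trans ((congrArg (pullback.snd f' η' ≫ ·) (pushLift_fst g η' rfl V s)).trans ?_)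
      exact (pullback.lift_fst _ _ _).symm
    · refine Eq.trans ?_ (pullback.lift_snd _ _ _).symm
      refine (Category.assoc _ _ _).trans ((congrArg (m ≫ ·) pullback.condition).trans ?_)
      exact (Category.assoc _ _ _).symm.trans (congrArg (· ≫ g') hm)
  let σ₁ := ((EtCoh.pullPushAdj g').unit.app F).hom.app (op ((EtCoh.bc f).obj V)) σ
  have e1 := stalk_baseChange0_germ f g f' g' h F η' V s σ
  have e2 := toFibre_germ f' η' sq' ((EtCoh.pull g').obj F) W' t' (((EtCoh.pull g').obj F).obj.map φ.op σ₁)
  have e3 : value f' η' sq' ((EtCoh.pull g').obj F) W' t' (((EtCoh.pull g').obj F).obj.map φ.op σ₁) =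
      EtLimit.sec (pullback.fst f' η') _ m hm ((EtCoh.pull g').obj F) σ₁ :=
    EtLimit.sec_res (pullback.fst f' η') _ m hm φ (fibMap f' η' sq' W' t') (fibMap_hom f' η' sq' W' t') rfl _ σ₁
  have e4 := EtLimit.via_sec (pullback.fst f' η') g' rfl F ((EtCoh.bc f).obj V) m hm
      (fibMap f (η' ≫ g) (sq'.paste_horiz h) V s) (fibMap_hom f (η' ≫ g) (sq'.paste_horiz h) V s) hfst σ
  exact (congrArg (via (pullback.fst f' η') g' rfl F)
    ((congrArg (toFibre f' η' sq' ((EtCoh.pull g').obj F)) e1).trans (e2.trans e3))).trans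
    (e4.trans (toFibre_germ f (η' ≫ g) (sq'.paste_horiz h) F V s σ).symm)

variable [IsProper f]

include h in
omit η' [Field Ω] [IsAlgClosed Ω] in
/-- Proper base change in degree zero. -/
theorem isIso_baseChange0 : IsIso (EtCoh.baseChange0 f g f' g' h.w F) := by
  haveI : IsProper f' := MorphismProperty.of_isPullback h ‹_›
  refine isIso_of_exists_stalk _ fun y => ?_
  let K := AlgebraicClosure (Y'.residueField y)
  let η : Spec (CommRingCat.of K) ⟶ Y' :=
    Spec.map (CommRingCat.ofHom (algebraMap (Y'.residueField y) K)) ≫ Y'.fromSpecResidueField y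
  refine ⟨K, inferInstance, inferInstance, η, Scheme.fromSpecResidueField_apply y _, ?_⟩
  let T := fun b => via (pullback.fst f' η) g' rfl F
    (toFibre f' η (IsPullback.of_hasPullback f' η) ((EtCoh.pull g').obj F) b)
  have hT : Function.Bijective T :=
    (bijective_via (pullback.fst f' η) g' rfl F).comp (bijective_toFibre f' η _ _)
  refine (Function.Bijective.of_comp_iff' hT _).1 ?_
  refine (Function.Bijective.of_comp_iff _
    ((ConcreteCategory.isIso_iff_bijective ((stalkPullIso g η).hom.app ((EtCoh.push f).obj F))).1 inferInstance)).1 ?_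
  refine (congrArg Function.Bijective (funext fun a => ?_)).mpr
    (bijective_toFibre f (η ≫ g) ((IsPullback.of_hasPullback f' η).paste_horiz h) F)
  obtain ⟨V, s, σ, rfl⟩ := germ_surjective _ _ a
  exact toFibre_baseChange0 f g f' g' h F η V s σ

end Groth.EtPbc.ProperBC0
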