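import Groth.Agent.EtPbc.PullTop
import Groth.Agent.EtPbc.HensPairSections
import Groth.Agent.EtaleBase.Limit.StalkPush
import Groth.Agent.AlgSpEt.StrictHens

/-!
# Stalks of direct images along proper morphisms
-/

set_option autoImplicit false
set_option linter.style.haveILetI false
set_option backward.isDefEq.respectTransparency.types false

universe u

open CategoryTheory CategoryTheory.Limits AlgebraicGeometry Opposite

namespace Groth.EtPbc.ProperStalk

open Groth.EtaleBase Groth.EtaleBase.EtLimit PullTop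

variable {X Y : Scheme.{u}} (f : X ⟶ Y) {Ω : Type u} [Field Ω] [IsSepClosed Ω]
  (ξ : Spec (CommRingCat.of Ω) ⟶ Y) {Q : Scheme.{u}} {p : Q ⟶ X} {q : Q ⟶ Spec (CommRingCat.of Ω)}
  (sq : IsPullback p q f ξ)

/-- The map of the geometric fibre to a neighbourhood. -/
noncomputable def fibMap (V : Y.Etale) (t : (Scheme.pointSmallEtale ξ).fiber.obj V) :
    Q ⟶ ((EtCoh.bc f).obj V).left :=
  pullback.lift (q ≫ t.left) p
    ((Category.assoc _ _ _).trans ((congrArg (q ≫ ·) (Over.w t)).trans sq.w.symm))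

theorem fibMap_hom (V : Y.Etale) (t : (Scheme.pointSmallEtale ξ).fiber.obj V) :
    fibMap f ξ sq V t ≫ ((EtCoh.bc f).obj V).hom = p :=
  pullback.lift_snd _ _ _

theorem fibMap_comp {V W : Y.Etale} (g : W ⟶ V) (t : (Scheme.pointSmallEtale ξ).fiber.obj W) :
    fibMap f ξ sq W t ≫ ((EtCoh.bc f).map g).left =
      fibMap f ξ sq V ((Scheme.pointSmallEtale ξ).fiber.map g t) := by
  refine pullback.hom_ext ?_ ?_
  · refine ((Category.assoc _ _ _).trans ((congrArg (_ ≫ ·) (pullback.lift_fst _ _ _)).trans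
      ((Category.assoc _ _ _).symm.trans (congrArg (· ≫ g.left) (pullback.lift_fst _ _ _))))).trans ?_
    exact (Category.assoc _ _ _).trans (pullback.lift_fst _ _ _).symm
  · exact ((Category.assoc _ _ _).trans ((congrArg (_ ≫ ·) (pullback.lift_snd _ _ _)).trans
      (pullback.lift_snd _ _ _))).trans (pullback.lift_snd _ _ _).symm

variable (F : EtCoh.Ab X)

/-- The value on the geometric fibre of a section on a neighbourhood. -/
noncomputable def value (V : Y.Etale) (t : (Scheme.pointSmallEtale ξ).fiber.obj V) :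
    F.obj.obj (op ((EtCoh.bc f).obj V)) ⟶ ((EtCoh.pull p).obj F).obj.obj (op (EtCoh.top Q)) :=
  sec p ((EtCoh.bc f).obj V) (fibMap f ξ sq V t) (fibMap_hom f ξ sq V t) F

theorem value_res {V W : Y.Etale} (g : W ⟶ V) (t : (Scheme.pointSmallEtale ξ).fiber.obj W)
    (σ : F.obj.obj (op ((EtCoh.bc f).obj V))) :
    value f ξ sq F W t (F.obj.map ((EtCoh.bc f).map g).op σ) =
      value f ξ sq F V ((Scheme.pointSmallEtale ξ).fiber.map g t) σ :=
  sec_res p _ _ (fibMap_hom f ξ sq V _) ((EtCoh.bc f).map g) _ (fibMap_hom f ξ sq W t)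
    (fibMap_comp f ξ sq g t) F σ

/-- Restriction of the stalk to the geometric fibre. -/
noncomputable def toFibre :
    (EtCoh.stalk ξ).obj ((EtCoh.push f).obj F) ⟶ ((EtCoh.pull p).obj F).obj.obj (op (EtCoh.top Q)) :=
  (Scheme.pointSmallEtale ξ).presheafFiberDesc (P := ((EtCoh.push f).obj F).obj)
    (fun V t => value f ξ sq F V t)
    (fun {W V} g t => by
      ext σ
      exact value_res f ξ sq F g t σ)

theorem toFibre_germ (V : Y.Etale) (t : (Scheme.pointSmallEtale ξ).fiber.obj V)
    (σ : F.obj.obj (op ((EtCoh.bc f).obj V))) :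
    toFibre f ξ sq F (germ ξ ((EtCoh.push f).obj F) V t σ) = value f ξ sq F V t σ :=
  ConcreteCategory.congr_hom ((Scheme.pointSmallEtale ξ).toPresheafFiber_presheafFiberDesc
    (P := ((EtCoh.push f).obj F).obj) _ _ V t) σ

/-- The point of the strict localization. -/
theorem ev_localCone {ι : Type u} [Preorder ι] (K : ι ⥤ (Nbhd ξ)ᵒᵖ)
    [hK : ∀ i, IsAffine (K.obj i).unop.1.left] (i : ι) :
    Spec.map (EtLocalRing.ev ξ) ≫ (localCone ξ K).π.app (op i) = (K.obj i).unop.2.left := by
  let U := (K.obj i).unop.1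
  let t := (K.obj i).unop.2
  show Spec.map (EtLocalRing.ev ξ) ≫ (Spec.map (EtLocalRing.gm ξ U t) ≫ U.left.isoSpec.inv) = t.left
  have e : EtLocalRing.gm ξ U t ≫ EtLocalRing.ev ξ = EtLocalRing.evAt ξ U t := by
    ext σ
    exact EtLocalRing.ev_gm ξ U t σ
  rw [← Category.assoc, ← Spec.map_comp, e, Iso.comp_inv_eq, Scheme.isoSpec_hom, EtLocalRing.evAt,
    Spec.map_comp, Scheme.toSpecΓ_naturality]
  rw [← Scheme.isoSpec_Spec_hom]
  rfl

variable [IsProper f]

omit F in
/-- Sections on a proper scheme over the strict localization are sections on the geometric fibre. -/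
theorem bijective_pullTop_fibre {A : CommRingCat.{u}} [HenselianLocalRing A]
    [IsSepClosed (IsLocalRing.ResidueField A)] {X' : Scheme.{u}} (f' : X' ⟶ Spec A) [IsProper f']
    (e : A ⟶ CommRingCat.of Ω) [IsLocalHom e.hom] (k : Q ⟶ X')
    (sq' : IsPullback k q f' (Spec.map e)) (G : EtCoh.Ab X') :
    Function.Bijective (pullTop k G) := by
  let κ := IsLocalRing.ResidueField A
  let L : κ →+* Ω := IsLocalRing.ResidueField.lift e.hom
  letI : Algebra κ Ω := L.toAlgebra
  let r : Spec (CommRingCat.of κ) ⟶ Spec A :=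
    Spec.map (CommRingCat.ofHom (Ideal.Quotient.mk (IsLocalRing.maximalIdeal A)))
  let a : Spec (CommRingCat.of Ω) ⟶ Spec (CommRingCat.of κ) := Spec.map (CommRingCat.ofHom (algebraMap κ Ω))
  have ha : a ≫ r = Spec.map e := by
    rw [← Spec.map_comp]
    exact congrArg Spec.map (CommRingCat.hom_ext (RingHom.ext fun x => rfl))
  let i₀ := pullback.fst f' r
  let k₂ : Q ⟶ pullback f' r := pullback.lift k (q ≫ a) (by rw [Category.assoc, ha, sq'.w])
  have hk₂ : IsPullback k₂ q (pullback.snd f' r) a := by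
    refine IsPullback.of_right ?_ (pullback.lift_snd _ _ _) (IsPullback.of_hasPullback f' r)
    rw [pullback.lift_fst, ha]
    exact sq'
  refine bijective_pullTop_comp k₂ i₀ (pullback.lift_fst _ _ _) G (bijective_pullTop _ _ ?_)
    (bijective_pullTop _ _ (HensPairSections.bijective_un_pullback (IsLocalRing.maximalIdeal A) f' G))
  haveI : GeometricallyConnected a := ConnFib.geometricallyConnected_field
  haveI : Flat a := by
    rw [HasRingHomProperty.Spec_iff (P := @Flat)]
    exact RingHom.flat_algebraMap_iff.2 inferInstance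
  haveI : GeometricallyConnected k₂ := MorphismProperty.of_isPullback hk₂.flip ‹_›
  haveI : Flat k₂ := MorphismProperty.of_isPullback hk₂.flip ‹_›
  haveI : QuasiCompact k₂ := MorphismProperty.of_isPullback hk₂.flip (inferInstance : QuasiCompact a)
  exact ConnFib.un_top_bijective_of_flat _
    (fun K _ _ s => (inferInstance : GeometricallyConnected k₂).geometrically_connectedSpace _ _ _
      (.of_hasPullback _ _)) _

/-- The stalk of a direct image along a proper morphism is the group of sections on the geometric fibre. -/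
theorem bijective_toFibre : Function.Bijective (toFibre f ξ sq F) := by
  obtain ⟨ι, _, _, _, K, _, hK⟩ := exists_affine_system ξ
  let V := nbhdSystem ξ K
  haveI : ∀ j, IsAffine (V.obj j).left := fun j => hK j.unop
  let A := EtBase.etaleLocalRing ξ
  obtain ⟨hh, hs⟩ := EtLocalRing.isStrictlyHenselian ξ
  haveI := hh
  haveI := hs
  let e : A ⟶ CommRingCat.of Ω := EtLocalRing.ev ξ
  haveI : IsLocalHom e.hom := ⟨fun a ha => (EtLocalRing.isUnit_iff_ev_ne_zero ξ a).2 ha.ne_zero⟩
  let σA : Spec A ⟶ Y := Spec.map (Groth.AlgSpEt.StrictLocal.toEtale ξ) ≫ Y.fromSpecStalk (ξ default)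
  let c := bcCone f V (localCone ξ K) σA (localCone_hom ξ K)
  let hc : IsLimit c := isLimitBcCone f V (localCone ξ K) σA (localCone_hom ξ K) (isLimitLocalCone ξ K)
  let g : pullback f σA ⟶ X := pullback.fst f σA
  have hg : ∀ j, proj (schemes (V ⋙ EtCoh.bc f)) c j ≫ struct (V ⋙ EtCoh.bc f) j = g :=
    bcCone_struct f V (localCone ξ K) σA (localCone_hom ξ K)
  have hpt : ∀ i, Spec.map e ≫ (localCone ξ K).π.app (op i) = (K.obj i).unop.2.left := ev_localCone ξ K
  have hξ : Spec.map e ≫ σA = ξ := by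
    obtain ⟨i⟩ := (inferInstance : Nonempty ι)
    refine (congrArg (Spec.map e ≫ ·) (localCone_hom ξ K i).symm).trans ?_
    exact (Category.assoc _ _ _).symm.trans ((congrArg (· ≫ _) (hpt i)).trans (Over.w (K.obj i).unop.2))
  let k : Q ⟶ pullback f σA := pullback.lift p (q ≫ Spec.map e) (by rw [Category.assoc, hξ, sq.w])
  have sq' : IsPullback k q (pullback.snd f σA) (Spec.map e) := by
    refine IsPullback.of_right ?_ (pullback.lift_snd _ _ _) (IsPullback.of_hasPullback f σA)
    rw [pullback.lift_fst, hξ]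
    exact sq
  have hbij := fun G => bijective_pullTop_fibre (pullback.snd f σA) e k sq' G
  have hk : k ≫ g = p := pullback.lift_fst _ _ _
  have hval : ∀ (i : ι) (y : F.obj.obj (op ((EtCoh.bc f).obj (V.obj (op i))))),
      via k g hk F (pullTop k _ (sectTo (V ⋙ EtCoh.bc f) c g hg i F y)) =
        value f ξ sq F (V.obj (op i)) (K.obj i).unop.2 y := fun i y => by
    refine via_pullTop_sec k g hk F ((V ⋙ EtCoh.bc f).obj (op i)) (proj (schemes (V ⋙ EtCoh.bc f)) c i) (hg i) _
      (fibMap_hom f ξ sq _ _) ?_ y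
    refine pullback.hom_ext ?_ ?_
    · refine ((Category.assoc _ _ _).trans ((congrArg (k ≫ ·) (pullback.lift_fst _ _ _)).trans
        ((Category.assoc _ _ _).symm.trans (congrArg (· ≫ _) (pullback.lift_snd _ _ _))))).trans ?_
      exact (Category.assoc _ _ _).trans ((congrArg (q ≫ ·) (hpt i)).trans (pullback.lift_fst _ _ _).symm)
    · exact ((Category.assoc _ _ _).trans ((congrArg (k ≫ ·) (pullback.lift_snd _ _ _)).trans hk)).trans
        (pullback.lift_snd _ _ _).symm
  refine ⟨(injective_iff_map_eq_zero _).2 fun a ha => ?_, fun τ => ?_⟩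
  · obtain ⟨U, t, σ, rfl⟩ := germ_surjective _ _ a
    rw [toFibre_germ] at ha
    obtain ⟨⟨⟨⟩, i, m⟩⟩ : Nonempty (StructuredArrow (op (Functor.elementsMk (Scheme.pointSmallEtale ξ).fiber U t)) K) := inferInstance
    let φ : V.obj (op i) ⟶ U := m.unop.1
    have hφ : (Scheme.pointSmallEtale ξ).fiber.map φ (K.obj i).unop.2 = t := m.unop.2
    let σ' := F.obj.map ((EtCoh.bc f).map φ).op σ
    have h0 : sectTo (V ⋙ EtCoh.bc f) c g hg i F σ' = 0 := by
      refine (hbij _).1 ((bijective_via k g hk F).1 ?_)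
      refine ((hval i σ').trans ?_).trans ((congrArg _ (map_zero _)).trans (map_zero _)).symm
      exact (value_res f ξ sq F φ _ σ).trans (hφ.symm ▸ ha)
    obtain ⟨i', hii', hz⟩ := exists_sectTo_eq_zero (V ⋙ EtCoh.bc f) c g hg hc F i σ' h0
    refine (germ_eq_zero_iff ξ _ _ _ _).2
      ⟨V.obj (op i'), V.map (homOfLE hii').op ≫ φ, (K.obj i').unop.2, ?_, ?_⟩
    · rw [← hφ, ← (K.map (homOfLE hii')).unop.2]
      exact ConcreteCategory.congr_hom ((Scheme.pointSmallEtale ξ).fiber.map_comp _ φ) _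
    · refine Eq.trans ?_ hz
      show F.obj.map ((EtCoh.bc f).map (V.map (homOfLE hii').op ≫ φ)).op σ = _
      rw [Functor.map_comp]
      exact (mapMap F.obj _ _ σ).symm
  · obtain ⟨z, hz⟩ := ((bijective_via k g hk F).comp (hbij _)).2 τ
    obtain ⟨i, y, hy⟩ := exists_sectTo_eq (V ⋙ EtCoh.bc f) c g hg hc F z
    refine ⟨germ ξ ((EtCoh.push f).obj F) (V.obj (op i)) (K.obj i).unop.2 y, ?_⟩
    exact (toFibre_germ f ξ sq F _ _ y).trans ((hval i y).symm.trans ((congrArg (fun z => via k g hk F (pullTop k _ z)) hy).trans hz))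

end Groth.EtPbc.ProperStalk
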