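import Groth.Agent.EtaleBase.ConnectedFibresFlat
import Groth.Agent.EtaleBase.Limit.SecClass

/-!
# Pulling back global sections
-/

set_option autoImplicit false
set_option linter.style.haveILetI false
set_option backward.isDefEq.respectTransparency.types false

universe u

open CategoryTheory CategoryTheory.Limits AlgebraicGeometry Opposite

namespace Groth.EtPbc.PullTop

open Groth.EtaleBase

variable {P T X : Scheme.{u}}

/-- Pullback of global sections. -/
noncomputable def pullTop (k : P ⟶ T) (G : EtCoh.Ab T) :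
    G.obj.obj (op (EtCoh.top T)) ⟶ ((EtCoh.pull k).obj G).obj.obj (op (EtCoh.top P)) :=
  EtLimit.sec k (EtCoh.top T) k (Category.comp_id _) G

/-- Pullback of global sections is bijective when the unit is. -/
theorem bijective_pullTop (k : P ⟶ T) (G : EtCoh.Ab T)
    (h : Function.Bijective (ConnFib.un k G (EtCoh.top T))) : Function.Bijective (pullTop k G) := by
  let σ := EtLimit.secTop k (EtCoh.top T) k (Category.comp_id _)
  let τ : (EtCoh.bc k).obj (EtCoh.top T) ⟶ EtCoh.top P :=
    MorphismProperty.Over.homMk ((EtCoh.bc k).obj (EtCoh.top T)).hom (Category.comp_id _)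
  haveI : IsIso σ := ⟨τ, MorphismProperty.Over.Hom.ext (pullback.lift_snd _ _ _),
    ConnFib.bc_top_hom_ext k _ _⟩
  exact ((ConcreteCategory.isIso_iff_bijective (((EtCoh.pull k).obj G).obj.map σ.op)).1 inferInstance).comp h

/-- The composition isomorphism on global sections. -/
noncomputable def via (k : P ⟶ T) (t : T ⟶ X) {p₀ : P ⟶ X} (w : k ≫ t = p₀) (A : EtCoh.Ab X) :
    ((EtCoh.pull k).obj ((EtCoh.pull t).obj A)).obj.obj (op (EtCoh.top P)) ⟶
      ((EtCoh.pull p₀).obj A).obj.obj (op (EtCoh.top P)) :=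
  ((((EtCore.pullComp k t).symm ≪≫ EtCore.pullCongr w).app A).hom).hom.app (op (EtCoh.top P))

theorem bijective_via (k : P ⟶ T) (t : T ⟶ X) {p₀ : P ⟶ X} (w : k ≫ t = p₀) (A : EtCoh.Ab X) :
    Function.Bijective (via k t w A) :=
  (ConcreteCategory.isIso_iff_bijective _).1
    (inferInstanceAs (IsIso (((sheafToPresheaf _ _).map
      (((EtCore.pullComp k t).symm ≪≫ EtCore.pullCongr w).app A).hom).app (op (EtCoh.top P)))))

/-- Pullback of global sections and sections. -/
theorem via_pullTop_sec (k : P ⟶ T) (t : T ⟶ X) {p₀ : P ⟶ X} (w : k ≫ t = p₀) (A : EtCoh.Ab X) (W : X.Etale)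
    (m : T ⟶ W.left) (hm : m ≫ W.hom = t) (m₀ : P ⟶ W.left) (hm₀ : m₀ ≫ W.hom = p₀) (h : k ≫ m = m₀)
    (y : A.obj.obj (op W)) :
    via k t w A (pullTop k _ (EtLimit.sec t W m hm A y)) = EtLimit.sec p₀ W m₀ hm₀ A y := by
  let φ := EtLimit.secTop t W m hm
  have hφ : (k ≫ φ.left) ≫ ((EtCoh.bc t).obj W).hom = k :=
    (Category.assoc _ _ _).trans ((congrArg (k ≫ ·) (Over.w φ.hom)).trans (Category.comp_id _))
  have e := EtLimit.sec_res k ((EtCoh.bc t).obj W) (k ≫ φ.left) hφ φ k (Category.comp_id _) rfl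
    ((EtCoh.pull t).obj A) (((EtCoh.pullPushAdj t).unit.app A).hom.app (op W) y)
  refine (congrArg (via k t w A) e).trans ?_
  exact EtLimit.via_sec k t w A W (k ≫ φ.left) hφ m₀ hm₀
    ((Category.assoc _ _ _).trans ((congrArg (k ≫ ·) (EtLimit.secTop_fst t W m hm)).trans h)) y

theorem via_pullTop_pullTop (k : P ⟶ T) (t : T ⟶ X) {p₀ : P ⟶ X} (w : k ≫ t = p₀) (A : EtCoh.Ab X)
    (y : A.obj.obj (op (EtCoh.top X))) :
    via k t w A (pullTop k _ (pullTop t A y)) = pullTop p₀ A y :=
  via_pullTop_sec k t w A (EtCoh.top X) t (Category.comp_id _) p₀ (Category.comp_id _) w y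

/-- Composites of bijective pullbacks of sections. -/
theorem bijective_pullTop_comp (k : P ⟶ T) (t : T ⟶ X) {p₀ : P ⟶ X} (w : k ≫ t = p₀) (A : EtCoh.Ab X)
    (hk : Function.Bijective (pullTop k ((EtCoh.pull t).obj A))) (ht : Function.Bijective (pullTop t A)) :
    Function.Bijective (pullTop p₀ A) := by
  have : ⇑(pullTop p₀ A) = fun y => via k t w A (pullTop k _ (pullTop t A y)) :=
    funext fun y => (via_pullTop_pullTop k t w A y).symm
  rw [this]
  exact (bijective_via k t w A).comp (hk.comp ht)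

end Groth.EtPbc.PullTop
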