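import Groth.Agent.EtPbc.GmFieldAcyclic

/-!
# Direct images from the spectrum of a field of sheaves without higher cohomology
-/

set_option autoImplicit false
set_option backward.isDefEq.respectTransparency.types false
set_option linter.style.haveILetI false
set_option maxHeartbeats 1000000

universe u

open CategoryTheory CategoryTheory.Limits CategoryTheory.Abelian AlgebraicGeometry Opposite TopologicalSpace

namespace Groth.FieldPush

open Groth.EtaleBase Groth.EtaleBase.EtLimit Groth.GaloisBrauer.FieldTrace

variable {K : Type u} [Field K] (F : EtCoh.Ab (Spec (CommRingCat.of K)))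

/-- `F` has no cohomology in degree `q` on all finite separable extensions. -/
def AcycAt (q : ℕ) : Prop :=
  ∀ (L : Type u) [Field L] [Algebra K L] [FiniteDimensional K L] [Algebra.IsSeparable K L],
    Subsingleton (EtCoh.H (Spec (CommRingCat.of L)) ((EtCoh.pull (mor K L)).obj F) q)

variable {F}

/-- Cycles of an injective resolution on quasi-compact étale schemes over `K` are boundaries. -/
theorem exists_boundary_of_acycAt {q : ℕ} (h : AcycAt F (q + 1)) (I : InjectiveResolution F)
    (V : (Spec (CommRingCat.of K)).Etale) [CompactSpace V.left]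
    (z : ((injResn I).X (q + 1)).obj.obj (op V))
    (hz : ((injResn I).d (q + 1)).hom.app (op V) z = 0) :
    ∃ b, ((injResn I).d q).hom.app (op V) b = z := by
  classical
  haveI : Etale V.hom := V.prop
  haveI : LocallyQuasiFinite V.hom := locallyQuasiFinite_of_formallyUnramified V.hom
  haveI : DiscreteTopology V.left :=
    @locallyQuasiFinite_discreteTopology _ (Spec (CommRingCat.of K)) V.hom inferInstance
      (inferInstanceAs (Subsingleton (PrimeSpectrum K)))
  haveI : Finite V.left := finite_of_compact_of_discrete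
  let W : V.left → V.left.Opens := fun v => ⟨{v}, isOpen_discrete _⟩
  have hW : ∀ a b, a ≠ b → Disjoint (W a) (W b) := fun a b h => disjoint_iff.2 (Opens.ext <|
    Set.eq_empty_of_forall_notMem fun x hx => h ((show x = a from hx.1).symm.trans hx.2))
  have hsup : ⨆ v, W v = ⊤ := top_le_iff.1 fun x _ => Opens.mem_iSup.2 ⟨x, rfl⟩
  have hobj : ∀ (L : Type u) [Field L] [Algebra K L] [FiniteDimensional K L] [Algebra.IsSeparable K L]
      (z : ((injResn I).X (q + 1)).obj.obj (op (obj K L))),
      ((injResn I).d (q + 1)).hom.app (op (obj K L)) z = 0 →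
        ∃ b, ((injResn I).d q).hom.app (op (obj K L)) b = z := by
    intro L _ _ _ _ z hz
    haveI := h L
    exact exists_boundary_of_clsAt I (obj K L) hz (Subsingleton.elim (α := EtCoh.H (Spec (CommRingCat.of L))
      ((EtCoh.pull (mor K L)).obj F) (q + 1)) _ _)
  have hpt : ∀ v, ∃ b, ((injResn I).d q).hom.app (op (openObj V (W v))) b =
      ((injResn I).X (q + 1)).obj.map (openHom V (W v)).op z := fun v => by
    obtain ⟨L, _, _, _, _, ⟨e⟩⟩ := exists_iso_singleton V (W v) v rfl
    obtain ⟨b, hb⟩ := hobj L (((injResn I).X (q + 1)).obj.map (e.hom ≫ openHom V (W v)).op z)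
      (by rw [NatTrans.naturality_apply, hz, map_zero])
    refine ⟨((injResn I).X q).obj.map e.inv.op b, ?_⟩
    rw [NatTrans.naturality_apply, hb, ← ConcreteCategory.comp_apply, ← Functor.map_comp, ← op_comp,
      Iso.inv_hom_id_assoc]
  choose b hb using hpt
  obtain ⟨d, hd⟩ := exists_glue_disjoint V W hW hsup ((injResn I).X q) b
  refine ⟨d, ext_disjoint V W hW hsup ((injResn I).X (q + 1)) _ _ fun v => ?_⟩
  rw [← NatTrans.naturality_apply, hd, hb]

variable {X : Scheme.{u}} (i : Spec (CommRingCat.of K) ⟶ X)

/-- Higher direct images vanish where all extensions have no cohomology. -/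
theorem isZero_Rpush_of_acycAt [QuasiSeparatedSpace X] {n : ℕ} (h : AcycAt F (n + 1)) :
    IsZero ((EtCoh.Rpush i (n + 1)).obj F) := by
  rw [IsZero.iff_id_eq_zero]
  refine stalkAt_jointlyReflectIsomorphisms.jointlyFaithful.map_injective fun s => ?_
  rw [CategoryTheory.Functor.map_id, Functor.map_zero]
  ext x
  let I := injectiveResolution F
  obtain ⟨V, t, z, hrep⟩ := exists_rep i I (geomPoint s) (n + 1) x
  obtain ⟨_, ⟨N, hN, rfl⟩, hzN, -⟩ := V.left.isBasis_affineOpens.exists_subset_of_mem_open
    (Set.mem_univ (fiberPoint (geomPoint s) t)) isOpen_univ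
  obtain ⟨t', ht'⟩ := SitePt.exists_lift_open (geomPoint s) N t hzN
  let V' := openObj V N
  have hrep' := hrep.res (openHom V N) t' ht'
  haveI : IsAffine V'.left := hN
  haveI : CompactSpace ((EtCoh.bc i).obj V').left := by
    haveI : QuasiCompact i := quasiCompact i
    have hq : QuasiCompact (pullback.fst V'.hom i) := MorphismProperty.pullback_fst (P := @QuasiCompact) _ _ ‹_›
    haveI : CompactSpace ((𝟭 Scheme.{u}).obj V'.left : Scheme.{u}) := inferInstanceAs (CompactSpace V'.left)
    exact @QuasiCompact.compactSpace_of_compactSpace _ _ (pullback.fst V'.hom i) hq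
      (inferInstanceAs (CompactSpace ((𝟭 Scheme.{u}).obj V'.left : Scheme.{u})))
  obtain ⟨b, hb⟩ := exists_boundary_of_acycAt h I ((EtCoh.bc i).obj V') _ hrep'.cycle
  have h0 := rep_boundary i I (geomPoint s) n V' t' b
  exact hrep'.unique (hb ▸ h0)

end Groth.FieldPush
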