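import Groth.Agent.EtPbc.PointSupp
import Groth.Agent.EtPbc.GmGeneric

/-!
# Sheaves supported in a set of points are unions of parts supported in finite unions of closures
-/

set_option autoImplicit false
set_option linter.style.haveILetI false
set_option backward.isDefEq.respectTransparency.types false

universe u

open CategoryTheory CategoryTheory.Limits CategoryTheory.Abelian AlgebraicGeometry Opposite TopologicalSpace

namespace Groth.FieldPush

open Groth.EtaleBase Groth.EtaleBase.LocConst Groth.EtaleBase.SitePt Groth.EtaleDeep.Cons Groth.EtPbc.PointSupp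

variable {X : Scheme.{u}} (P : X → Prop)

/-- Finite sets of points in a given set. -/
abbrev PIdx : Type u := Finset {x : X // P x}

/-- The union of their closures. -/
def closP (T : PIdx P) : Closeds X :=
  ⟨⋃ x ∈ T, closure {x.1}, T.finite_toSet.isClosed_biUnion fun _ _ => isClosed_closure⟩

theorem closP_mono {T T' : PIdx P} (h : T ≤ T') : (closP P T : Set X) ⊆ closP P T' :=
  Set.biUnion_subset_biUnion_left fun _ hx => h hx

/-- The system of the parts. -/
noncomputable def diagP (F : EtCoh.Ab X) : PIdx P ⥤ EtCoh.Ab X where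
  obj T := suppPart (closP P T) F
  map {T T'} h := kernel.lift _ (kernel.ι _)
    (comp_unitCompl ((supp_suppPart (closP P T) F).trans (closP_mono P (leOfHom h))) _)
  map_id T := by rw [← cancel_mono (kernel.ι _), kernel.lift_ι, Category.id_comp]
  map_comp f g := by
    rw [← cancel_mono (kernel.ι _), kernel.lift_ι, Category.assoc, kernel.lift_ι, kernel.lift_ι]

/-- The cocone. -/
noncomputable def coconeP (F : EtCoh.Ab X) : Cocone (diagP P F) where
  pt := F
  ι :=
    { app := fun T => kernel.ι (unitCompl (closP P T) F)
      naturality := fun T T' h => by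
        refine Eq.trans ?_ (Category.comp_id _).symm
        exact kernel.lift_ι _ _ _ }

/-- The sheaf is the colimit of the parts. -/
theorem nonempty_isColimit_coconeP [IsLocallyNoetherian X] (F : EtCoh.Ab X)
    (hF : ∀ x ∈ EtPBC.supp F, P x) : Nonempty (IsColimit (coconeP P F)) := by
  classical
  let θ : colimit (diagP P F) ⟶ F := colimit.desc _ (coconeP P F)
  have hpres : ∀ x : X, PreservesColimitsOfShape (PIdx P) (EtCoh.stalk (geomPoint x)) := fun x =>
    have : PreservesColimitsOfSize.{u, u} (EtCoh.stalk (geomPoint x)) :=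
      ((Scheme.pointSmallEtale (geomPoint x)).skyscraperSheafAdjunction
        (A := AddCommGrpCat.{u + 1})).leftAdjoint_preservesColimits
    inferInstance
  haveI : Epi θ := epi_of_stalk_surjective _ fun x y => by
    obtain ⟨U, t, σ, rfl⟩ := germ_surjective (geomPoint x) F y
    obtain ⟨_, ⟨W, hW, rfl⟩, htW, -⟩ := U.left.isBasis_affineOpens.exists_subset_of_mem_open
      (Set.mem_univ (fiberPoint (geomPoint x) t)) isOpen_univ
    obtain ⟨t', ht'⟩ := exists_lift_open (geomPoint x) W t htW
    let V := openObj U W
    let σ' : F.obj.obj (op V) := F.obj.map (openHom U W).op σ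
    haveI : IsAffine V.left := hW
    haveI : AlgebraicGeometry.Etale V.hom := V.prop
    let Vh : V.left ⟶ X := V.hom
    haveI : LocallyOfFiniteType Vh := inferInstanceAs (LocallyOfFiniteType V.hom)
    haveI : IsLocallyNoetherian V.left := LocallyOfFiniteType.isLocallyNoetherian Vh
    haveI : AlgebraicGeometry.IsNoetherian V.left := {}
    have hCP : ∀ u ∈ (vanishSet F V σ')ᶜ, P (V.hom.base u) := fun u hu => hF _ (by
      obtain ⟨s, hs⟩ := exists_geomPoint_lift V u
      refine ⟨_, _, inferInstanceAs (IsSepClosed (SeparableClosure (X.residueField (Vh.base u)))),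
        geomPoint (Vh.base u), ?_,
        fun (hz : IsZero ((EtCoh.stalk (geomPoint (Vh.base u))).obj F)) => hu ?_⟩
      · exact Set.eq_singleton_iff_unique_mem.2
          ⟨⟨default, geomPoint_apply _ _⟩, fun y ⟨z, hz⟩ => hz ▸ geomPoint_apply _ z⟩
      · have h0 := (germ_eq_zero_iff_mem _ F V σ' s).1
          ((AddCommGrpCat.subsingleton_of_isZero hz).elim _ _)
        exact (show fiberPoint _ s = u from hs) ▸ h0)
    obtain ⟨S, hS, hSc, hSi, hSC⟩ := NoetherianSpace.exists_finite_set_isClosed_irreducible
      (isOpen_vanishSet F V σ').isClosed_compl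
    have hg : ∀ t ∈ S, ∃ g ∈ (vanishSet F V σ')ᶜ, ∀ w ∈ t, g ⤳ w := by
      intro t ht
      obtain ⟨g, hg⟩ := QuasiSober.sober (hSi t ht) (hSc t ht)
      exact ⟨g, hSC ▸ Set.mem_sUnion.2 ⟨t, ht, hg.mem⟩, fun w hw => hg.specializes hw⟩
    choose g hg₁ hg₂ using hg
    haveI := hS.to_subtype
    let T : PIdx P := (Set.finite_range fun t : S => V.hom.base (g t.1 t.2)).toFinset.subtype P
    have hT : ∀ u ∈ (vanishSet F V σ')ᶜ, V.hom.base u ∈ (closP P T : Set X) := fun u hu => by
      rw [hSC] at hu
      obtain ⟨t, ht, hut⟩ := Set.mem_sUnion.1 hu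
      refine Set.mem_iUnion₂.2 ⟨⟨_, hCP _ (hg₁ t ht)⟩, ?_, ((hg₂ t ht u hut).map V.hom.continuous).mem_closure⟩
      simp only [T, Finset.mem_subtype, Set.Finite.mem_toFinset]
      exact ⟨⟨t, ht⟩, rfl⟩
    have hη : (unitCompl (closP P T) F).hom.app (op V) σ' = 0 := by
      refine (unit_eq_zero_iff (compl (closP P T)).ι F V σ').2 ?_
      rintro _ ⟨p, rfl⟩
      by_contra hp
      have h2 : V.hom.base ((pullback.fst V.hom (compl (closP P T)).ι).base p) ∈ (closP P T : Set X) := hT _ hp
      rw [← Scheme.Hom.comp_apply, pullback.condition, Scheme.Hom.comp_apply] at h2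
      exact ((pullback.snd V.hom (compl (closP P T)).ι).base p).2 h2
    obtain ⟨w, hw⟩ := exists_kernel_lift (unitCompl (closP P T) F) V σ' hη
    refine ⟨(EtCoh.stalk (geomPoint x)).map (colimit.ι (diagP P F) T)
      (germ (geomPoint x) ((diagP P F).obj T) V t' w), ?_⟩
    rw [← ConcreteCategory.comp_apply, ← Functor.map_comp,
      show colimit.ι (diagP P F) T ≫ θ = (coconeP P F).ι.app T from colimit.ι_desc _ _]
    refine (germ_map _ _ _ _ _).trans ((congrArg _ hw).trans ?_)
    rw [germ_res, ht']
  haveI : Mono θ := mono_of_stalk_injective _ fun x => by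
    rw [injective_iff_map_eq_zero]
    intro z hz
    haveI := hpres x
    obtain ⟨T, w, rfl⟩ := Types.jointly_surjective _
      (isColimitOfPreserves (EtCoh.stalk (geomPoint x) ⋙ CategoryTheory.forget AddCommGrpCat.{u + 1})
        (colimit.isColimit (diagP P F))) z
    suffices ∀ w : (EtCoh.stalk (geomPoint x)).obj ((diagP P F).obj T),
        (EtCoh.stalk (geomPoint x)).map θ ((EtCoh.stalk (geomPoint x)).map (colimit.ι (diagP P F) T) w) = 0 →
          (EtCoh.stalk (geomPoint x)).map (colimit.ι (diagP P F) T) w = 0 from this w hz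
    intro w hz
    rw [← ConcreteCategory.comp_apply, ← Functor.map_comp,
      show colimit.ι (diagP P F) T ≫ θ = (coconeP P F).ι.app T from colimit.ι_desc _ _] at hz
    have : Mono ((EtCoh.stalk (geomPoint x)).map ((coconeP P F).ι.app T)) :=
      inferInstanceAs (Mono ((EtCoh.stalk (geomPoint x)).map (kernel.ι (unitCompl (closP P T) F))))
    rw [(AddCommGrpCat.mono_iff_injective _).1 this (hz.trans (map_zero _).symm), map_zero]
  haveI : IsIso θ := isIso_of_mono_of_epi _
  haveI : IsIso ((colimit.isColimit (diagP P F)).desc (coconeP P F)) := ‹IsIso θ›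
  exact ⟨IsColimit.ofPointIso (t := coconeP P F) (colimit.isColimit (diagP P F))⟩

/-- Cohomology vanishes if that of the parts does. -/
theorem subsingleton_H_of_parts [AlgebraicGeometry.IsNoetherian X] (F : EtCoh.Ab X)
    (hF : ∀ x ∈ EtPBC.supp F, P x) (q : ℕ)
    (h : ∀ T : PIdx P, Subsingleton (EtCoh.H X (suppPart (closP P T) F) q)) :
    Subsingleton (EtCoh.H X F q) := by
  classical
  refine subsingleton_of_forall_eq 0 fun z => ?_
  obtain ⟨hc⟩ := nonempty_isColimit_coconeP P F hF
  haveI := Groth.FlatMor2.ColimCoh.Etale.preservesColimitsOfShape_HF_small (X := X) q (PIdx P)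
  obtain ⟨T, y, rfl⟩ := Types.jointly_surjective _
    (isColimitOfPreserves (EtCoh.HF X q ⋙ CategoryTheory.forget AddCommGrpCat.{u + 1}) hc) z
  suffices ∀ y : EtCoh.H X (suppPart (closP P T) F) q,
      ((EtCoh.HF X q).map ((coconeP P F).ι.app T) y : EtCoh.H X F q) = 0 from this y
  intro y
  haveI := h T
  rw [Subsingleton.elim y 0]
  exact map_zero ((EtCoh.HF X q).map ((coconeP P F).ι.app T)).hom

/-- A closed subspace without generic points has smaller dimension. -/
theorem topologicalKrullDim_le_of_no_generic {Y : Scheme.{u}} (i : Y ⟶ X) (hi : Topology.IsClosedEmbedding i.base)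
    (hg : ∀ y : Y, i.base y ∉ genericPoints X) {e : ℕ} (hd : topologicalKrullDim X ≤ (e + 1 : ℕ)) :
    topologicalKrullDim Y ≤ e := by
  refine iSup_le fun p => ?_
  let q := p.map _ (IrreducibleCloseds.map_strictMono_of_isInducing hi.isInducing)
  obtain ⟨g, hg'⟩ := QuasiSober.sober p.last.isIrreducible p.last.isClosed
  obtain ⟨η, hη⟩ := QuasiSober.sober (isIrreducible_irreducibleComponent (x := i.base g))
    isClosed_irreducibleComponent
  let top : IrreducibleCloseds X :=
    ⟨irreducibleComponent (i.base g), isIrreducible_irreducibleComponent, isClosed_irreducibleComponent⟩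
  have heq : (q.last : Set X) = closure {i.base g} := by
    rw [LTSeries.last_map]
    show closure (i.base '' (p.last : Set Y)) = _
    rw [← hg'.def, closure_image_closure i.continuous, Set.image_singleton]
  have hlt : q.last < top := by
    refine lt_of_le_of_ne ?_ fun h => hg g ?_
    · show (q.last : Set X) ⊆ _
      rw [heq]
      exact closure_minimal (Set.singleton_subset_iff.2 mem_irreducibleComponent) isClosed_irreducibleComponent
    · show closure {i.base g} ∈ irreducibleComponents X
      rw [← heq, congrArg (fun c : IrreducibleCloseds X => (c : Set X)) h]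
      exact irreducibleComponent_mem_irreducibleComponents _
  have h2 := (Order.LTSeries.length_le_krullDim (q.snoc top hlt)).trans hd
  have h3 : ((p.length + 1 : ℕ) : WithBot ℕ∞) ≤ ((e + 1 : ℕ) : WithBot ℕ∞) := by
    refine le_trans (le_of_eq ?_) h2
    simp [q, RelSeries.snoc, LTSeries.map]
  have h4 : p.length + 1 ≤ e + 1 := by exact_mod_cast h3
  exact_mod_cast (by omega : p.length ≤ e)

/-- In dimension zero all points are generic. -/
theorem mem_genericPoints_of_dim_zero (hd : topologicalKrullDim X ≤ 0) (x : X) : x ∈ genericPoints X := by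
  show closure {x} ∈ irreducibleComponents X
  let c : IrreducibleCloseds X := ⟨closure {x}, isIrreducible_singleton.closure, isClosed_closure⟩
  let top : IrreducibleCloseds X :=
    ⟨irreducibleComponent x, isIrreducible_irreducibleComponent, isClosed_irreducibleComponent⟩
  by_contra hne
  have hlt : c < top := by
    refine lt_of_le_of_ne (closure_minimal (Set.singleton_subset_iff.2 mem_irreducibleComponent)
      isClosed_irreducibleComponent) fun h => hne ?_
    rw [show (closure {x} : Set X) = (c : Set X) from rfl, congrArg (fun c : IrreducibleCloseds X => (c : Set X)) h]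
    exact irreducibleComponent_mem_irreducibleComponents _
  have h2 := (Order.LTSeries.length_le_krullDim ((RelSeries.singleton _ c).snoc top hlt)).trans hd
  rw [show ((RelSeries.singleton _ c).snoc top hlt).length = 1 from rfl] at h2
  exact absurd h2 (by decide)

end Groth.FieldPush
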