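import Groth.Agent.EtPbc.GenDevissage
import Groth.Agent.EtPbc.SuppColimClosure

/-!
# Cohomology of sheaves of rational vector spaces is bounded by the dimension
-/

set_option autoImplicit false
set_option backward.isDefEq.respectTransparency.types false
set_option linter.style.haveILetI false
set_option maxHeartbeats 1000000

universe u

open CategoryTheory CategoryTheory.Limits CategoryTheory.Abelian AlgebraicGeometry Opposite TopologicalSpace

namespace Groth.FieldPush

open Groth.EtaleBase Groth.EtaleBase.SitePt Groth.EtPbc.PointSupp Groth.GaloisBrauer.FieldTrace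

/-- Multiplication by every positive integer is invertible. -/
def IsUD {C : Type*} [Category C] [Preadditive C] (A : C) : Prop := ∀ m : ℕ, 0 < m → IsIso (m • 𝟙 A)

theorem IsUD.map {C D : Type*} [Category C] [Preadditive C] [Category D] [Preadditive D] (G : C ⥤ D) [G.Additive]
    {A : C} (h : IsUD A) : IsUD (G.obj A) := fun m hm => by
  haveI := h m hm
  rw [show m • 𝟙 (G.obj A) = G.map (m • 𝟙 A) by rw [G.map_nsmul, G.map_id]]
  infer_instance

theorem IsUD.of_iso {C : Type*} [Category C] [Preadditive C] {A B : C} (e : A ≅ B) (h : IsUD A) : IsUD B :=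
  fun m hm => by
  haveI := h m hm
  rw [show m • 𝟙 B = e.inv ≫ (m • 𝟙 A) ≫ e.hom by
    rw [Preadditive.nsmul_comp, Category.id_comp, Preadditive.comp_nsmul, Iso.inv_hom_id]]
  infer_instance

theorem IsUD.comm {C : Type*} [Category C] [Preadditive C] {A B : C} (f : A ⟶ B) (m : ℕ)
    [IsIso (m • 𝟙 A)] [IsIso (m • 𝟙 B)] : inv (m • 𝟙 A) ≫ f = f ≫ inv (m • 𝟙 B) := by
  rw [IsIso.inv_comp_eq, ← Category.assoc, Preadditive.nsmul_comp, Category.id_comp]
  rw [show m • f = f ≫ (m • 𝟙 B) by rw [Preadditive.comp_nsmul, Category.comp_id], Category.assoc,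
    IsIso.hom_inv_id, Category.comp_id]

theorem IsUD.kernel {C : Type*} [Category C] [Abelian C] {A B : C} (f : A ⟶ B) (hA : IsUD A) (hB : IsUD B) :
    IsUD (kernel f) := fun m hm => by
  haveI := hA m hm
  haveI := hB m hm
  refine ⟨Limits.kernel.lift f (kernel.ι f ≫ inv (m • 𝟙 A))
    (by rw [Category.assoc, IsUD.comm f m, ← Category.assoc, kernel.condition, zero_comp]), ?_, ?_⟩
  · rw [← cancel_mono (kernel.ι f), Category.assoc, kernel.lift_ι, ← Category.assoc, Category.id_comp,
      Preadditive.nsmul_comp, Category.id_comp,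
      show m • kernel.ι f = kernel.ι f ≫ (m • 𝟙 A) by rw [Preadditive.comp_nsmul, Category.comp_id],
      Category.assoc, IsIso.hom_inv_id, Category.comp_id]
  · rw [← cancel_mono (kernel.ι f), Category.assoc, Preadditive.nsmul_comp, Category.id_comp,
      Preadditive.comp_nsmul, kernel.lift_ι,
      show m • (kernel.ι f ≫ inv (m • 𝟙 A)) = kernel.ι f ≫ inv (m • 𝟙 A) ≫ (m • 𝟙 A) by
        rw [Preadditive.comp_nsmul, Category.comp_id, Preadditive.comp_nsmul],
      IsIso.inv_hom_id, Category.comp_id]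

theorem IsUD.cokernel {C : Type*} [Category C] [Abelian C] {A B : C} (f : A ⟶ B) (hA : IsUD A) (hB : IsUD B) :
    IsUD (cokernel f) := fun m hm => by
  haveI := hA m hm
  haveI := hB m hm
  refine ⟨Limits.cokernel.desc f (inv (m • 𝟙 B) ≫ cokernel.π f)
    (by rw [← Category.assoc, ← IsUD.comm f m, Category.assoc, cokernel.condition, comp_zero]), ?_, ?_⟩
  · rw [← cancel_epi (cokernel.π f), ← Category.assoc, Preadditive.comp_nsmul, Category.comp_id,
      Preadditive.nsmul_comp, cokernel.π_desc,
      show m • (inv (m • 𝟙 B) ≫ cokernel.π f) = ((m • 𝟙 B) ≫ inv (m • 𝟙 B)) ≫ cokernel.π f by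
        rw [Category.assoc, Preadditive.nsmul_comp, Category.id_comp],
      IsIso.hom_inv_id, Category.id_comp]
  · rw [← cancel_epi (cokernel.π f), ← Category.assoc, cokernel.π_desc, Category.assoc,
      Preadditive.comp_nsmul, Category.comp_id,
      show m • cokernel.π f = (m • 𝟙 B) ≫ cokernel.π f by rw [Preadditive.nsmul_comp, Category.id_comp],
      IsIso.inv_hom_id_assoc]

/-- Over a field, uniquely divisible sheaves have no higher cohomology. -/
theorem acycAt_of_isUD {K : Type u} [Field K] (F : EtCoh.Ab (Spec (CommRingCat.of K))) (hF : IsUD F)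
    (q : ℕ) : AcycAt F (q + 1) := by
  intro L _ _ _ _
  haveI : (EtCoh.pull (mor K L)).Additive := Adjunction.left_adjoint_additive (EtCoh.pullPushAdj (mor K L))
  have hG := hF.map (EtCoh.pull (mor K L))
  refine subsingleton_of_forall_eq 0 fun x => ?_
  obtain ⟨m, hm, hmx⟩ := isOfFinAddOrder_iff_nsmul_eq_zero.1
    (Groth.GaloisBrauer.FieldTrace.isOfFinAddOrder L _ (q + 1) (Nat.succ_pos q) x)
  haveI := hG m hm
  have h1 : (x : Ext _ _ (q + 1)).comp (Ext.mk₀ (m • 𝟙 ((EtCoh.pull (mor K L)).obj F))) (add_zero (q + 1)) = 0 := by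
    rw [show Ext.mk₀ (m • 𝟙 ((EtCoh.pull (mor K L)).obj F)) = m • Ext.mk₀ (𝟙 _) from
      map_nsmul Ext.addEquiv₀.symm m _, ← Ext.bilinearComp_apply_apply, map_nsmul,
      Ext.bilinearComp_apply_apply, Ext.comp_mk₀_id]
    exact hmx
  have h2 := congrArg (fun z => Ext.comp z (Ext.mk₀ (inv (m • 𝟙 ((EtCoh.pull (mor K L)).obj F)))) (add_zero (q + 1))) h1
  rwa [Ext.comp_assoc_of_third_deg_zero, Ext.mk₀_comp_mk₀, IsIso.hom_inv_id, Ext.comp_mk₀_id, Ext.zero_comp] at h2

/-- Direct images of uniquely divisible sheaves from points have no higher cohomology. -/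
theorem subsingleton_H_push_of_isUD {X : Scheme.{u}} [QuasiSeparatedSpace X] {K : Type u} [Field K]
    (i : Spec (CommRingCat.of K) ⟶ X) [PreservesFiniteLimits (EtCoh.pull i)]
    (G : EtCoh.Ab (Spec (CommRingCat.of K))) (hG : IsUD G) (q : ℕ) :
    Subsingleton (EtCoh.H X ((EtCoh.push i).obj G) (q + 1)) := by
  haveI : Subsingleton (EtCoh.H (Spec (CommRingCat.of K)) G (q + 1)) := by
    refine subsingleton_of_forall_eq 0 fun x => ?_
    obtain ⟨m, hm, hmx⟩ := isOfFinAddOrder_iff_nsmul_eq_zero.1
      (Groth.GaloisBrauer.FieldTrace.isOfFinAddOrder K G (q + 1) (Nat.succ_pos q) x)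
    haveI := hG m hm
    have h1 : (x : Ext _ _ (q + 1)).comp (Ext.mk₀ (m • 𝟙 G)) (add_zero (q + 1)) = 0 := by
      rw [show Ext.mk₀ (m • 𝟙 G) = m • Ext.mk₀ (𝟙 _) from
        map_nsmul Ext.addEquiv₀.symm m _, ← Ext.bilinearComp_apply_apply, map_nsmul,
        Ext.bilinearComp_apply_apply, Ext.comp_mk₀_id]
      exact hmx
    have h2 := congrArg (fun z => Ext.comp z (Ext.mk₀ (inv (m • 𝟙 G))) (add_zero (q + 1))) h1
    rwa [Ext.comp_assoc_of_third_deg_zero, Ext.mk₀_comp_mk₀, IsIso.hom_inv_id, Ext.comp_mk₀_id, Ext.zero_comp] at h2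
  refine (InjCoh.HofPush_bijective i G (fun p hp => ?_) (q + 1)).1.subsingleton
  obtain ⟨p, rfl⟩ := Nat.exists_eq_succ_of_ne_zero hp.ne'
  exact isZero_Rpush_of_acycAt i (acycAt_of_isUD G hG p)

variable {X : Scheme.{u}} [IsNoetherian X]

/-- The dévissage step. -/
theorem subsingleton_H_of_isUD_step {d : ℕ} (hd : topologicalKrullDim X ≤ d)
    (ih : ∀ e < d, ∀ (Y : Scheme.{u}) [AlgebraicGeometry.IsNoetherian Y], topologicalKrullDim Y ≤ e →
      ∀ G : EtCoh.Ab Y, IsUD G → ∀ i, e < i → Subsingleton (EtCoh.H Y G i))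
    (F : EtCoh.Ab X) (hF : IsUD F) (hsupp : EtPBC.supp F ⊆ (genericPoints X)ᶜ) (j : ℕ) (hj : d ≤ j) :
    Subsingleton (EtCoh.H X F j) := by
  classical
  refine subsingleton_H_of_parts (fun x => x ∉ genericPoints X) F hsupp j fun T => ?_
  let A := closP (fun x => x ∉ genericPoints X) T
  let i := (Scheme.IdealSheafData.vanishingIdeal A).subschemeι
  have hi : Set.range i.base = (A : Set X) := by
    rw [Scheme.IdealSheafData.range_subschemeι, Scheme.IdealSheafData.coe_support_vanishingIdeal]
  haveI := pull_preservesFiniteLimits i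
  haveI : (EtCoh.pull i).Additive := Adjunction.left_adjoint_additive (EtCoh.pullPushAdj i)
  haveI : (EtCoh.push (compl A).ι).Additive := Adjunction.right_adjoint_additive (EtCoh.pullPushAdj (compl A).ι)
  haveI : (EtCoh.pull (compl A).ι).Additive := Adjunction.left_adjoint_additive (EtCoh.pullPushAdj (compl A).ι)
  have hpart : IsUD (suppPart A F) := IsUD.kernel (unitCompl A F) hF
    ((hF.map (EtCoh.pull (compl A).ι)).map (EtCoh.push (compl A).ι))
  obtain ⟨G, ⟨e⟩⟩ := (essImage_push_iff i (suppPart A F)).2 (hi.symm ▸ supp_suppPart A F)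
  haveI := isIso_counit i G
  have hG : IsUD G := (hpart.map (EtCoh.pull i)).of_iso
    (((EtCoh.pull i).mapIso e).symm ≪≫ asIso ((EtCoh.pullPushAdj i).counit.app G))
  have hgen : ∀ y, i.base y ∉ genericPoints X := fun y hy => by
    obtain ⟨x, hx, hxy⟩ := Set.mem_iUnion₂.1 (show i.base y ∈ (A : Set X) from hi ▸ ⟨y, rfl⟩)
    exact x.2 (eq_of_specializes_genericPoints hy (specializes_iff_mem_closure.2 hxy) ▸ hy)
  haveI : IsLocallyNoetherian (Scheme.IdealSheafData.vanishingIdeal A).subscheme :=
    LocallyOfFiniteType.isLocallyNoetherian i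
  haveI : CompactSpace (Scheme.IdealSheafData.vanishingIdeal A).subscheme :=
    QuasiCompact.compactSpace_of_compactSpace i
  haveI : AlgebraicGeometry.IsNoetherian (Scheme.IdealSheafData.vanishingIdeal A).subscheme := {}
  have hH : Subsingleton (EtCoh.H _ G j) := by
    rcases d with _ | e'
    · haveI : IsEmpty ↥(Scheme.IdealSheafData.vanishingIdeal A).subscheme :=
        ⟨fun y => hgen y (mem_genericPoints_of_dim_zero (by exact_mod_cast hd) _)⟩
      have hz : IsZero G := by
        rw [IsZero.iff_id_eq_zero]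
        exact stalkAt_jointlyReflectIsomorphisms.jointlyFaithful.map_injective fun v => (IsEmpty.false v).elim
      exact AddCommGrpCat.subsingleton_of_isZero (Functor.map_isZero (EtCoh.HF _ j) hz)
    · exact ih e' (Nat.lt_succ_self e') _ (topologicalKrullDim_le_of_no_generic i i.isClosedEmbedding hgen hd)
        G hG j (by omega)
  have hb := InjCoh.HofPush_bijective i G (fun n hn => isZero_Rpush i G n hn) j
  haveI : Subsingleton (EtCoh.H X ((EtCoh.push i).obj G) j) := hb.1.subsingleton
  exact @Equiv.subsingleton _ _ ((EtCoh.HF X j).mapIso e).symm.addCommGroupIsoToAddEquiv.toEquiv (by assumption)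

/-- Cohomology of uniquely divisible sheaves vanishes above the dimension. -/
theorem subsingleton_H_of_isUD : ∀ (d : ℕ) (X : Scheme.{u}) [AlgebraicGeometry.IsNoetherian X],
    topologicalKrullDim X ≤ d → ∀ F : EtCoh.Ab X, IsUD F → ∀ i, d < i → Subsingleton (EtCoh.H X F i) := by
  intro d
  induction d using Nat.strong_induction_on with
  | _ d ih =>
  intro X _ hd F hF i hi
  classical
  let u := toGenSum F
  haveI : ∀ η : ↥(genericPoints X), (EtCoh.push (X.fromSpecResidueField η.1)).Additive := fun η =>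
    Adjunction.right_adjoint_additive (EtCoh.pullPushAdj _)
  haveI : ∀ η : ↥(genericPoints X), (EtCoh.pull (X.fromSpecResidueField η.1)).Additive := fun η =>
    Adjunction.left_adjoint_additive (EtCoh.pullPushAdj _)
  have hU : ∀ η : ↥(genericPoints X), IsUD ((EtCoh.push (X.fromSpecResidueField η.1)).obj
      ((EtCoh.pull (X.fromSpecResidueField η.1)).obj F)) := fun η =>
    (hF.map (EtCoh.pull (X.fromSpecResidueField η.1))).map (EtCoh.push (X.fromSpecResidueField η.1))
  have hS : IsUD (genSum F) := fun m hm => by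
    haveI := fun η => hU η m hm
    refine ⟨biproduct.map fun η => inv (m • 𝟙 _), ?_, ?_⟩
    · refine biproduct.hom_ext _ _ fun η => ?_
      rw [Category.assoc, biproduct.map_π, ← Category.assoc, Preadditive.nsmul_comp, Category.id_comp,
        show m • biproduct.π _ η = biproduct.π _ η ≫ (m • 𝟙 _) by rw [Preadditive.comp_nsmul, Category.comp_id],
        Category.assoc, IsIso.hom_inv_id, Category.comp_id]
    · refine biproduct.hom_ext _ _ fun η => ?_
      rw [Category.assoc, Preadditive.nsmul_comp, Category.id_comp, Preadditive.comp_nsmul,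
        biproduct.map_π,
        show m • (biproduct.π _ η ≫ inv (m • 𝟙 _)) = biproduct.π _ η ≫ inv (m • 𝟙 _) ≫ (m • 𝟙 _) by
          rw [Preadditive.comp_nsmul, Category.comp_id, Preadditive.comp_nsmul],
        IsIso.inv_hom_id, Category.comp_id]
  have hK : IsUD (kernel u) := IsUD.kernel u hF hS
  have hI : IsUD (cokernel (kernel.ι u)) := IsUD.cokernel _ hK hF
  have hC : IsUD (cokernel (Abelian.factorThruCoimage u)) := IsUD.cokernel _ hI hS
  have hSH : Subsingleton (EtCoh.H X (genSum F) i) := by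
    obtain ⟨p, rfl⟩ : ∃ p, i = p + 1 := ⟨i - 1, by omega⟩
    letI := Fintype.ofFinite ↥(genericPoints X)
    refine subsingleton_of_forall_eq 0 fun z => ?_
    rw [ext_eq_sum_components _ z]
    refine Finset.sum_eq_zero fun η _ => ?_
    haveI := pull_preservesFiniteLimits (X.fromSpecResidueField η.1)
    haveI : Subsingleton (EtCoh.H X ((EtCoh.push (X.fromSpecResidueField η.1)).obj
        ((EtCoh.pull (X.fromSpecResidueField η.1)).obj F)) (p + 1)) :=
      subsingleton_H_push_of_isUD (K := X.residueField η.1) (X.fromSpecResidueField η.1) _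
        (hF.map (EtCoh.pull (X.fromSpecResidueField η.1))) p
    rw [Subsingleton.elim (α := EtCoh.H X ((EtCoh.push (X.fromSpecResidueField η.1)).obj
        ((EtCoh.pull (X.fromSpecResidueField η.1)).obj F)) (p + 1)) (z.comp _ (add_zero (p + 1))) 0]
    exact Ext.zero_comp _ _ _ _ _
  obtain ⟨p, rfl⟩ : ∃ p, i = p + 1 := ⟨i - 1, by omega⟩
  haveI hKH := subsingleton_H_of_isUD_step hd (fun e he Y _ => ih e he Y) (kernel u) hK
    (supp_kernel_toGenSum F) (p + 1) hi.le
  haveI hCH := subsingleton_H_of_isUD_step hd (fun e he Y _ => ih e he Y) _ hC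
    (supp_cokernel_toGenSum F) p (by omega)
  haveI : Subsingleton (EtCoh.H X (cokernel (kernel.ι u)) (p + 1)) := by
    refine subsingleton_of_forall_eq 0 fun x => ?_
    have hT : (ShortComplex.mk (Abelian.factorThruCoimage u) (cokernel.π _) (cokernel.condition _)).ShortExact :=
      CohFin.cokerSeq_shortExact' (Abelian.factorThruCoimage u)
    obtain ⟨y, rfl⟩ := Ext.covariant_sequence_exact₁ _ hT x
      (Subsingleton.elim (α := EtCoh.H X (genSum F) (p + 1)) _ _) (n₀ := p) rfl
    rw [Subsingleton.elim (α := EtCoh.H X (cokernel (Abelian.factorThruCoimage u)) p) y 0]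
    exact Ext.zero_comp _ _ _ _ _
  refine subsingleton_of_forall_eq 0 fun x => ?_
  have hT : (ShortComplex.mk (kernel.ι u) (cokernel.π _) (cokernel.condition _)).ShortExact :=
    CohFin.cokerSeq_shortExact' (kernel.ι u)
  obtain ⟨y, rfl⟩ := Ext.covariant_sequence_exact₂ _ hT x
    (Subsingleton.elim (α := EtCoh.H X (cokernel (kernel.ι u)) (p + 1)) _ _)
  rw [Subsingleton.elim (α := EtCoh.H X (kernel u) (p + 1)) y 0]
  exact Ext.zero_comp _ _ _ _ _

end Groth.FieldPush
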