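import Groth.Agent.EtaleBase.ConnectedFibresFlat
import Groth.Agent.EtaleBase.BaseChange0
import Groth.Agent.EtaleBase.Limit.SecClass
import Groth.Agent.PropsBasic2.SchTop
import Groth.Agent.EtaleBase.LocConst
import Groth.Agent.EtaleBase.SitePoints

/-!
# Base change in degree zero from a separably closed field
-/

set_option autoImplicit false
set_option linter.style.haveILetI false
set_option backward.isDefEq.respectTransparency.types false

universe u

open CategoryTheory CategoryTheory.Limits AlgebraicGeometry Opposite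

namespace Groth.EtPbc.SepClosedBC

open Groth.EtaleBase Groth.EtaleBase.LocConst Groth.EtaleBase.SitePt

/-- Spectra of local rings are connected. -/
theorem connectedSpace_spec_of_isLocalRing (A : CommRingCat.{u}) [IsLocalRing A] : ConnectedSpace (Spec A) :=
  haveI : PreconnectedSpace (Spec A) := preconnectedSpace_iff_clopen.2 fun s hs => by
    by_cases h : IsLocalRing.closedPoint A ∈ s
    · exact Or.inr (Set.eq_univ_of_forall fun x =>
        hs.2.stableUnderGeneralization (IsLocalRing.specializes_closedPoint x) h)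
    · refine Or.inl (Set.eq_empty_of_forall_notMem fun x hx => h ?_)
      exact hs.1.stableUnderSpecialization (IsLocalRing.specializes_closedPoint x) hx
  { toNonempty := ⟨IsLocalRing.closedPoint A⟩ }

variable {k : Type u} [Field k] [IsSepClosed k]

/-- Connected schemes over a separably closed field are geometrically connected. -/
theorem geometricallyConnected_of_connected {P : Scheme.{u}} (a : P ⟶ Spec (CommRingCat.of k))
    [ConnectedSpace P] : GeometricallyConnected a := by
  let : P.Over (Spec (CommRingCat.of k)) := ⟨a⟩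
  have : ConnectedSpace (Curv2.bc k P k) := by
    have : IsIso (Spec.map (CommRingCat.ofHom (algebraMap k k))) := by
      rw [Algebra.algebraMap_self, CommRingCat.ofHom_id]
      infer_instance
    exact ((asIso (pullback.fst _ _ : Curv2.bc k P k ⟶ _)).hom.homeomorph.connectedSpace_iff).2 ‹_›
  exact Groth.VarietyBC.geometricallyConnected_of_connectedSpace_bc (k := k) (X := P) k

/-- Sections over the base give, bijectively, sections of the inverse image along a quasi-compact
connected `k`-scheme. -/
theorem sec_top_bijective {T P : Scheme.{u}} (g : T ⟶ Spec (CommRingCat.of k))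
    (a : P ⟶ Spec (CommRingCat.of k)) [ConnectedSpace P] [IsAffine P] (F : EtCoh.Ab T) :
    Function.Bijective (EtLimit.sec (pullback.fst g a) (EtCoh.top T) (pullback.fst g a)
      (Category.comp_id _) F) := by
  haveI := geometricallyConnected_of_connected a
  haveI : Flat a := inferInstance
  haveI : QuasiCompact a := inferInstance
  haveI : GeometricallyConnected (pullback.fst g a) := inferInstance
  let p := pullback.fst g a
  let σ := EtLimit.secTop p (EtCoh.top T) p (Category.comp_id _)
  let τ : (EtCoh.bc p).obj (EtCoh.top T) ⟶ EtCoh.top _ :=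
    MorphismProperty.Over.homMk ((EtCoh.bc p).obj (EtCoh.top T)).hom (Category.comp_id _)
  haveI : IsIso σ := ⟨τ, MorphismProperty.Over.Hom.ext (pullback.lift_snd _ _ _),
    ConnFib.bc_top_hom_ext p _ _⟩
  have h1 : Function.Bijective (ConnFib.un p F (EtCoh.top T)) :=
    ConnFib.un_top_bijective_of_flat _
      (fun Ω _ _ s => (inferInstance : GeometricallyConnected p).geometrically_connectedSpace _ _ _
        (.of_hasPullback _ _)) F
  exact ((ConcreteCategory.isIso_iff_bijective (((EtCoh.pull p).obj F).obj.map σ.op)).1 inferInstance).comp h1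

variable {X Y T : Scheme.{u}} {f : X ⟶ Spec (CommRingCat.of k)} {g : T ⟶ Spec (CommRingCat.of k)}
  {h : Y ⟶ X} {e : Y ⟶ T} (c : IsPullback e h g f)

/-- The canonical map to the final object. -/
noncomputable def toTopBc (W' : Y.Etale) : W' ⟶ (EtCoh.bc e).obj (EtCoh.top T) :=
  MorphismProperty.Over.homMk (pullback.lift (W'.hom ≫ e) W'.hom (Category.comp_id _))
    (pullback.lift_snd _ _ _)

include c in
/-- Sections of the inverse image are, locally on the source, pulled back from the base. -/
theorem exists_eq_un [QuasiCompact g] (F : EtCoh.Ab T) (U : X.Etale)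
    (τ : ((EtCoh.pull e).obj F).obj.obj (op ((EtCoh.bc h).obj U))) (u : U.left) :
    ∃ (σ : F.obj.obj (op (EtCoh.top T))) (N : U.left.Opens), u ∈ N ∧
      ((EtCoh.pull e).obj F).obj.map ((EtCoh.bc h).map (openHom U N)).op τ =
        ((EtCoh.pull e).obj F).obj.map
          ((EtCoh.bc h).map (openHom U N) ≫ toTopBc ((EtCoh.bc h).obj U)).op
          (ConnFib.un e F (EtCoh.top T) σ) := by
  haveI : QuasiCompact h := MorphismProperty.of_isPullback c ‹_›
  let W' := (EtCoh.bc h).obj U
  let P := Spec (U.left.presheaf.stalk u)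
  let ιP : P ⟶ U.left := U.left.fromSpecStalk u
  let aP := ιP ≫ U.hom ≫ f
  haveI : ConnectedSpace P := connectedSpace_spec_of_isLocalRing _
  let pT := pullback.fst g aP
  let pY : pullback g aP ⟶ Y := c.lift pT (pullback.snd g aP ≫ ιP ≫ U.hom)
    (pullback.condition.trans (by simp [aP]))
  let m : pullback g aP ⟶ W'.left := pullback.lift (pullback.snd g aP ≫ ιP) pY
    ((Category.assoc _ _ _).trans (c.lift_snd _ _ _).symm)
  have hm : m ≫ W'.hom = pY := pullback.lift_snd _ _ _
  have hpe : pY ≫ e = pT := c.lift_fst _ _ _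
  let ν := ((((EtCore.pullComp pY e).symm ≪≫ EtCore.pullCongr hpe).app F).hom)
  have hν : Function.Injective (ν.hom.app (op (EtCoh.top (pullback g aP)))) :=
    ((ConcreteCategory.isIso_iff_bijective _).1
      (inferInstanceAs (IsIso (((sheafToPresheaf _ _).map ν).app (op (EtCoh.top _)))))).1
  let G := (EtCoh.pull e).obj F
  obtain ⟨σ, hσ⟩ := (sec_top_bijective g aP F).2
    (ν.hom.app (op (EtCoh.top _)) (EtLimit.sec pY W' m hm G τ))
  let η := ConnFib.un e F (EtCoh.top T) σ
  let m' : pullback g aP ⟶ ((EtCoh.bc e).obj (EtCoh.top T)).left :=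
    pullback.lift pT pY ((Category.comp_id _).trans hpe.symm)
  have h1 : ν.hom.app (op (EtCoh.top _))
      (EtLimit.sec pY ((EtCoh.bc e).obj (EtCoh.top T)) m' (pullback.lift_snd _ _ _) G η) =
      EtLimit.sec pT (EtCoh.top T) pT (Category.comp_id _) F σ :=
    EtLimit.via_sec pY e hpe F (EtCoh.top T) m' (pullback.lift_snd _ _ _) pT (Category.comp_id _)
      (pullback.lift_fst _ _ _) σ
  have h2 : EtLimit.sec pY W' m hm G (G.obj.map (toTopBc W').op η) =
      EtLimit.sec pY ((EtCoh.bc e).obj (EtCoh.top T)) m' (pullback.lift_snd _ _ _) G η :=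
    EtLimit.sec_res pY _ m' (pullback.lift_snd _ _ _) (toTopBc W') m hm (pullback.hom_ext
      ((Category.assoc _ _ _).trans ((congrArg (m ≫ ·) (pullback.lift_fst _ _ _)).trans
        ((Category.assoc _ _ _).symm.trans ((congrArg (· ≫ e) hm).trans
          (hpe.trans (pullback.lift_fst _ _ _).symm)))))
      ((Category.assoc _ _ _).trans ((congrArg (m ≫ ·) (pullback.lift_snd _ _ _)).trans
        (hm.trans (pullback.lift_snd _ _ _).symm)))) G η
  let δ : G.obj.obj (op W') := τ - G.obj.map (toTopBc W').op η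
  have hδ : EtLimit.sec pY W' m hm G δ = 0 := by
    rw [map_sub, sub_eq_zero]
    exact hν ((hσ.symm.trans h1.symm).trans (congrArg _ h2.symm))
  have hrange : ∀ q, m.base q ∈ vanishSet G W' δ := fun q => by
    have h0 : (EtLimit.secTop pY W' m hm).left.base q ∈
        vanishSet ((EtCoh.pull pY).obj G) ((EtCoh.bc pY).obj W') (ConnFib.un pY G W' δ) := by
      have := (Set.ext_iff.1 (ConnFib.preimage_vanishSet ((EtCoh.pull pY).obj G)
        (EtLimit.secTop pY W' m hm) (ConnFib.un pY G W' δ)) q).1
      refine this ?_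
      exact ⟨EtCoh.top _, 𝟙 _, ⟨q, rfl⟩, (congrArg _ (show ConnFib.res _ _ _ = 0 from hδ)).trans (map_zero _)⟩
    rw [ConnFib.vanishSet_un] at h0
    rw [← EtLimit.secTop_fst pY W' m hm]
    exact h0
  let π : W'.left ⟶ U.left := pullback.fst U.hom h
  haveI : QuasiCompact π := MorphismProperty.pullback_fst _ _ ‹_›
  let Z : TopologicalSpace.Closeds W'.left := ⟨(vanishSet G W' δ)ᶜ, (isOpen_vanishSet G W' δ).isClosed_compl⟩
  let i := (Scheme.IdealSheafData.vanishingIdeal Z).subschemeι
  have hi : Set.range i.base = (vanishSet G W' δ)ᶜ := by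
    rw [Scheme.IdealSheafData.range_subschemeι, Scheme.IdealSheafData.coe_support_vanishingIdeal]
    rfl
  have cm : IsPullback (pullback.snd g aP) m ιP π := by
    have hbig : IsPullback (pullback.snd g aP) (m ≫ pullback.snd U.hom h ≫ e) (ιP ≫ U.hom ≫ f) g := by
      have : m ≫ pullback.snd U.hom h ≫ e = pT := by
        rw [← Category.assoc]; exact (congrArg (· ≫ e) hm).trans hpe
      rw [this]
      exact (IsPullback.of_hasPullback g aP).flip
    exact IsPullback.of_bot hbig (pullback.lift_fst _ _ _).symm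
      ((IsPullback.of_hasPullback U.hom h).paste_vert c.flip)
  have hu : u ∉ closure (Set.range (i ≫ π).base) := fun hu => by
    obtain ⟨z, hz⟩ := Groth.PropsBasic2.exists_specializes_of_mem_closure_range (i ≫ π) hu
    obtain ⟨x, hx⟩ : π.base (i.base z) ∈ Set.range ιP.base := by
      rw [Scheme.range_fromSpecStalk]
      exact hz
    obtain ⟨q, -, hq⟩ := Scheme.exists_preimage_of_isPullback cm x (i.base z) hx
    exact ((Set.ext_iff.1 hi (i.base z)).1 ⟨z, rfl⟩) (hq ▸ hrange q)
  let N : U.left.Opens := ⟨(closure (Set.range (i ≫ π).base))ᶜ, isClosed_closure.isOpen_compl⟩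
  refine ⟨σ, N, hu, ?_⟩
  have hz : G.obj.map ((EtCoh.bc h).map (openHom U N)).op δ = 0 := by
    refine (map_eq_zero_iff_range_subset G _ δ).2 ?_
    rintro _ ⟨z, rfl⟩
    by_contra hn
    obtain ⟨z', hz'⟩ := (Set.ext_iff.1 hi _).2 hn
    have e1 : π.base (((EtCoh.bc h).map (openHom U N)).left.base z) =
        N.ι.base ((pullback.fst (openObj U N).hom h).base z) :=
      congrArg (fun m : pullback (openObj U N).hom h ⟶ U.left => m.base z) (pullback.lift_fst _ _ _)
    have hmem : N.ι.base ((pullback.fst (openObj U N).hom h).base z) ∈ N :=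
      ((pullback.fst (openObj U N).hom h).base z).2
    refine hmem (subset_closure ⟨z', ?_⟩)
    rw [← e1, ← hz']
    rfl
  rw [map_sub, sub_eq_zero] at hz
  exact hz.trans (EtLimit.mapMap G.obj _ _ η)

include c in
/-- Base change in degree zero from a separably closed field. -/
theorem isIso_baseChange0 [QuasiCompact g] (F : EtCoh.Ab T) :
    IsIso (EtCoh.baseChange0 g f h e c.w F) := by
  refine isIso_of_exists_stalk _ fun x => ?_
  let K := AlgebraicClosure (X.residueField x)
  let ξ : Spec (CommRingCat.of K) ⟶ X :=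
    Spec.map (CommRingCat.ofHom (algebraMap (X.residueField x) K)) ≫ X.fromSpecResidueField x
  refine ⟨K, inferInstance, inferInstance, ξ, Scheme.fromSpecResidueField_apply x _, ?_, ?_⟩
  · rw [injective_iff_map_eq_zero]
    intro a ha
    obtain ⟨a₀, rfl⟩ : ∃ a₀, (stalkPullIso f ξ).hom.app ((EtCoh.push g).obj F) a₀ = a :=
      ((ConcreteCategory.isIso_iff_bijective ((stalkPullIso f ξ).hom.app _)).1 inferInstance).2 a
    obtain ⟨V', s', σ', rfl⟩ := germ_surjective _ _ a₀
    obtain ⟨N, hsN, hN⟩ := ConnFib.exists_isolated V' (fiberPoint (ξ ≫ f) s')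
    obtain ⟨s, hs⟩ := exists_lift_open (ξ ≫ f) N s' hsN
    let V := openObj V' N
    let σ := ((EtCoh.push g).obj F).obj.map (openHom V' N).op σ'
    have hg : germ (ξ ≫ f) ((EtCoh.push g).obj F) V' s' σ' =
        germ (ξ ≫ f) ((EtCoh.push g).obj F) V s σ := by
      rw [germ_res, hs]
    rw [hg] at ha ⊢
    rw [stalk_baseChange0_germ g f h e c F ξ] at ha
    obtain ⟨W, j, w, hw, hz⟩ := (germ_eq_zero_iff ξ _ _ _ _).1 ha
    suffices hσ : σ = 0 by rw [hσ]; exact (congrArg _ (map_zero _)).trans (map_zero _)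
    let G := (EtCoh.pull e).obj F
    let ψ : (EtCoh.bc h).obj W ⟶ (EtCoh.bc e).obj ((EtCoh.bc g).obj V) :=
      (EtCoh.bc h).map j ≫ bcSq g f h e c.w V
    have hψ : G.obj.map ψ.op (ConnFib.un e F _ σ) = 0 := by
      exact ((EtLimit.mapMap G.obj _ _ _).symm).trans hz
    let l : ((EtCoh.bc h).obj W).left ⟶ ((EtCoh.bc g).obj V).left :=
      ψ.left ≫ pullback.fst (pullback.snd V.hom g) e
    have hl1 : pullback.fst W.hom h ≫ (j.left ≫ pullback.fst V.hom f) = l ≫ pullback.fst V.hom g := by
      have k1 : ((EtCoh.bc h).map j).left ≫ pullback.fst (pullback.snd V.hom f) h =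
          pullback.fst W.hom h ≫ j.left := pullback.lift_fst _ _ _
      refine Eq.trans ?_ (Category.assoc _ _ _).symm
      refine Eq.trans ?_ (Category.assoc _ _ _).symm
      refine Eq.trans ?_ (congrArg (((EtCoh.bc h).map j).left ≫ ·) (bcSq_fst g f h e c.w V)).symm
      exact ((congrArg (· ≫ pullback.fst V.hom f) k1).trans (Category.assoc _ _ _)).symm.trans
        (Category.assoc _ _ _)
    have hl2 : l ≫ pullback.snd V.hom g = pullback.snd W.hom h ≫ e :=
      (Category.assoc _ _ _).trans ((congrArg (ψ.left ≫ ·) pullback.condition).trans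
        ((Category.assoc _ _ _).symm.trans (congrArg (· ≫ e) (Over.w ψ.hom))))
    have hjv : (j.left ≫ pullback.fst V.hom f) ≫ V.hom = W.hom ≫ f :=
      (Category.assoc _ _ _).trans ((congrArg (j.left ≫ ·) pullback.condition).trans
        ((Category.assoc _ _ _).symm.trans (congrArg (· ≫ f) (Over.w j.hom))))
    have cl : IsPullback (pullback.fst W.hom h) l (j.left ≫ pullback.fst V.hom f) (pullback.fst V.hom g) := by
      refine IsPullback.of_bot ?_ hl1 (IsPullback.of_hasPullback V.hom g)
      exact (congrArg₂ (fun a b => IsPullback (pullback.fst W.hom h) a b g) hl2 hjv).mpr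
        ((IsPullback.of_hasPullback W.hom h).paste_vert c.flip)
    refine section_eq_zero_of_germs F _ σ fun z => ?_
    obtain ⟨q, -, rfl⟩ := Scheme.exists_preimage_of_isPullback cl (fiberPoint ξ w) z
      (Subtype.ext ((hN _ ((j.left ≫ pullback.fst V.hom f).base (fiberPoint ξ w)).2
        (Subsingleton.elim (α := PrimeSpectrum k) _ _)).trans
        (hN _ ((pullback.fst V.hom g).base z).2 (Subsingleton.elim (α := PrimeSpectrum k) _ _)).symm))
    have h0 : ψ.left.base q ∈ vanishSet G _ (ConnFib.un e F _ σ) := by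
      refine (Set.ext_iff.1 (ConnFib.preimage_vanishSet G ψ (ConnFib.un e F _ σ)) q).1 ?_
      exact ⟨_, 𝟙 _, ⟨q, rfl⟩, (congrArg _ hψ).trans (map_zero _)⟩
    rw [ConnFib.vanishSet_un] at h0
    obtain ⟨W₂, j₂, w₂, hw₂⟩ := h0
    exact ⟨W₂, j₂, w₂, hw₂⟩
  · intro b
    obtain ⟨U, t, τ, rfl⟩ := germ_surjective ξ _ b
    obtain ⟨σ, N, hu, hN⟩ := exists_eq_un c F U τ (fiberPoint ξ t)
    obtain ⟨t', ht'⟩ := exists_lift_open ξ N t hu
    let V := EtCoh.top (Spec (CommRingCat.of k))
    let s : (Scheme.pointSmallEtale (ξ ≫ f)).fiber.obj V := Over.homMk (ξ ≫ f) (Category.comp_id _)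
    let φ : (EtCoh.bc g).obj V ⟶ EtCoh.top T :=
      MorphismProperty.Over.homMk ((EtCoh.bc g).obj V).hom (Category.comp_id _)
    refine ⟨(stalkPullIso f ξ).hom.app _
      (germ (ξ ≫ f) ((EtCoh.push g).obj F) V s (F.obj.map φ.op σ)), ?_⟩
    rw [stalk_baseChange0_germ g f h e c F ξ]
    let ρ : openObj U N ⟶ (EtCoh.bc f).obj V :=
      MorphismProperty.Over.homMk (pullback.lift ((openObj U N).hom ≫ f) (openObj U N).hom (Category.comp_id _))
        (pullback.lift_snd _ _ _)
    have hρ : (Scheme.pointSmallEtale ξ).fiber.map ρ t' = pushLift f ξ rfl V s := by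
      apply fiber_bc_ext
      refine Eq.trans ?_ (pullback.lift_fst _ _ _).symm
      refine (Category.assoc _ _ _).trans ((congrArg (t'.left ≫ ·) (pullback.lift_fst _ _ _)).trans ?_)
      exact (Category.assoc _ _ _).symm.trans (congrArg (· ≫ f) (Over.w t'))
    let G := (EtCoh.pull e).obj F
    rw [← hρ, ← ht', ← germ_res, ← germ_res]
    refine congrArg (fun y => germ ξ ((EtCoh.push h).obj G) (openObj U N) t' y) ?_
    show G.obj.map ((EtCoh.bc h).map ρ).op (G.obj.map (bcSq g f h e c.w V).op
        (ConnFib.un e F _ (F.obj.map φ.op σ))) = G.obj.map ((EtCoh.bc h).map (openHom U N)).op τ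
    rw [hN]
    refine Eq.trans (congrArg _ (congrArg _ (ConnFib.un_res e F φ σ))) ?_
    refine (congrArg _ (EtLimit.mapMap G.obj _ _ _)).trans ((EtLimit.mapMap G.obj _ _ _).trans ?_)
    exact congrArg (fun m => G.obj.map (Quiver.Hom.op m) (ConnFib.un e F (EtCoh.top T) σ))
      (ConnFib.bc_top_hom_ext e _ _)

end Groth.EtPbc.SepClosedBC
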