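import Groth.Agent.EtaleDeep.Cons.AbSpec
import Groth.Agent.EtaleDeep.Cons.PushFinite
import Groth.Agent.EtaleDeep.Cons.Noetherian
import Groth.Agent.EtaleDeep.Cons.AbCriteria
import Groth.Agent.S9702

/-!
# Descent of finite local constancy and of stratifications along surjections
-/

set_option autoImplicit false
set_option backward.isDefEq.respectTransparency.types false
set_option linter.style.haveILetI false

universe u v

open CategoryTheory CategoryTheory.Limits AlgebraicGeometry Opposite Topology TopologicalSpace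

namespace Groth.EtPbc.StrataDescend

open Groth.EtaleBase Groth.EtaleBase.LocConst Groth.EtaleBase.SitePt Groth.EtaleDeep.Cons

/-- Finite local constancy descends along universally closed surjections. -/
theorem isFLC_of_pull {Z V : Scheme.{u}} (f : Z ⟶ V) [Surjective f] [UniversallyClosed f] (G : EtCoh.Ab V)
    (hG : EtCoh.IsFiniteLocallyConstant ((EtCoh.pull f).obj G)) : EtCoh.IsFiniteLocallyConstant G := by
  refine isFLC_iff.2 fun v => ?_
  obtain ⟨z, hz⟩ := f.surjective v
  let η := geomPoint z ≫ f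
  have hη : η.base default = v := by
    show (geomPoint z ≫ f).base default = v
    rw [Scheme.Hom.comp_apply, geomPoint_apply]
    exact hz
  haveI hz' : Finite ((EtCoh.stalk (geomPoint z)).obj ((EtCoh.pull f).obj G)) :=
    finite_stalk_of_isConstructibleAb (isConstructible_of_isFLC hG) (geomPoint z)
  haveI : Finite ((EtCoh.pull f ⋙ EtCoh.stalk (geomPoint z)).obj G) := hz'
  haveI : Finite ((EtCoh.stalk η).obj G) := Finite.of_equiv _
    ((stalkPullIso f (geomPoint z)).app G).addCommGroupIsoToAddEquiv.toEquiv.symm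
  haveI : Finite ((EtCoh.stalk (geomPoint v)).obj G) := by
    obtain ⟨θ⟩ := nonempty_pointHom η (geomPoint v) (specializes_of_eq (hη.trans (geomPoint_apply _ _).symm))
    exact Finite.of_injective _
      (injective_sheafFiber_of_same_point θ (hη.trans (geomPoint_apply _ _).symm) G)
  obtain ⟨W, w, M, _, _, s, hs⟩ := exists_section G (geomPoint v)
  let p := pullback.fst W.hom f
  haveI : UniversallyClosed p := MorphismProperty.pullback_fst _ _ inferInstance
  haveI : Surjective p := MorphismProperty.pullback_fst _ _ inferInstance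
  have hB : IsOpen (bijLocus G W s) := by
    have h1 := isOpen_bijLocus hG ((EtCoh.bc f).obj W)
      (((((EtCoh.pullPushAdj f).unit.app G).hom.app (op W)).hom).comp s)
    rw [bijLocus_pull] at h1
    have h2 : IsClosed (p.base '' (p.base ⁻¹' bijLocus G W s)ᶜ) := p.isClosedMap _ h1.isClosed_compl
    rw [← Set.preimage_compl, Set.image_preimage_eq _ p.surjective] at h2
    exact isClosed_compl_iff.1 h2
  have hw : fiberPoint (geomPoint v) w ∈ bijLocus G W s := fun Ω _ _ ξ t ht =>
    bijective_germ_of_fiberPoint_eq G W s t w ht hs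
  let O : W.left.Opens := ⟨bijLocus G W s, hB⟩
  obtain ⟨w', hw'⟩ := exists_lift_open (geomPoint v) O w hw
  refine ⟨openObj W O, ⟨fiberPoint (geomPoint v) w', (hom_fiberPoint _ w').trans (geomPoint_apply _ _)⟩,
    M, inferInstance, inferInstance, res (openHom W O) s, fun Ω _ _ ξ t => ?_⟩
  have hmem : fiberPoint ξ ((Scheme.pointSmallEtale ξ).fiber.map (openHom W O) t) ∈ bijLocus G W s := by
    rw [fiberPoint_map]
    exact (fiberPoint ξ t).2
  refine (congrArg Function.Bijective (funext fun a => ?_)).mpr (hmem Ω ξ _ rfl)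
  exact germ_res ξ G (openHom W O) t (s a)

variable {X : Scheme.{u}}

/-- Near a generic point, a family of sheaves is finite locally constant as soon as it is so on a
stratification of a cover of finite type. -/
theorem exists_open_flcOn {X' T : Scheme.{u}} [AlgebraicGeometry.IsNoetherian X] [IsLocallyNoetherian T]
    [IrreducibleSpace T] [IsReduced T] (g : T ⟶ X) [IsImmersion g] (q : X' ⟶ X) [Surjective q]
    [LocallyOfFiniteType q] [QuasiCompact q] {ι : Type v} (F : ι → EtCoh.Ab X) {n : ℕ} (S : Fin n → Scheme.{u})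
    (s : ∀ i, S i ⟶ X') [∀ i, IsImmersion (s i)] (hcov : (⋃ i, Set.range (s i).base) = Set.univ)
    (hF : ∀ k i, FLCOn (F k) (s i ≫ q)) :
    ∃ V : T.Opens, genericPoint T ∈ V ∧ ∀ k, FLCOn (F k) (V.ι ≫ g) := by
  let P := pullback g q
  let a : P ⟶ T := pullback.fst g q
  haveI : Surjective a := MorphismProperty.pullback_fst _ _ inferInstance
  haveI : LocallyOfFiniteType a := MorphismProperty.pullback_fst _ _ inferInstance
  haveI : QuasiCompact a := MorphismProperty.pullback_fst _ _ inferInstance
  haveI : IsLocallyNoetherian P := LocallyOfFiniteType.isLocallyNoetherian a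
  -- a point over the generic point which is closed in the fibre
  let C := a.base ⁻¹' {genericPoint T}
  obtain ⟨x', hx'⟩ : ∃ x' ∈ C, ∀ y ∈ C, x' ⤳ y → y = x' := by
    haveI : CompactSpace C := isCompact_iff_compactSpace.1 (a.isCompact_preimage_singleton _)
    haveI : Nonempty C := let ⟨y, hy⟩ := a.surjective (genericPoint T); ⟨⟨y, hy⟩⟩
    obtain ⟨⟨y, hy⟩, -, hyc⟩ := IsClosed.exists_closed_singleton (isClosed_univ : IsClosed (Set.univ : Set C))
      Set.univ_nonempty
    refine ⟨y, hy, fun z hz hyz => ?_⟩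
    have h1 : (⟨y, hy⟩ : C) ⤳ ⟨z, hz⟩ := IsInducing.subtypeVal.specializes_iff.1 hyz
    exact congrArg Subtype.val (Set.mem_singleton_iff.1 (h1.mem_closed hyc (Set.mem_singleton _)))
  obtain ⟨i, hi⟩ := Set.mem_iUnion.1 (hcov.ge (Set.mem_univ ((pullback.snd g q).base x')))
  -- the reduced closure of the point, inside the stratum
  let L : Set P := closure {x'} ∩ (pullback.snd g q).base ⁻¹' Set.range (s i).base
  have hL : IsLocallyClosed L := (isClosed_closure.isLocallyClosed).inter
    ((s i).isLocallyClosed_range.preimage (pullback.snd g q).continuous)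
  obtain ⟨Z, j, hj, hZred, hjr⟩ := (Groth.PropsBasic2.existsUnique_reduced P L hL).1
  have hx'L : x' ∈ L := ⟨subset_closure rfl, hi⟩
  obtain ⟨z₀, hz₀⟩ := hjr.symm.subset hx'L
  have hz₀g : IsGenericPoint z₀ (Set.univ : Set Z) := by
    refine isGenericPoint_iff_specializes.2 fun z => ⟨fun _ => trivial, fun _ => ?_⟩
    refine j.isEmbedding.isInducing.specializes_iff.1 ?_
    rw [hz₀]
    exact specializes_iff_mem_closure.2 (hjr.subset ⟨z, rfl⟩).1
  haveI : Nonempty Z := ⟨z₀⟩
  haveI : IrreducibleSpace Z := irreducibleSpace_def Z |>.2 hz₀g.isIrreducible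
  haveI : IsIntegral Z := isIntegral_of_irreducibleSpace_of_isReduced Z
  haveI : IsIntegral T := isIntegral_of_irreducibleSpace_of_isReduced T
  let f : Z ⟶ T := j ≫ a
  have hfz : f.base z₀ = genericPoint T := by
    show (j ≫ a).base z₀ = _
    rw [Scheme.Hom.comp_apply, hz₀]
    exact hx'.1
  haveI : IsDominant f := ⟨dense_iff_closure_eq.2 (Set.eq_univ_of_univ_subset
    ((genericPoint_spec T).def.symm.subset.trans (closure_mono (Set.singleton_subset_iff.2 ⟨z₀, hfz⟩))))⟩
  haveI : CompactSpace T := by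
    haveI : NoetherianSpace T := g.isEmbedding.isInducing.noetherianSpace
    infer_instance
  haveI : CompactSpace P := QuasiCompact.compactSpace_of_compactSpace a
  haveI : AlgebraicGeometry.IsNoetherian P := {}
  haveI : NoetherianSpace Z := j.isEmbedding.isInducing.noetherianSpace
  haveI : QuasiCompact f := ⟨fun U _ _ => NoetherianSpace.isCompact _⟩
  have hC : ∀ z : Z, f.base z = genericPoint T → z = genericPoint Z := fun z hz => by
    rw [(genericPoint_spec Z).eq hz₀g]
    refine j.isEmbedding.injective ?_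
    rw [hz₀]
    refine hx'.2 _ ?_ (specializes_iff_mem_closure.2 (hjr.subset ⟨z, rfl⟩).1)
    show a.base (j.base z) = genericPoint T
    rw [← Scheme.Hom.comp_apply]
    exact hz
  obtain ⟨-, hAC, hAD⟩ := Groth.Agent.S9702.result f
  obtain ⟨V, -, hVne, hfin⟩ := (hAD (Or.inr inferInstance)).1 (hAC.2 hC)
  have hηV : genericPoint T ∈ V :=
    ((genericPoint_spec T).mem_open_set_iff V.isOpen).2 (by simpa using hVne.elim fun w => ⟨w.1, w.2⟩)
  haveI := hfin
  haveI : Surjective (f ∣_ V) := ⟨fun w => by
    have hcl : IsClosed (Set.range (f ∣_ V)) := (f ∣_ V).isClosedMap.isClosed_range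
    have hgen : (⟨genericPoint T, hηV⟩ : V) ⤳ w :=
      IsInducing.subtypeVal.specializes_iff.1 ((genericPoint_spec T).specializes trivial)
    refine hgen.mem_closed hcl ⟨⟨z₀, show f.base z₀ ∈ V by rw [hfz]; exact hηV⟩, Subtype.ext ?_⟩
    show (f ∣_ V ≫ V.ι).base _ = _
    rw [morphismRestrict_ι]
    exact hfz⟩
  -- the restriction lands in the stratum
  let k : (f ⁻¹ᵁ V).toScheme ⟶ X' := (f ⁻¹ᵁ V).ι ≫ j ≫ pullback.snd g q
  haveI : IsReduced (f ⁻¹ᵁ V).toScheme := isReduced_of_isOpenImmersion (f ⁻¹ᵁ V).ι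
  have : IsImmersion (pullback.fst k (s i)) := MorphismProperty.pullback_fst _ _ inferInstance
  have hsurj : Surjective (pullback.fst k (s i)) := by
    refine ⟨fun t => ?_⟩
    obtain ⟨y, hy⟩ : k.base t ∈ Set.range (s i).base :=
      (hjr.subset ⟨(f ⁻¹ᵁ V).ι.base t, rfl⟩ : j.base _ ∈ L).2
    obtain ⟨z, hz, -⟩ := Scheme.Pullback.exists_preimage_pullback (f := k) (g := s i) t y hy.symm
    exact ⟨z, hz⟩
  haveI : IsClosedImmersion (pullback.fst k (s i)) :=
    .of_isPreimmersion _ (by rw [hsurj.surj.range_eq]; exact isClosed_univ)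
  haveI := isIso_of_isClosedImmersion_of_surjective (pullback.fst k (s i))
  have hk : k = (inv (pullback.fst k (s i)) ≫ pullback.snd k (s i)) ≫ s i := by
    rw [Category.assoc, ← pullback.condition, IsIso.inv_hom_id_assoc]
  refine ⟨V, hηV, fun m => ?_⟩
  have h1 : FLCOn (F m) (k ≫ q) := by
    rw [hk, Category.assoc]
    exact stable_FLCOn (F m) _ _ (hF m i)
  have e : k ≫ q = f ∣_ V ≫ V.ι ≫ g := by
    rw [morphismRestrict_ι_assoc]
    simp only [k, f, Category.assoc, ← pullback.condition]
    rfl
  rw [e, ← flcOn_pull_iff (V.ι ≫ g) (F m) (f ∣_ V)] at h1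
  intro _
  exact isFLC_of_pull (f ∣_ V) _ h1

end Groth.EtPbc.StrataDescend
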