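import Mathlib
import Groth.Agent.SpectralTopology.Spectral
import Groth.Agent.FlatMor2.CompletelyDecomposed

/-!
# Quasi-finite algebras become split up to nilpotents after a surjective base change
-/

set_option autoImplicit false
set_option linter.style.haveILetI false

universe u

open TensorProduct PrimeSpectrum Topology

namespace Groth.EtPbc.Thick

variable {A : Type u} [CommRing A] {C : Type u} [CommRing C] [Algebra A C]

/-- The universal family of `m` points of a finitely presented algebra. -/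
theorem exists_universal [Algebra.FinitePresentation A C] (m : ℕ) :
    ∃ (B : Type u) (_ : CommRing B) (_ : Algebra A B), Algebra.FinitePresentation A B ∧
      ∃ s : Fin m → (C →ₐ[A] B), ∀ (Ω : Type u) [Field Ω] [Algebra A Ω] (ψ : Fin m → (C →ₐ[A] Ω)),
        ∃ β : B →ₐ[A] Ω, ∀ i, β.comp (s i) = ψ i := by
  obtain ⟨n, π, hπ, hker⟩ := ‹Algebra.FinitePresentation A C›.out
  let ren : Fin m → (MvPolynomial (Fin n) A →ₐ[A] MvPolynomial (Fin m × Fin n) A) := fun i =>
    MvPolynomial.rename (Prod.mk i)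
  let J : Ideal (MvPolynomial (Fin m × Fin n) A) := ⨆ i, (RingHom.ker π.toRingHom).map (ren i).toRingHom
  have hJ : J.FG := Submodule.fg_iSup _ fun i => hker.map _
  have hle : ∀ i, ∀ r ∈ RingHom.ker π, ((Ideal.Quotient.mkₐ A J).comp (ren i)) r = 0 := fun i r hr =>
    Ideal.Quotient.eq_zero_iff_mem.2 (le_iSup (fun i => (RingHom.ker π.toRingHom).map (ren i).toRingHom) i
      (Ideal.mem_map_of_mem _ hr))
  let s : Fin m → (C →ₐ[A] MvPolynomial (Fin m × Fin n) A ⧸ J) := fun i =>
    AlgHom.liftOfSurjective π hπ ((Ideal.Quotient.mkₐ A J).comp (ren i)) (hle i)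
  have hsC : ∀ i r, s i (π r) = Ideal.Quotient.mk J (ren i r) := fun i r =>
    AlgHom.liftOfSurjective_apply π hπ _ (hle i) r
  refine ⟨_, inferInstance, inferInstance, Algebra.FinitePresentation.quotient hJ, s, fun Ω _ _ ψ => ?_⟩
  let ε : MvPolynomial (Fin m × Fin n) A →ₐ[A] Ω := MvPolynomial.aeval fun p => ψ p.1 (π (MvPolynomial.X p.2))
  have hε : ∀ i, ε.comp (ren i) = (ψ i).comp π := fun i => MvPolynomial.algHom_ext fun l => by
    simp [ε, ren]
  have hJε : ∀ a ∈ J, ε a = 0 := by
    intro a ha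
    refine (iSup_le fun i => Ideal.map_le_iff_le_comap.2 fun r hr => ?_ : J ≤ RingHom.ker ε.toRingHom) ha
    show ε (ren i r) = 0
    rw [show ε (ren i r) = ψ i (π r) from DFunLike.congr_fun (hε i) r,
      show π r = 0 from hr, map_zero]
  refine ⟨Ideal.Quotient.liftₐ J ε hJε, fun i => AlgHom.ext fun c => ?_⟩
  obtain ⟨r, rfl⟩ := hπ c
  rw [AlgHom.comp_apply, hsC]
  exact DFunLike.congr_fun (hε i) r

/-- A split family: pairwise disjoint sections exhausting the primes. -/
structure Split (A : Type u) [CommRing A] (C : Type u) [CommRing C] [Algebra A C] : Type (u + 1) where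
  /-- the base -/
  S : Type u
  [cr : CommRing S]
  [alg : Algebra A S]
  /-- the number of sections -/
  m : ℕ
  /-- the sections -/
  s : Fin m → (C →ₐ[A] S)
  disj : ∀ i j, i ≠ j → Ideal.span (Set.range fun c => s i c - s j c) = ⊤
  cover : ∀ P : Ideal (S ⊗[A] C), P.IsPrime → ∃ i, ∀ c, (1 : S) ⊗ₜ[A] c - s i c ⊗ₜ[A] (1 : C) ∈ P

attribute [instance] Split.cr Split.alg

/-- Every point has a split family over a constructible neighbourhood of it. -/
theorem exists_split [Algebra.FinitePresentation A C] [Algebra.QuasiFinite A C] (x : PrimeSpectrum A) :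
    ∃ (E : Set (PrimeSpectrum A)) (D : Split A C), IsConstructible E ∧ x ∈ E ∧
      E ⊆ Set.range (comap (algebraMap A D.S)) := by
  classical
  obtain ⟨n, π, hπ, -⟩ := ‹Algebra.FinitePresentation A C›.out
  let g : Fin n → C := fun l => π (MvPolynomial.X l)
  have hgen : ∀ (T : Type u) [CommRing T] [Algebra A T] (φ φ' : C →ₐ[A] T),
      (∀ l, φ (g l) = φ' (g l)) → φ = φ' := fun T _ _ φ φ' h =>
    (AlgHom.cancel_right hπ).1 (MvPolynomial.algHom_ext h)
  let Ω := AlgebraicClosure x.asIdeal.ResidueField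
  haveI : Module.Finite Ω (Ω ⊗[A] C) := Module.Finite.of_quasiFinite
  haveI : Finite (C →ₐ[A] Ω) := Finite.of_injective
    (fun φ : C →ₐ[A] Ω => Algebra.TensorProduct.lift (AlgHom.id Ω Ω) φ fun _ _ => Commute.all _ _)
    fun φ φ' h => AlgHom.ext fun c => by simpa using DFunLike.congr_fun h (1 ⊗ₜ c)
  obtain ⟨m, ⟨e⟩⟩ := Finite.exists_equiv_fin (C →ₐ[A] Ω)
  obtain ⟨B, _, _, hB, s, huniv⟩ := exists_universal (A := A) (C := C) m
  haveI := hB
  obtain ⟨β, hβ⟩ := huniv Ω fun i => e.symm i
  let b : PrimeSpectrum B := ⟨RingHom.ker β, RingHom.ker_isPrime β.toRingHom⟩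
  let U : Set (PrimeSpectrum (B ⊗[A] C)) :=
    ⋂ i, (zeroLocus (Set.range fun l => (1 : B) ⊗ₜ[A] g l - s i (g l) ⊗ₜ[A] (1 : C)))ᶜ
  have hzl : ∀ {R : Type u} [CommRing R] (v : Fin n → R), IsConstructible (zeroLocus (Set.range v)) := by
    intro R _ v
    have : zeroLocus (Set.range v) = ⋂ l, (basicOpen (v l) : Set (PrimeSpectrum R))ᶜ := by
      ext p
      simp [mem_zeroLocus, Set.range_subset_iff]
    rw [this]
    exact IsConstructible.iInter fun l => isConstructible_basicOpen.compl
  have hU : IsConstructible U := IsConstructible.iInter fun i => (hzl _).compl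
  let W : Set (PrimeSpectrum B) := (comap (algebraMap B (B ⊗[A] C)) '' U)ᶜ ∩
    ⋂ i, ⋂ j, if i = j then Set.univ else (zeroLocus (Set.range fun l => s i (g l) - s j (g l)))ᶜ
  have hW : IsConstructible W := by
    refine (isConstructible_comap_image ?_ hU).compl.inter
      (IsConstructible.iInter fun i => IsConstructible.iInter fun j => ?_)
    · exact RingHom.finitePresentation_algebraMap.2 inferInstance
    · split_ifs
      · exact IsConstructible.univ
      · exact (hzl _).compl
  have hbW : b ∈ W := by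
    refine ⟨?_, Set.mem_iInter₂.2 fun i j => ?_⟩
    · rintro ⟨P, hPU, hPb⟩
      haveI : b.asIdeal.IsPrime := b.2
      haveI hlies : P.asIdeal.LiesOver b.asIdeal := ⟨(congrArg PrimeSpectrum.asIdeal hPb).symm⟩
      letI : Algebra b.asIdeal.ResidueField P.asIdeal.ResidueField :=
        (Ideal.ResidueField.map b.asIdeal P.asIdeal (algebraMap B (B ⊗[A] C))
          (congrArg PrimeSpectrum.asIdeal hPb).symm).toAlgebra
      haveI : IsScalarTower B b.asIdeal.ResidueField P.asIdeal.ResidueField :=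
        IsScalarTower.of_algebraMap_eq fun y => by
          rw [IsScalarTower.algebraMap_apply B (B ⊗[A] C) P.asIdeal.ResidueField]
          exact (Ideal.ResidueField.map_algebraMap (I := b.asIdeal) (J := P.asIdeal) _ _ y).symm
      haveI : Algebra.QuasiFinite b.asIdeal.ResidueField P.asIdeal.ResidueField :=
        Algebra.QuasiFinite.of_restrictScalars B _ _
      haveI : Module.Finite b.asIdeal.ResidueField P.asIdeal.ResidueField := Module.Finite.of_quasiFinite
      letI : Algebra B Ω := β.toRingHom.toAlgebra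
      let γ : b.asIdeal.ResidueField →+* Ω := Ideal.ResidueField.lift b.asIdeal β.toRingHom le_rfl (by
        intro y hy
        exact isUnit_iff_ne_zero.2 hy)
      letI : Algebra b.asIdeal.ResidueField Ω := γ.toAlgebra
      let lf : P.asIdeal.ResidueField →ₐ[b.asIdeal.ResidueField] Ω := IsAlgClosed.lift
      let χ : B ⊗[A] C →+* Ω := lf.toRingHom.comp (algebraMap (B ⊗[A] C) P.asIdeal.ResidueField)
      have hχB : ∀ y : B, χ (y ⊗ₜ[A] (1 : C)) = β y := fun y => by
        have h1 : algebraMap (B ⊗[A] C) P.asIdeal.ResidueField (y ⊗ₜ[A] (1 : C)) =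
            algebraMap b.asIdeal.ResidueField P.asIdeal.ResidueField (algebraMap B _ y) := by
          rw [← IsScalarTower.algebraMap_apply, IsScalarTower.algebraMap_apply B (B ⊗[A] C)]
          rfl
        show lf _ = _
        rw [h1, AlgHom.commutes]
        exact Ideal.ResidueField.lift_algebraMap _ _ _ _ y
      let ψ : C →ₐ[A] Ω :=
        { χ.comp (Algebra.TensorProduct.includeRight (R := A) (A := B)).toRingHom with
          commutes' := fun a => by
            show χ ((Algebra.TensorProduct.includeRight (R := A) (A := B)) (algebraMap A C a)) = _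
            rw [AlgHom.commutes]
            exact (hχB (algebraMap A B a)).trans (β.commutes a) }
      refine (Set.mem_iInter.1 hPU (e ψ)) ?_
      rintro _ ⟨l, rfl⟩
      have h0 : χ ((1 : B) ⊗ₜ[A] g l - s (e ψ) (g l) ⊗ₜ[A] (1 : C)) = 0 := by
        rw [map_sub, hχB, sub_eq_zero, show β (s (e ψ) (g l)) = e.symm (e ψ) (g l) from
          DFunLike.congr_fun (hβ (e ψ)) (g l), e.symm_apply_apply]
        rfl
      exact Ideal.algebraMap_residueField_eq_zero.1 (lf.toRingHom.injective (h0.trans (map_zero _).symm))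
    · by_cases hij : i = j
      · rw [if_pos hij]
        trivial
      · rw [if_neg hij]
        intro hb
        refine hij (e.symm.injective (hgen Ω _ _ fun l => ?_))
        have h0 : β (s i (g l) - s j (g l)) = 0 := hb ⟨l, rfl⟩
        rw [map_sub, sub_eq_zero, show β (s i (g l)) = _ from DFunLike.congr_fun (hβ i) (g l),
          show β (s j (g l)) = _ from DFunLike.congr_fun (hβ j) (g l)] at h0
        exact h0
  obtain ⟨S, _, f, hf⟩ := exists_range_eq_of_isConstructible hW
  letI : Algebra A S := (f.comp (algebraMap A B)).toAlgebra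
  let φ : B →ₐ[A] S := { f with commutes' := fun _ => rfl }
  refine ⟨comap (algebraMap A B) '' W,
    { S := S, m := m, s := fun i => φ.comp (s i), disj := ?_, cover := ?_ },
    isConstructible_comap_image (RingHom.finitePresentation_algebraMap.2 hB) hW, ⟨b, hbW, ?_⟩, ?_⟩
  · intro i j hij
    by_contra hne
    obtain ⟨M, hM, hle⟩ := Ideal.exists_le_maximal _ hne
    have hw : comap f ⟨M, hM.isPrime⟩ ∈ W := hf.subset ⟨_, rfl⟩
    have h2 := Set.mem_iInter₂.1 hw.2 i j
    rw [if_neg hij] at h2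
    refine h2 ?_
    rintro _ ⟨l, rfl⟩
    show f (s i (g l) - s j (g l)) ∈ M
    rw [map_sub]
    exact hle (Ideal.subset_span ⟨g l, rfl⟩)
  · intro P hP
    let T : B ⊗[A] C →ₐ[A] S ⊗[A] C := Algebra.TensorProduct.map φ (AlgHom.id A C)
    let P' : PrimeSpectrum (B ⊗[A] C) := comap T.toRingHom ⟨P, hP⟩
    let p : PrimeSpectrum S := comap (Algebra.TensorProduct.includeLeftRingHom (R := A)) ⟨P, hP⟩
    have hP' : comap (algebraMap B (B ⊗[A] C)) P' = comap f p := by
      refine PrimeSpectrum.ext (Ideal.ext fun y => ?_)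
      show T (y ⊗ₜ[A] (1 : C)) ∈ P ↔ (f y ⊗ₜ[A] (1 : C)) ∈ P
      rfl
    have hw : comap f p ∈ W := hf.subset ⟨_, rfl⟩
    have hnU : P' ∉ U := fun hU' => hw.1 ⟨P', hU', hP'⟩
    obtain ⟨i, hi⟩ : ∃ i, P' ∈ zeroLocus (Set.range fun l => (1 : B) ⊗ₜ[A] g l - s i (g l) ⊗ₜ[A] (1 : C)) := by
      by_contra hcon
      exact hnU (Set.mem_iInter.2 fun i hi => hcon ⟨i, hi⟩)
    refine ⟨i, ?_⟩
    let mk : S ⊗[A] C →ₐ[A] (S ⊗[A] C) ⧸ P := Ideal.Quotient.mkₐ A P
    have hagree := hgen _ (mk.comp Algebra.TensorProduct.includeRight)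
      ((mk.comp Algebra.TensorProduct.includeLeft).comp (φ.comp (s i))) fun l => by
        refine Ideal.Quotient.eq.2 ?_
        have := hi ⟨l, rfl⟩
        have h3 : T ((1 : B) ⊗ₜ[A] g l - s i (g l) ⊗ₜ[A] (1 : C)) ∈ P := this
        rw [map_sub] at h3
        simpa [T] using h3
    exact fun c => Ideal.Quotient.eq.1 (DFunLike.congr_fun hagree c)
  · refine PrimeSpectrum.ext (Ideal.ext fun a => ?_)
    show β (algebraMap A B a) = 0 ↔ a ∈ x.asIdeal
    rw [β.commutes, IsScalarTower.algebraMap_apply A x.asIdeal.ResidueField Ω, map_eq_zero,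
      Ideal.algebraMap_residueField_eq_zero]
  · rintro _ ⟨w, hw, rfl⟩
    obtain ⟨p, rfl⟩ := hf.symm.subset hw
    exact ⟨p, PrimeSpectrum.ext rfl⟩

/-- A finitely presented quasi-finite algebra becomes, after a base change surjective on spectra and
up to nilpotents, finite etale. -/
theorem exists_surjective_etale [Algebra.FinitePresentation A C] [Algebra.QuasiFinite A C] :
    ∃ (S : Type u) (_ : CommRing S) (_ : Algebra A S), Function.Surjective (comap (algebraMap A S)) ∧
      ∃ (T : Type u) (_ : CommRing T) (_ : Algebra S T) (_ : Algebra A T) (_ : IsScalarTower A S T),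
        Algebra.Etale S T ∧ Module.Finite S T ∧ ∃ q : S ⊗[A] C →ₐ[S] T, Function.Surjective q ∧
          RingHom.ker q ≤ nilradical (S ⊗[A] C) := by
  classical
  choose E D hE hxE hED using exists_split (A := A) (C := C)
  obtain ⟨t, ht⟩ := Groth.FlatMor2.exists_finite_subcover_constructible E hE fun x => ⟨x, hxE x⟩
  let S := ∀ k : t, (D k.1).S
  let T := ∀ p : (Σ k : t, Fin (D k.1).m), (D p.1.1).S
  letI algP : ∀ p : Σ k : t, Fin (D k.1).m, Algebra S (D p.1.1).S := fun p =>
    (Pi.evalRingHom (fun k : t => (D k.1).S) p.1).toAlgebra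
  haveI : ∀ p : Σ k : t, Fin (D k.1).m, IsScalarTower A S (D p.1.1).S := fun p =>
    IsScalarTower.of_algebraMap_eq fun a => rfl
  haveI : IsScalarTower A S T := IsScalarTower.of_algebraMap_eq fun a => rfl
  let σ : C →ₐ[A] T := AlgHom.pi fun p => (D p.1.1).s p.2
  let q : S ⊗[A] C →ₐ[S] T := Algebra.TensorProduct.lift (Algebra.ofId S T) σ fun _ _ => Commute.all _ _
  have hq : ∀ (y : S) (c : C) (p : Σ k : t, Fin (D k.1).m),
      q (y ⊗ₜ c) p = y p.1 * (D p.1.1).s p.2 c := fun y c p => by
    simp [q, σ]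
    rfl
  refine ⟨S, inferInstance, inferInstance, fun x => ?_, T, inferInstance, inferInstance, inferInstance,
    inferInstance, ?_⟩
  · obtain ⟨k, hk, hxk⟩ := ht x
    obtain ⟨p, hp⟩ := hED k hxk
    exact ⟨comap (Pi.evalRingHom (fun k : t => (D k.1).S) ⟨k, hk⟩) p, hp⟩
  have hsurj : Function.Surjective q := by
    intro v
    have key : ∀ p : Σ k : t, Fin (D k.1).m, ∃ z, q z p = 1 ∧ ∀ p', p' ≠ p → q z p' = 0 := by
      rintro ⟨k, i⟩
      have hsep : ∀ j : Fin (D k.1).m, j ≠ i → ∃ z, q z ⟨k, i⟩ = 1 ∧ q z ⟨k, j⟩ = 0 := fun j hj => by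
        let L : Ideal (D k.1).S :=
          { carrier := {a | ∃ z, q z ⟨k, i⟩ = a ∧ q z ⟨k, j⟩ = 0}
            zero_mem' := ⟨0, by rw [map_zero]; rfl, by rw [map_zero]; rfl⟩
            add_mem' := by
              rintro a a' ⟨z, h1, h2⟩ ⟨z', h1', h2'⟩
              exact ⟨z + z', by rw [map_add, Pi.add_apply, h1, h1'], by rw [map_add, Pi.add_apply, h2, h2', add_zero]⟩
            smul_mem' := by
              rintro r a ⟨z, h1, h2⟩
              refine ⟨(Pi.single k r) ⊗ₜ 1 * z, ?_, ?_⟩
              · rw [map_mul, Pi.mul_apply, hq, h1, Pi.single_eq_same, map_one, mul_one, smul_eq_mul]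
              · rw [map_mul, Pi.mul_apply, h2, mul_zero] }
        have hL : L = ⊤ := by
          refine top_le_iff.1 ((D k.1).disj i j hj.symm ▸ Ideal.span_le.2 ?_)
          rintro _ ⟨c, rfl⟩
          refine ⟨(1 : S) ⊗ₜ c - Pi.single k ((D k.1).s j c) ⊗ₜ 1, ?_, ?_⟩
          · rw [map_sub, Pi.sub_apply, hq, hq, Pi.one_apply, one_mul, Pi.single_eq_same, map_one, mul_one]
          · rw [map_sub, Pi.sub_apply, hq, hq, Pi.one_apply, one_mul, Pi.single_eq_same, map_one, mul_one,
              sub_self]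
        exact (Ideal.eq_top_iff_one L).1 hL
      choose z hz1 hz2 using hsep
      refine ⟨(Pi.single k 1) ⊗ₜ 1 * ∏ j : {j // j ≠ i}, z j.1 j.2, ?_, ?_⟩
      · rw [map_mul, Pi.mul_apply, hq, Pi.single_eq_same, map_one, mul_one, one_mul, map_prod, Finset.prod_apply]
        exact Finset.prod_eq_one fun j _ => hz1 _ _
      · rintro ⟨k', j⟩ hne
        rw [map_mul, Pi.mul_apply, hq]
        by_cases hk : k' = k
        · subst hk
          have hj : j ≠ i := fun h => hne (by rw [h])
          rw [map_prod, Finset.prod_apply, Finset.prod_eq_zero (Finset.mem_univ ⟨j, hj⟩) (hz2 j hj), mul_zero]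
        · rw [Pi.single_eq_of_ne hk, zero_mul, zero_mul]
    choose z hz1 hz0 using key
    refine ⟨∑ p, (Pi.single p.1 (v p)) ⊗ₜ 1 * z p, funext fun p' => ?_⟩
    rw [map_sum, Finset.sum_apply, Finset.sum_eq_single p']
    · rw [map_mul, Pi.mul_apply, hq, Pi.single_eq_same, map_one, mul_one, hz1, mul_one]
    · intro p _ hp
      rw [map_mul, Pi.mul_apply, hz0 p p' (Ne.symm hp), mul_zero]
    · exact fun h => absurd (Finset.mem_univ _) h
  refine ⟨?_, ?_, q, hsurj, fun w hw => nilradical_eq_sInf (S ⊗[A] C) ▸ Submodule.mem_sInf.2 fun (P : Ideal (S ⊗[A] C)) (hP : P.IsPrime) => ?_⟩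
  · haveI : ∀ p : Σ k : t, Fin (D k.1).m, Algebra.Etale S (D p.1.1).S := fun p => by
      have he : IsIdempotentElem (Pi.single p.1 1 : S) := by
        show _ * _ = _
        rw [← Pi.single_mul, mul_one]
      haveI : IsLocalization.Away (Pi.single p.1 1 : S) (D p.1.1).S := by
        refine IsLocalization.away_of_isIdempotentElem_of_mul he (fun y y' => ?_) fun a => ⟨Pi.single p.1 a, ?_⟩
        · show y p.1 = y' p.1 ↔ _
          refine ⟨fun h => funext fun k => ?_, fun h => ?_⟩
          · by_cases hk : k = p.1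
            · subst hk; simp [h]
            · simp [Pi.single_eq_of_ne hk]
          · simpa using congrFun h p.1
        · exact Pi.single_eq_same _ _
      exact Algebra.Etale.of_isLocalizationAway (Pi.single p.1 1 : S)
    exact inferInstanceAs (Algebra.Etale S (∀ p : Σ k : t, Fin (D k.1).m, (D p.1.1).S))
  · haveI : ∀ p : Σ k : t, Fin (D k.1).m, Module.Finite S (D p.1.1).S := fun p =>
      Module.Finite.of_surjective (Algebra.linearMap S (D p.1.1).S) fun a => ⟨Pi.single p.1 a, Pi.single_eq_same _ _⟩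
    exact inferInstanceAs (Module.Finite S (∀ p : Σ k : t, Fin (D k.1).m, (D p.1.1).S))
  · haveI : Ideal.IsPrime P := hP
    haveI : IsDomain ((S ⊗[A] C) ⧸ P) := Ideal.Quotient.isDomain P
    obtain ⟨k, hk⟩ : ∃ k : t, ((Pi.single k 1 : S) ⊗ₜ[A] (1 : C)) ∉ P := by
      by_contra hall
      push Not at hall
      refine hP.ne_top ((Ideal.eq_top_iff_one P).2 ?_)
      have : (1 : S) ⊗ₜ[A] (1 : C) = ∑ k : t, (Pi.single k 1 : S) ⊗ₜ[A] (1 : C) := by
        rw [← TensorProduct.sum_tmul, Finset.univ_sum_single]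
        rfl
      rw [Algebra.TensorProduct.one_def, this]
      exact Ideal.sum_mem _ fun k _ => hall k
    have he1 : Ideal.Quotient.mk P ((Pi.single k 1 : S) ⊗ₜ[A] (1 : C)) = 1 := by
      have hidem : Ideal.Quotient.mk P ((Pi.single k 1 : S) ⊗ₜ[A] (1 : C)) *
          Ideal.Quotient.mk P ((Pi.single k 1 : S) ⊗ₜ[A] (1 : C)) =
          Ideal.Quotient.mk P ((Pi.single k 1 : S) ⊗ₜ[A] (1 : C)) * 1 := by
        rw [← map_mul, Algebra.TensorProduct.tmul_mul_tmul, ← Pi.single_mul, mul_one (1 : (D k.1).S), mul_one (1 : C), mul_one (Ideal.Quotient.mk P _)]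
      exact mul_left_cancel₀ (fun h0 => hk (Ideal.Quotient.eq_zero_iff_mem.1 h0)) hidem
    let ι : (D k.1).S →+* (S ⊗[A] C) ⧸ P :=
      { toFun := fun a => Ideal.Quotient.mk P ((Pi.single k a : S) ⊗ₜ[A] (1 : C))
        map_one' := he1
        map_mul' := fun a a' => by
          rw [← map_mul, Algebra.TensorProduct.tmul_mul_tmul, ← Pi.single_mul, mul_one]
        map_zero' := by rw [Pi.single_zero, TensorProduct.zero_tmul, map_zero]
        map_add' := fun a a' => by rw [Pi.single_add, TensorProduct.add_tmul, map_add] }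
    have hι : ∀ y : S, ι (y k) = Ideal.Quotient.mk P (y ⊗ₜ[A] (1 : C)) := fun y => by
      show Ideal.Quotient.mk P _ = _
      rw [← mul_one (Ideal.Quotient.mk P (y ⊗ₜ[A] (1 : C))), ← he1, ← map_mul,
        Algebra.TensorProduct.tmul_mul_tmul, mul_one]
      congr 2
      funext k'
      by_cases hk' : k' = k
      · subst hk'; rw [Pi.mul_apply, Pi.single_eq_same, Pi.single_eq_same, mul_one]
      · rw [Pi.mul_apply, Pi.single_eq_of_ne hk', Pi.single_eq_of_ne hk', mul_zero]
    let ιA : (D k.1).S →ₐ[A] (S ⊗[A] C) ⧸ P :=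
      { ι with commutes' := fun a => (hι (algebraMap A S a)).trans rfl }
    let h : (D k.1).S ⊗[A] C →ₐ[A] (S ⊗[A] C) ⧸ P := Algebra.TensorProduct.lift ιA
      ((Ideal.Quotient.mkₐ A P).comp Algebra.TensorProduct.includeRight) fun x y => mul_comm (ιA x) _
    obtain ⟨i, hi⟩ := (D k.1).cover (RingHom.ker h) (RingHom.ker_isPrime h.toRingHom)
    let ev : T →+* (S ⊗[A] C) ⧸ P := ι.comp (Pi.evalRingHom (fun p : Σ k : t, Fin (D k.1).m => (D p.1.1).S) ⟨k, i⟩)
    have hfac : ev.comp q.toRingHom = Ideal.Quotient.mk P := by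
      refine RingHom.ext fun z => ?_
      induction z using TensorProduct.induction_on with
      | zero => rw [map_zero, map_zero]
      | add a b ha hb => rw [map_add, map_add, ha, hb]
      | tmul y c =>
        show ι (q (y ⊗ₜ c) ⟨k, i⟩) = Ideal.Quotient.mk P (y ⊗ₜ[A] c)
        have hc : h ((1 : (D k.1).S) ⊗ₜ[A] c - (D k.1).s i c ⊗ₜ[A] (1 : C)) = 0 := hi c
        rw [map_sub, sub_eq_zero, Algebra.TensorProduct.lift_tmul, Algebra.TensorProduct.lift_tmul,
          map_one, map_one] at hc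
        replace hc : Ideal.Quotient.mk P ((1 : S) ⊗ₜ[A] c) = ι ((D k.1).s i c) :=
          (one_mul (M := (S ⊗[A] C) ⧸ P) _).symm.trans (hc.trans (mul_one (M := (S ⊗[A] C) ⧸ P) _))
        rw [hq, map_mul, hι, show ι ((D k.1).s i c) = Ideal.Quotient.mk P ((1 : S) ⊗ₜ[A] c) from hc.symm,
          ← map_mul, Algebra.TensorProduct.tmul_mul_tmul, mul_one, one_mul]
    refine Ideal.Quotient.eq_zero_iff_mem.1 ?_
    rw [← hfac, RingHom.comp_apply, show q.toRingHom w = 0 from hw, map_zero]

end Groth.EtPbc.Thick
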